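import Cfsg.Agent.H12.All
import Cfsg.Agent.H12.Graph
/-! Checked twisting data: graph symmetries `gE6, gD4a, gD4b, gD4c, gB2, gF4, gG2` and Levi embeddings `eE7, eE6, eD4, eB2`
(`chk_X : GChk ..`, `sim_X : GSim ..`). -/

set_option autoImplicit false
set_option Elab.async false

namespace H12
open Cfsg.Lie

/-- twisting data -/
noncomputable def gE6 : GData := fastG 0 0x47464542374441363f34313c2d2926244340353e33303d322f2e3b2c28253a2b27392a380f1d0e201c0d221f1b0c1918150a17140912070423211e1a0b1613081106031005020100 0xaa28822208a2a2288aa2288a8a20888228aa 0x555555555555555555555555555555555555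
theorem chk_gE6 : GChk (tab chevE6) (tab chevE6) gE6 := by rw [tabE6_eq]; exact ⟨by decide +kernel, by decide +kernel⟩
theorem sim_gE6 : GSim (tab chevE6) (tab chevE6) gE6 [5, 1, 4, 3, 2, 0] [1, 1, 1, 1, 1, 1] := by rw [tabE6_eq]; decide +kernel
/-- twisting data -/
noncomputable def gD4a : GData := fastG 0 0x17161115100d140f130e0c12050b090408030a0702060100 0xa2222aa8888a 0x555555555555
theorem chk_gD4a : GChk (tab chevD4) (tab chevD4) gD4a := by rw [tabD4_eq]; exact ⟨by decide +kernel, by decide +kernel⟩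
theorem sim_gD4a : GSim (tab chevD4) (tab chevD4) gD4a [2, 1, 3, 0] [1, 1, 1, 1] := by rw [tabD4_eq]; decide +kernel
/-- twisting data -/
noncomputable def gD4b : GData := fastG 0 0x171614110f0c1513100e120d0a05090704020b0806030100 0xa820aaaa082a 0x555555555555
theorem chk_gD4b : GChk (tab chevD4) (tab chevD4) gD4b := by rw [tabD4_eq]; exact ⟨by decide +kernel, by decide +kernel⟩
theorem sim_gD4b : GSim (tab chevD4) (tab chevD4) gD4b [3, 1, 0, 2] [1, 1, 1, 1] := by rw [tabD4_eq]; decide +kernel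
/-- twisting data -/
noncomputable def gD4c : GData := fastG 0 0x171614151312110f100e0c0d0a0b09070806050402030100 0xaaaaaaaaaaaa 0x555555555555
theorem chk_gD4c : GChk (tab chevD4) (tab chevD4) gD4c := by rw [tabD4_eq]; exact ⟨by decide +kernel, by decide +kernel⟩
theorem sim_gD4c : GSim (tab chevD4) (tab chevD4) gD4c [0, 1, 3, 2] [1, 1, 1, 1] := by rw [tabD4_eq]; decide +kernel
/-- twisting data -/
noncomputable def gB2 : GData := fastG 2 0x607040502030001 0xaaaa 0x6969
theorem chk_gB2 : GChk (tab chevB2) (tab chevB2) gB2 := by rw [tabB2_eq]; exact ⟨by decide +kernel, by decide +kernel⟩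
theorem sim_gB2 : GSim (tab chevB2) (tab chevB2) gB2 [1, 0] [2, 1] := by rw [tabB2_eq]; decide +kernel
/-- twisting data -/
noncomputable def gF4 : GData := fastG 2 0x2c28272f26241d2e2d2b202a1f1a1825231c291e19221b210e140d161106130c0a171510050f040201120b0900080703 0xaaaaaaaaaaaaaaaaaaaaaaaa 0x5656aaa95a9556a56aaa9595
theorem chk_gF4 : GChk (tab chevF4) (tab chevF4) gF4 := by rw [tabF4_eq]; exact ⟨by decide +kernel, by decide +kernel⟩
theorem sim_gF4 : GSim (tab chevF4) (tab chevF4) gF4 [3, 2, 1, 0] [2, 2, 1, 1] := by rw [tabF4_eq]; decide +kernel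
/-- twisting data -/
noncomputable def gG2 : GData := fastG 3 0x9080b0a0607040501000302 0xaaaaaa 0x5fd7f5
theorem chk_gG2 : GChk (tab chevG2) (tab chevG2) gG2 := by rw [tabG2_eq]; exact ⟨by decide +kernel, by decide +kernel⟩
theorem sim_gG2 : GSim (tab chevG2) (tab chevG2) gG2 [1, 0] [3, 1] := by rw [tabG2_eq]; decide +kernel
/-- twisting data -/
noncomputable def eE7 : GData := fastG 0 0xe2dbd6d2cfcdccc8c5c3c2bfbdbcbab9b8b5b3b2b0afaeacabaaa9a7a6a5a4a3a29f9d9c9a99989695949391908f8e8d8b8a89888785848382807f7e7c7b7976747371706f6d6c6b6a68676665646261605f5e5c5b5a595756555352504d4c4b4a49484645444341403f3d3c3a3736353332302d2c2a272322201d19140d 0xaaaaaaaaaaaaaaaaaaaaaaaaaaaaaaaaaaaaaaaaaaaaaaaaaaaaaaaaaaaaaaa 0x555555555555555555555555555555555555555555555555555555555555555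
theorem chk_eE7 : GChk (tab chevE7) (tab chevE8) eE7 := by rw [tabE7_eq, tabE8_eq]; exact ⟨by decide +kernel, by decide +kernel⟩
theorem sim_eE7 : GSim (tab chevE7) (tab chevE8) eE7 [0, 1, 2, 3, 4, 5, 6] [1, 1, 1, 1, 1, 1, 1] := by rw [tabE7_eq, tabE8_eq]; decide +kernel
/-- twisting data -/
noncomputable def eE6 : GData := fastG 0 0x7773706e6d6a686765646361605f5e5d5a585755545351504f4e4c4b4a494746454342403d3b3a383736343332312f2e2d2c2a2928262523201f1e1d1c1a1918161513100f0d0a06 0xaaaaaaaaaaaaaaaaaaaaaaaaaaaaaaaaaaaa 0x555555555555555555555555555555555555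
theorem chk_eE6 : GChk (tab chevE6) (tab chevE7) eE6 := by rw [tabE6_eq, tabE7_eq]; exact ⟨by decide +kernel, by decide +kernel⟩
theorem sim_eE6 : GSim (tab chevE6) (tab chevE7) eE6 [0, 1, 2, 3, 4, 5] [1, 1, 1, 1, 1, 1] := by rw [tabE6_eq, tabE7_eq]; decide +kernel
/-- twisting data -/
noncomputable def eD4 : GData := fastG 0 0x353332302f2e2c2b28272a25221d201f1c1b191817151412 0xaaa0aaaa0aaa 0x555555555555
theorem chk_eD4 : GChk (tab chevD4) (tab chevE6) eD4 := by rw [tabD4_eq, tabE6_eq]; exact ⟨by decide +kernel, by decide +kernel⟩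
theorem sim_eD4 : GSim (tab chevD4) (tab chevE6) eD4 [1, 3, 2, 4] [1, 1, 1, 1] := by rw [tabD4_eq, tabE6_eq]; decide +kernel
/-- twisting data -/
noncomputable def eB2 : GData := fastG 0 0x1e1c1b1916141311 0xaaaa 0x5555
theorem chk_eB2 : GChk (tab chevB2) (tab chevF4) eB2 := by rw [tabB2_eq, tabF4_eq]; exact ⟨by decide +kernel, by decide +kernel⟩
theorem sim_eB2 : GSim (tab chevB2) (tab chevF4) eB2 [1, 2] [1, 1] := by rw [tabB2_eq, tabF4_eq]; decide +kernel

end H12
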