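import Cfsg.Agent.H12.Rep
import Cfsg.Agent.H12.Perf
import Cfsg.Prelude.Def_E6

/-! The `27`-dimensional representation of `E₆` (`E27.rep`) and the isometry group of the cubic form: it is generated by the
root elements (`E27.T_eq`), by elimination on the images of the basis vectors. -/

set_option autoImplicit false

namespace H12.E27
open Cfsg.Lie Matrix StSys

def en (a b c d e f : Fin 3) (s : ℤ) : I27 × I27 × ℤ := ((a, b, c), (d, e, f), s)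
def mat (r : ℕ) : Sp I27 := ([[en 1 0 2 0 1 2 1, en 2 0 1 1 1 1 (-1), en 2 1 1 1 1 0 1, en 1 2 2 0 1 0 (-1), en 0 2 1 2 2 0 (-1), en 0 0 1 2 2 2 1],
  [en 1 2 0 1 1 0 (-1), en 1 2 1 1 1 1 (-1), en 1 2 2 1 1 2 (-1), en 0 2 1 0 2 2 1, en 0 1 1 0 1 2 1, en 0 0 1 0 0 2 1],
  [en 0 2 1 0 2 0 1, en 1 0 0 1 1 0 (-1), en 1 0 1 1 1 1 (-1), en 0 1 1 0 1 0 1, en 1 0 2 1 1 2 (-1), en 0 0 1 0 0 0 1],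
  [en 0 2 1 2 0 0 (-1), en 1 0 0 0 1 2 1, en 2 2 1 1 1 1 1, en 1 2 0 0 1 0 (-1), en 0 0 1 2 0 2 1, en 2 1 1 1 1 2 (-1)],
  [en 0 2 1 2 1 0 1, en 1 0 1 0 1 2 (-1), en 2 2 1 1 1 0 1, en 1 2 1 0 1 0 1, en 0 0 1 2 1 2 (-1), en 2 0 1 1 1 2 (-1)],
  [en 0 1 1 2 2 0 (-1), en 1 0 2 0 2 2 (-1), en 2 0 2 1 1 1 1, en 1 2 2 0 2 0 1, en 0 0 1 2 2 1 1, en 2 1 2 1 1 0 (-1)],
  [en 0 0 0 1 1 1 (-1), en 1 2 0 2 2 0 1, en 1 2 2 2 0 0 (-1), en 0 0 1 1 0 1 1, en 2 1 2 0 1 2 1, en 2 1 1 0 2 2 (-1)],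
  [en 0 0 0 1 1 0 (-1), en 1 2 1 2 2 0 (-1), en 1 2 2 2 1 0 1, en 0 0 1 1 0 0 1, en 2 0 2 0 1 2 1, en 2 0 1 0 2 2 (-1)],
  [en 0 0 1 1 2 1 (-1), en 0 0 2 1 1 1 1, en 2 1 2 0 1 0 1, en 1 0 0 2 2 0 1, en 2 1 1 0 2 0 (-1), en 1 0 2 2 0 0 (-1)],
  [en 0 0 1 1 2 0 (-1), en 0 0 2 1 1 0 1, en 2 0 2 0 1 0 1, en 1 0 1 2 2 0 (-1), en 1 0 2 2 1 0 1, en 2 0 1 0 2 0 (-1)],
  [en 0 0 0 0 1 0 (-1), en 0 0 1 0 1 1 (-1), en 0 0 2 0 1 2 (-1), en 2 2 1 2 2 0 1, en 2 0 1 2 0 0 1, en 2 1 1 2 1 0 1],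
  [en 1 0 0 0 2 2 (-1), en 1 2 0 0 2 0 1, en 2 1 2 1 1 2 1, en 0 1 1 2 0 0 (-1), en 0 0 1 2 0 1 1, en 2 2 2 1 1 1 (-1)],
  [en 0 1 1 2 1 0 1, en 1 0 1 0 2 2 1, en 2 0 2 1 1 2 1, en 1 2 1 0 2 0 (-1), en 0 0 1 2 1 1 (-1), en 2 2 2 1 1 0 (-1)],
  [en 0 0 0 1 1 2 (-1), en 1 2 0 2 1 0 (-1), en 1 2 1 2 0 0 1, en 0 0 1 1 0 2 1, en 2 2 2 0 1 2 1, en 2 2 1 0 2 2 (-1)],
  [en 0 0 1 1 2 2 (-1), en 0 0 2 1 1 2 1, en 2 2 2 0 1 0 1, en 1 0 0 2 1 0 (-1), en 1 0 1 2 0 0 1, en 2 2 1 0 2 0 (-1)],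
  [en 0 0 0 0 2 0 1, en 0 0 1 0 2 1 1, en 0 0 2 0 2 2 1, en 2 0 2 2 0 0 (-1), en 2 1 2 2 1 0 (-1), en 2 2 2 2 2 0 (-1)],
  [en 0 1 1 2 2 2 (-1), en 1 0 2 0 0 2 1, en 2 0 0 1 1 1 (-1), en 1 2 2 0 0 0 (-1), en 2 1 0 1 1 0 1, en 0 2 1 2 2 1 1],
  [en 0 2 0 1 1 1 (-1), en 1 2 0 2 2 2 1, en 1 2 2 2 0 2 (-1), en 2 1 0 0 1 2 (-1), en 2 1 1 0 0 2 1, en 0 2 1 1 0 1 1],
  [en 0 2 0 1 1 0 (-1), en 1 2 1 2 2 2 (-1), en 1 2 2 2 1 2 1, en 2 0 0 0 1 2 (-1), en 0 2 1 1 0 0 1, en 2 0 1 0 0 2 1],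
  [en 1 0 0 2 2 2 1, en 2 1 0 0 1 0 (-1), en 2 1 1 0 0 0 1, en 1 0 2 2 0 2 (-1), en 0 2 1 1 2 1 (-1), en 0 2 2 1 1 1 1],
  [en 1 0 1 2 2 2 (-1), en 1 0 2 2 1 2 1, en 2 0 0 0 1 0 (-1), en 0 2 1 1 2 0 (-1), en 0 2 2 1 1 0 1, en 2 0 1 0 0 0 1],
  [en 0 2 1 0 1 1 (-1), en 0 2 2 0 1 2 (-1), en 2 2 1 2 2 2 1, en 2 0 1 2 0 2 1, en 2 1 1 2 1 2 1, en 0 2 0 0 1 0 (-1)],
  [en 2 1 0 2 2 0 1, en 2 1 1 2 2 1 1, en 2 1 2 2 2 2 1, en 1 0 2 1 0 1 (-1), en 1 1 2 1 1 1 (-1), en 1 2 2 1 2 1 (-1)],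
  [en 1 0 2 1 0 0 (-1), en 2 0 0 2 2 0 1, en 2 0 2 2 2 2 1, en 1 1 2 1 1 0 (-1), en 2 0 1 2 2 1 1, en 1 2 2 1 2 0 (-1)],
  [en 1 1 2 0 1 2 1, en 2 0 1 1 0 1 1, en 2 1 1 1 0 0 (-1), en 0 0 0 2 2 2 (-1), en 0 2 0 2 2 0 1, en 1 2 2 0 1 1 (-1)],
  [en 0 0 2 2 2 2 1, en 0 2 2 2 2 0 (-1), en 1 0 2 0 1 1 (-1), en 1 1 2 0 1 0 1, en 2 0 1 1 2 1 (-1), en 2 1 1 1 2 0 1],
  [en 1 0 0 0 0 2 1, en 1 2 0 0 0 0 (-1), en 2 1 0 1 1 2 (-1), en 0 1 1 2 0 2 (-1), en 0 2 1 2 0 1 1, en 2 2 0 1 1 1 1],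
  [en 0 1 1 2 1 2 1, en 1 0 1 0 0 2 (-1), en 2 0 0 1 1 2 (-1), en 0 2 1 2 1 1 (-1), en 2 2 0 1 1 0 1, en 1 2 1 0 0 0 1],
  [en 0 2 1 1 0 2 1, en 2 2 0 0 1 2 (-1), en 2 2 1 0 0 2 1, en 0 2 0 1 1 2 (-1), en 1 2 0 2 1 2 (-1), en 1 2 1 2 0 2 1],
  [en 0 2 1 1 2 2 (-1), en 0 2 2 1 1 2 1, en 1 0 0 2 1 2 (-1), en 1 0 1 2 0 2 1, en 2 2 0 0 1 0 (-1), en 2 2 1 0 0 0 1],
  [en 1 2 0 2 2 1 1, en 2 1 0 0 2 2 1, en 2 1 2 0 0 2 (-1), en 0 1 0 1 1 1 (-1), en 1 2 2 2 0 1 (-1), en 0 1 1 1 0 1 1],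
  [en 0 1 0 1 1 0 (-1), en 1 2 1 2 2 1 (-1), en 1 2 2 2 1 1 1, en 0 1 1 1 0 0 1, en 2 0 0 0 2 2 1, en 2 0 2 0 0 2 (-1)],
  [en 0 0 0 0 0 2 1, en 0 1 0 0 1 2 1, en 0 2 0 0 2 2 1, en 1 2 0 1 0 0 (-1), en 1 2 1 1 0 1 (-1), en 1 2 2 1 0 2 (-1)],
  [en 0 1 1 1 2 1 1, en 0 1 2 1 1 1 (-1), en 1 0 2 2 0 1 1, en 1 0 0 2 2 1 (-1), en 2 1 0 0 2 0 (-1), en 2 1 2 0 0 0 1],
  [en 0 1 1 1 2 0 1, en 0 1 2 1 1 0 (-1), en 1 0 1 2 2 1 1, en 1 0 2 2 1 1 (-1), en 2 0 0 0 2 0 (-1), en 2 0 2 0 0 0 1],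
  [en 1 0 0 1 0 1 1, en 1 1 0 1 1 1 1, en 1 2 0 1 2 1 1, en 2 1 0 2 0 0 (-1), en 2 1 1 2 0 1 (-1), en 2 1 2 2 0 2 (-1)],
  [en 1 0 1 1 0 0 1, en 1 1 1 1 1 0 1, en 1 2 1 1 2 0 1, en 2 0 0 2 1 0 (-1), en 2 0 1 2 1 1 (-1), en 2 0 2 2 1 2 (-1)],
  [en 0 0 0 2 0 2 1, en 0 2 0 2 0 0 (-1), en 1 1 0 0 1 2 (-1), en 1 2 0 0 1 1 1, en 2 1 1 1 0 2 (-1), en 2 2 1 1 0 1 1],
  [en 0 0 0 2 1 2 1, en 0 2 0 2 1 0 (-1), en 2 2 1 1 0 0 (-1), en 1 1 1 0 1 2 (-1), en 1 2 1 0 1 1 1, en 2 0 1 1 0 2 1],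
  [en 0 0 2 0 0 0 1, en 0 1 2 0 1 0 1, en 0 2 2 0 2 0 1, en 1 0 0 1 2 0 (-1), en 1 0 1 1 2 1 (-1), en 1 0 2 1 2 2 (-1)],
  [en 0 0 2 2 0 2 (-1), en 0 2 2 2 0 0 1, en 1 0 0 0 1 1 1, en 1 1 0 0 1 0 (-1), en 2 1 1 1 2 2 1, en 2 2 1 1 2 1 (-1)],
  [en 1 0 1 0 1 1 1, en 1 1 1 0 1 0 (-1), en 2 0 1 1 2 2 (-1), en 0 0 2 2 1 2 (-1), en 0 2 2 2 1 0 1, en 2 2 1 1 2 0 1],
  [en 0 0 0 2 2 1 1, en 0 1 0 2 2 0 (-1), en 1 1 2 0 2 2 1, en 1 2 2 0 2 1 (-1), en 2 0 2 1 0 1 1, en 2 1 2 1 0 0 (-1)],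
  [en 1 1 2 0 2 0 (-1), en 2 0 2 1 2 1 1, en 2 1 2 1 2 0 (-1), en 0 0 2 2 2 1 1, en 0 1 2 2 2 0 (-1), en 1 0 2 0 2 1 1],
  [en 0 0 0 1 2 1 1, en 1 1 0 2 2 0 1, en 2 1 1 0 2 1 (-1), en 1 1 2 2 0 0 (-1), en 2 1 2 0 1 1 1, en 0 0 2 1 0 1 (-1)],
  [en 1 1 1 2 2 0 1, en 2 0 1 0 2 1 1, en 2 0 2 0 1 1 (-1), en 0 0 0 1 2 0 (-1), en 1 1 2 2 1 0 (-1), en 0 0 2 1 0 0 1],
  [en 0 1 0 1 1 2 1, en 0 1 1 1 0 2 (-1), en 1 2 0 2 1 1 1, en 1 2 1 2 0 1 (-1), en 2 2 0 0 2 2 (-1), en 2 2 2 0 0 2 1],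
  [en 0 1 1 1 2 2 (-1), en 2 2 0 0 2 0 1, en 2 2 2 0 0 0 (-1), en 0 1 2 1 1 2 1, en 1 0 0 2 1 1 (-1), en 1 0 1 2 0 1 1],
  [en 1 1 0 1 1 2 (-1), en 1 2 0 1 2 2 (-1), en 2 2 1 2 0 1 1, en 2 2 0 2 0 0 1, en 2 2 2 2 0 2 1, en 1 0 0 1 0 2 (-1)],
  [en 1 0 1 1 0 2 (-1), en 1 1 1 1 1 2 (-1), en 1 2 1 1 2 2 (-1), en 2 2 1 2 1 1 1, en 2 2 0 2 1 0 1, en 2 2 2 2 1 2 1],
  [en 0 1 0 0 2 0 (-1), en 2 0 2 2 0 1 1, en 2 1 2 2 1 1 1, en 0 1 1 0 2 1 (-1), en 2 2 2 2 2 1 1, en 0 1 2 0 2 2 (-1)],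
  [en 0 0 0 2 0 1 1, en 1 1 0 0 2 2 1, en 1 2 0 0 2 1 (-1), en 0 1 0 2 0 0 (-1), en 2 1 2 1 0 2 1, en 2 2 2 1 0 1 (-1)],
  [en 1 1 1 0 2 2 1, en 1 2 1 0 2 1 (-1), en 2 0 2 1 0 2 (-1), en 0 0 0 2 1 1 1, en 0 1 0 2 1 0 (-1), en 2 2 2 1 0 0 1],
  [en 0 0 2 2 0 1 1, en 0 1 2 2 0 0 (-1), en 1 0 0 0 2 1 1, en 1 1 0 0 2 0 (-1), en 2 1 2 1 2 2 1, en 2 2 2 1 2 1 (-1)],
  [en 0 0 2 2 1 1 1, en 0 1 2 2 1 0 (-1), en 1 0 1 0 2 1 1, en 1 1 1 0 2 0 (-1), en 2 0 2 1 2 2 (-1), en 2 2 2 1 2 0 1],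
  [en 0 0 0 1 2 2 (-1), en 1 1 0 2 1 0 1, en 2 2 1 0 2 1 1, en 0 0 2 1 0 2 1, en 1 1 1 2 0 0 (-1), en 2 2 2 0 1 1 (-1)],
  [en 0 2 0 0 0 0 1, en 0 2 1 0 0 1 1, en 0 2 2 0 0 2 1, en 2 0 0 2 0 2 (-1), en 2 1 0 2 1 2 (-1), en 2 2 0 2 2 2 (-1)],
  [en 0 2 0 2 2 1 (-1), en 2 0 0 1 0 1 1, en 2 1 0 1 0 0 (-1), en 0 1 0 2 2 2 1, en 1 1 2 0 0 2 1, en 1 2 2 0 0 1 (-1)],
  [en 0 1 2 2 2 2 1, en 0 2 2 2 2 1 (-1), en 1 0 2 0 0 1 1, en 2 0 0 1 2 1 1, en 2 1 0 1 2 0 (-1), en 1 1 2 0 0 0 (-1)],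
  [en 0 2 0 1 2 1 (-1), en 1 1 0 2 2 2 (-1), en 2 1 1 0 0 1 (-1), en 0 2 2 1 0 1 1, en 2 1 0 0 1 1 1, en 1 1 2 2 0 2 1],
  [en 1 1 1 2 2 2 (-1), en 2 0 0 0 1 1 (-1), en 2 0 1 0 0 1 1, en 0 2 0 1 2 0 1, en 0 2 2 1 0 0 (-1), en 1 1 2 2 1 2 1],
  [en 2 0 0 2 0 1 1, en 2 1 0 2 1 1 1, en 2 2 0 2 2 1 1, en 0 1 0 0 0 0 (-1), en 0 1 1 0 0 1 (-1), en 0 1 2 0 0 2 (-1)],
  [en 0 2 0 2 0 1 (-1), en 2 1 0 1 0 2 1, en 2 2 0 1 0 1 (-1), en 1 1 0 0 0 2 1, en 1 2 0 0 0 1 (-1), en 0 1 0 2 0 2 1],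
  [en 0 2 0 2 1 1 (-1), en 2 0 0 1 0 2 (-1), en 2 2 0 1 0 0 1, en 1 1 1 0 0 2 1, en 1 2 1 0 0 1 (-1), en 0 1 0 2 1 2 1],
  [en 0 1 2 2 0 2 1, en 0 2 2 2 0 1 (-1), en 1 0 0 0 0 1 1, en 2 1 0 1 2 2 1, en 2 2 0 1 2 1 (-1), en 1 1 0 0 0 0 (-1)],
  [en 0 1 2 2 1 2 1, en 0 2 2 2 1 1 (-1), en 1 0 1 0 0 1 1, en 2 0 0 1 2 2 (-1), en 2 2 0 1 2 0 1, en 1 1 1 0 0 0 (-1)],
  [en 0 2 0 1 2 2 1, en 1 1 0 2 1 2 (-1), en 2 2 1 0 0 1 1, en 0 2 2 1 0 2 (-1), en 2 2 0 0 1 1 (-1), en 1 1 1 2 0 2 1],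
  [en 0 1 0 1 2 1 1, en 1 1 2 2 0 1 (-1), en 2 1 2 0 0 1 (-1), en 0 1 2 1 0 1 (-1), en 2 1 0 0 2 1 1, en 1 1 0 2 2 1 1],
  [en 0 1 0 1 2 0 (-1), en 1 1 2 2 1 1 (-1), en 2 0 2 0 0 1 1, en 0 1 2 1 0 0 1, en 2 0 0 0 2 1 (-1), en 1 1 1 2 2 1 1],
  [en 0 0 0 0 0 1 1, en 0 1 0 0 1 1 1, en 1 1 2 1 0 2 (-1), en 0 2 0 0 2 1 1, en 1 1 0 1 0 0 (-1), en 1 1 1 1 0 1 (-1)],
  [en 0 0 2 0 0 1 1, en 0 1 2 0 1 1 1, en 0 2 2 0 2 1 1, en 1 1 2 1 2 2 (-1), en 1 1 0 1 2 0 (-1), en 1 1 1 1 2 1 (-1)],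
  [en 0 1 0 1 2 2 (-1), en 2 2 0 0 2 1 (-1), en 2 2 2 0 0 1 1, en 0 1 2 1 0 2 1, en 1 1 0 2 1 1 1, en 1 1 1 2 0 1 (-1)]] : List (Sp I27)).getD r []
def om (a : I27) (i : ℕ) : ℤ := ent [[-1, 0, 1, -1, 1, 0], [-1, 0, 0, 0, 0, 0], [-1, -1, 0, 1, 0, 0], [0, 1, 1, -1, 0, 0], [0, 1, 0, 0, -1, 0], [0, 0, 0, 1, -1, 0],
  [1, 0, 0, -1, 1, 0], [1, 0, -1, 0, 0, 0], [1, -1, -1, 1, 0, 0], [0, 0, -1, 1, 0, -1], [0, 0, -1, 1, -1, 1], [0, -1, 0, 1, -1, 0], [0, 0, 0, 0, 1, -1],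
  [0, 0, 0, 0, 0, 1], [0, -1, 1, 0, 0, 0], [0, 1, 0, -1, 1, -1], [0, 1, 0, -1, 0, 1], [0, 0, 1, -1, 0, 0], [1, 0, 0, 0, -1, 1], [0, -1, 0, 0, 0, 1],
  [-1, 0, 1, 0, -1, 1], [1, 0, 0, 0, 0, -1], [0, -1, 0, 0, 1, -1], [-1, 0, 1, 0, 0, -1], [1, 1, -1, 0, 0, 0], [0, 0, -1, 0, 1, 0], [-1, 1, 0, 0, 0, 0]]
  (9 * a.1 + 3 * a.2.1 + a.2.2) i
theorem rep : RepChk (tab chevE6) mat (fun _ => []) om := by rw [tabE6_eq]; decide +kernel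

def pa (c : I27) : Fin 5 → I27 := ![(c.1, c.2.1 + 1, c.2.2 + 1), (c.1, c.2.1 + 1, c.2.2 + 2), (c.1 + 1, c.2.2, 0), (c.1 + 1, c.2.2, 1), (c.1 + 1, c.2.2, 2)]
def pb (c : I27) : Fin 5 → I27 := ![(c.1, c.2.1 + 2, c.2.2 + 2), (c.1, c.2.1 + 2, c.2.2 + 1), (c.1 + 2, 0, c.2.1), (c.1 + 2, 1, c.2.1), (c.1 + 2, 2, c.2.1)]
/-- `c, a, b` is a monomial of the cubic form -/
def Tr (c a b : I27) : Prop := ∃ k, (pa c k = a ∧ pb c k = b) ∨ (pa c k = b ∧ pb c k = a)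
def tri (c a : I27) : Prop := ∃ k, pa c k = a ∨ pb c k = a
def Ok (S : List I27) (a b : I27) : Prop := ∃ r < 72, (∃ c ∈ mat r, c.1 = a ∧ c.2.1 = b) ∧ ∀ c ∈ mat r, c.2.1 ∉ S
def Ex (S : List I27) (a b : I27) : Prop := ∃ c ∈ S, ¬ tri c a ∧ tri c b
instance decTr (c a b : I27) : Decidable (Tr c a b) := by unfold Tr; infer_instance
instance dectri (c a : I27) : Decidable (tri c a) := by unfold tri; infer_instance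
noncomputable instance decOk (S : List I27) (a b : I27) : Decidable (Ok S a b) := by unfold Ok; infer_instance
instance decEx (S : List I27) (a b : I27) : Decidable (Ex S a b) := by unfold Ex; infer_instance
def Re (S : List I27) (a b : I27) : Prop := Ex S a b ∨ Ok S a b ∨ ∃ c, Ok S c b ∧ Ok S a c
noncomputable instance decRe (S : List I27) (a b : I27) : Decidable (Re S a b) := by unfold Re; infer_instance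
def Cert (S : List I27) (a : I27) : Prop := (∀ b, b = a ∨ tri a b ∨ Ex S a b ∨ Ok S b a) ∧
  ((∃ c ∈ S, ∃ b ∈ S, Tr c a b) ∨ (∀ b, Re S a b) ∨ ∃ c ∈ S, tri c a ∧ ∀ b, tri c b → Re S a b)
noncomputable instance decCert (S : List I27) (a : I27) : Decidable (Cert S a) := by unfold Cert; infer_instance
def ord : List I27 := [(0, 0, 0), (0, 1, 1), (0, 2, 2), (0, 0, 1), (0, 1, 0), (0, 0, 2), (0, 2, 0), (0, 1, 2), (0, 2, 1), (1, 0, 0), (2, 0, 0), (1, 1, 0), (1, 2, 0),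
  (2, 0, 1), (2, 0, 2), (1, 0, 1), (1, 1, 2), (1, 2, 1), (1, 0, 2), (1, 1, 1), (1, 2, 2), (2, 1, 0), (2, 1, 1), (2, 1, 2), (2, 2, 0), (2, 2, 1), (2, 2, 2)]
theorem cert : (∀ n < 27, Cert (ord.take n) (ord.getD n 0)) ∧ ∀ a, a ∈ ord := by decide +kernel
theorem mat_spec : ∀ r < 72, ∀ c ∈ mat r, c.2.2 ^ 2 = 1 ∧ (∀ b, spC (mat r) c.1 b = if b = c.2.1 then c.2.2 else 0) ∧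
    ∀ d ∈ mat r, d.1 = c.1 ∨ tri c.2.1 d.1 := by decide +kernel
theorem p_inj : ∀ c k k', pa c k ≠ pb c k' ∧ (pa c k = pa c k' ∨ pb c k = pb c k' → k = k') ∧ ¬ tri c c := by decide +kernel
set_option synthInstance.maxSize 1000 in
theorem p_wh : ∀ a b, tri a b → ∃ c k, ((pa c k = a ∧ pb c k = b) ∨ (pa c k = b ∧ pb c k = a)) ∧ ∀ k' ≠ k, pa c k' ≠ a ∧ ¬ tri a (pa c k') := by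
  decide +kernel

end H12.E27
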