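import Cfsg.Agent.H12.Fi6

/-! Bit-packed evaluation of words in root elements of the adjoint group `E₆` over a field of characteristic `2` containing `F₄`
(`Fi.ev_act`, `Fi.pow_eq_one`, `Fi.mem_G1`). -/

set_option autoImplicit false

namespace H12.Fi
open Cfsg.Lie Matrix StSys

variable {K : Type*} [Field K]
theorem m2_one : m2 K one = 1 := by ext a b; simp [m2, bt, sp_spec.1 _ (ix_lt a) _ (ix_lt b), ix_inj, one_apply]
@[simp] theorem m2_zero : m2 K 0 = 0 := by ext a b; simp [m2, bt]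
theorem m2_sh {c : ℕ × ℕ} (h : c.2 < 78) : ∃ A : Matrix J J K, ∀ x, m2 K (sh c x) = A * m2 K x := by
  obtain ⟨b, hb⟩ := ix_surj h
  refine ⟨of fun a b' => if ix a = c.1 ∧ b' = b then 1 else 0, fun x => ?_⟩
  ext a j
  have := ix_lt j
  rw [mul_apply, Finset.sum_eq_single b (by simp +contextual) (by simp)]
  by_cases e : ix a = c.1
  · simp [m2, bt, sh, Nat.testBit_shiftLeft, Nat.testBit_mod_two_pow, -Nat.reducePow, e, hb, this]
  · simp only [m2, bt, sh, of_apply, Nat.testBit_shiftLeft, Nat.testBit_mod_two_pow, e]; simp; omega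
variable [CharP K 2]
theorem m2_xor (x y : ℕ) : m2 K (x ^^^ y) = m2 K x + m2 K y := by
  ext a b; simp only [m2, bt, of_apply, Matrix.add_apply, Nat.testBit_xor]
  cases x.testBit _ <;> cases y.testBit _ <;> simp [CharTwo.add_self_eq_zero]
theorem m2_eB {L : List (ℕ × ℕ)} (h : ∀ c ∈ L, c.2 < 78) (x : ℕ) : m2 K (eB L x) = m2 K (eB L one) * m2 K x := by
  obtain ⟨A, hA⟩ : ∃ A : Matrix J J K, ∀ x, m2 K (eB L x) = A * m2 K x := by
    induction L with
    | nil => exact ⟨0, fun x => by simp [eB]⟩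
    | cons c L ih =>
      obtain ⟨A, hA⟩ := m2_sh (K := K) (h c (by simp))
      obtain ⟨B, hB⟩ := ih fun d hd => h d (by simp [hd])
      exact ⟨A + B, fun x => by rw [add_mul, ← hA, ← hB, ← m2_xor]; rfl⟩
  rw [hA, hA, m2_one, mul_one]
theorem cast_two (z : ℤ) : (z : K) = if z % 2 = 1 then 1 else 0 := by
  rw [← Int.emod_add_mul_ediv z 2]; rcases Int.emod_two_eq_zero_or_one z with h | h <;> simp [h, CharTwo.two_eq_zero]
theorem xR_eq {r : Φ chevE6} (h : r.1 ∈ rts) (t : K) : xR K r t = 1 + t • m2 K (eB (spL r) one) + t ^ 2 • m2 K (eB (fL r) one) := by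
  obtain ⟨-, h1, -, h2, -, h3⟩ := sp_spec.2 _ h
  have h1 : (ng r : ℕ) = 71 - r := h1
  have h2 : ∀ s : Φ chevE6, M r s 2 = 0 ∧ M r s 3 = 0 := fun s => h2 s s.2
  have h4 : ∀ i : I chevE6, i.1 < 6 := fun i => i.2
  have h5 : r.1 < 72 := r.2
  ext a b
  simp only [m2, bt, Matrix.add_apply, Matrix.smul_apply, of_apply, h3 _ (ix_lt b) _ (ix_lt a), decide_eq_true_eq, ← cast_two]
  have c1 : ∀ j : I chevE6, (tab chevE6).ca j r = wt r j := fun _ => rfl
  have c2 : ∀ j : I chevE6, (tab chevE6).co r j = co r j := fun _ => rfl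
  have c3 : ∀ s : Φ chevE6, s.1 = (tab chevE6).ng r ↔ s = ng r := fun s => (Fin.ext_iff (a := s) (b := ng r)).symm
  have c4 : ∀ s : Φ chevE6, 6 + s.1 = 77 - r ↔ s = ng r := fun s => by rw [Fin.ext_iff, h1]; omega
  have c5 : ∀ (i : I chevE6) n, i.1 ≠ 6 + n := fun i n => by have := h4 i; omega
  have c6 : ∀ i : I chevE6, i.1 ≠ 77 - r := fun i => by have := h4 i; omega
  rcases b with j | s <;> rcases a with i | u <;>
    simp [xR, hh, ee, hv, e1, ix, one_apply, Pi.single_apply, Finset.sum_range_succ, h2, h4, c1, c2, c3, c4, c5, c6, ad_tab, N_tab, Fin.val_inj, cr_one, M_one]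
  · split_ifs <;> simp [mul_comm]
  · split_ifs <;> simp
  · by_cases e : s = ng r <;> simp [e, Pi.single_apply, mul_comm, CharTwo.sub_eq_add]

def px (p q : ℕ × ℕ) : ℕ × ℕ := (p.1 ^^^ q.1, p.2 ^^^ q.2)
def om (p : ℕ × ℕ) : ℕ × ℕ := (p.2, p.1 ^^^ p.2)
def ap (L : List (ℕ × ℕ)) (p : ℕ × ℕ) : ℕ × ℕ := (eB L p.1, eB L p.2)
def xB (c p : ℕ × ℕ) : ℕ × ℕ := px (px p (om^[c.2] (ap (spL c.1) p))) (om^[c.2 * 2] (ap (fL c.1) p))
def act (w : List (ℕ × ℕ)) (p : ℕ × ℕ) : ℕ × ℕ := w.foldr xB p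
def Ok (w : List (ℕ × ℕ)) : Prop := ∀ c ∈ w, c.1 ∈ rts
instance decOk (w : List (ℕ × ℕ)) : Decidable (Ok w) := by unfold Ok; infer_instance
/-- the word `w` is a fixed element of `U` or `V` -/
def Blk (w : List (ℕ × ℕ)) : Prop := Ok w ∧ ((∀ c ∈ w, 72 ≤ 2 * c.1) ∨ ∀ c ∈ w, ¬ 72 ≤ 2 * c.1) ∧ Ok (w.map fun c => (gE6.ρ c.1, c.2 * 2)) ∧
  act (w.map fun c => (gE6.ρ c.1, c.2 * 2)) (one, 0) = act w (one, 0)
noncomputable instance decBlk (w : List (ℕ × ℕ)) : Decidable (Blk w) := by unfold Blk; infer_instance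
variable (ω : K)
def ev (p : ℕ × ℕ) : Matrix J J K := m2 K p.1 + ω • m2 K p.2
noncomputable def wd (w : List (ℕ × ℕ)) : GL J K := (w.map fun c => (adS chevE6 K).xN c.1 (ω ^ c.2)).prod
omit [CharP K 2] in
theorem wd_append (u v : List (ℕ × ℕ)) : wd ω (u ++ v) = wd ω u * wd ω v := by simp [wd]
omit [CharP K 2] in
theorem ev_one : ev ω (one, 0) = 1 := by simp [ev, m2_one]
theorem ev_px (p q : ℕ × ℕ) : ev ω (px p q) = ev ω p + ev ω q := by simp only [ev, px, m2_xor, smul_add]; abel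
theorem ev_ap {L : List (ℕ × ℕ)} (h : ∀ c ∈ L, c.2 < 78) (p : ℕ × ℕ) : ev ω (ap L p) = m2 K (eB L one) * ev ω p := by
  simp only [ev, ap, mul_add, Matrix.mul_smul, ← m2_eB h]
variable {ω} (hω : ω ^ 2 = ω + 1)
include hω
theorem ev_om (k : ℕ) (p : ℕ × ℕ) : ev ω (om^[k] p) = ω ^ k • ev ω p := by
  induction k with
  | zero => simp
  | succ k ih =>
    rw [Function.iterate_succ_apply', pow_succ', mul_smul, ← ih]
    simp only [ev, om, m2_xor, smul_add, smul_smul, ← sq, hω, add_smul, one_smul]; abel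
theorem ev_act {w : List (ℕ × ℕ)} (h : Ok w) (p : ℕ × ℕ) : ev ω (act w p) = (wd ω w : Matrix J J K) * ev ω p := by
  induction w with
  | nil => simp [act, wd]
  | cons c w ih =>
    have h1 := h c (by simp)
    obtain ⟨h2, -, -, -, h3, -⟩ := sp_spec.2 _ h1
    have : ((adS chevE6 K).xN c.1 (ω ^ c.2) : Matrix J J K) = _ := (congrArg _ (xN_lt _ h2 _)).trans (xR_eq (r := ⟨c.1, h2⟩) h1 _)
    change ev ω (xB c (act w p)) = (wd ω ([c] ++ w) : Matrix J J K) * _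
    rw [wd_append, Units.val_mul, mul_assoc, ← ih fun d hd => h d (by simp [hd]), xB, ev_px, ev_px, ev_om hω, ev_om hω, ev_ap _ h3, ev_ap _ (by simp [fL]; omega)]
    simp [wd, this, add_mul, pow_mul]
theorem coe_wd {w : List (ℕ × ℕ)} (h : Ok w) : (wd ω w : Matrix J J K) = ev ω (act w (one, 0)) := by rw [ev_act hω h, ev_one, mul_one]
theorem pow_eq_one {w : List (ℕ × ℕ)} {m : ℕ} (h : Ok w ∧ (act w)^[m] (one, 0) = (one, 0)) : wd ω w ^ m = 1 := by
  have : ∀ m, ev ω ((act w)^[m] (one, 0)) = (wd ω w ^ m : GL J K) := fun m => by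
    induction m with
    | zero => simp [ev_one]
    | succ m ih => rw [Function.iterate_succ_apply', ev_act hω h.1, ih, pow_succ', Units.val_mul]
  exact Units.ext (by rw [← this, h.2, ev_one]; rfl)
theorem mem_G1 [Fintype K] {φ : K →+* K} (hφ : ∀ t, φ t = t ^ 2) {w : List (ℕ × ℕ)} (h : Blk w) : wd ω w ∈ (tw6 φ).G1 := by
  have k : ∀ {P : Set (Φ chevE6)} {w : List (ℕ × ℕ)}, (∀ c ∈ w, ∀ h : c.1 < 72, ⟨c.1, h⟩ ∈ P) → wd ω w ∈ (adS chevE6 K).gen P := fun h =>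
    Subgroup.list_prod_mem _ (List.forall_mem_map.2 fun c hc => xN_mem _ (h c hc) _)
  have e : ∀ w, Ok w → (tw6 φ).σ (wd ω w) = wd ω (w.map fun c => (gE6.ρ c.1, c.2 * 2)) := fun w h => by
    induction w with
    | nil => exact (tw6 φ).one
    | cons c w ih =>
      obtain ⟨h2 : _ < chevE6.nroots, -, h3, -⟩ := sp_spec.2 _ (h c (by simp))
      change (tw6 φ).σ (_ * wd ω w) = _ * wd ω _
      rw [(tw6 φ).mul _ (xN_mem_T _ _ _) _ (k fun _ _ _ => trivial), ih fun d hd => h d (by simp [hd]), xN_lt _ h2, TwF.σ_x,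
        show ∀ t, (tw6 φ).ψ ⟨c.1, h2⟩ t = φ t ^ gE6.lam c.1 from fun _ => rfl, h3, hφ, pow_one, ← pow_mul]
      exact congrArg (· * _) (xN_val _ _ _).symm
  have : wd ω w ∈ (tw6 φ).Fix := ⟨k fun _ _ _ => trivial, Units.ext (by rw [e w h.1, coe_wd hω h.1, coe_wd hω h.2.2.1, h.2.2.2])⟩
  exact h.2.1.elim (fun h => Subgroup.mem_sup_left ⟨k fun c hc _ => h c hc, this⟩) fun h => Subgroup.mem_sup_right ⟨k fun c hc _ => h c hc, this⟩

end H12.Fi
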