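import Cfsg.Agent.H12.All
import Cfsg.Agent.H12.Torus
/-! Type-by-type data: Coxeter matrices (`coxX`), Poincaré polynomials (`poinX`), orders of Weyl groups (`cardW_X`) and Coxeter
elements (`coxElt_X`), Smith forms of the Cartan matrices (`smithX`). -/

set_option autoImplicit false
set_option Elab.async false

namespace H12
open Cfsg.Lie H13

theorem hA_of_tab {D : ChevalleyDatum} [Good D] {A : List (List ℤ)} (h : ∀ j < (tab D).l, (A.getD j []).length = (tab D).l ∧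
    ∀ i < (tab D).l, (A.getD j []).getD i 0 = (tab D).ca i ((tab D).sim j)) (j : I D) :
    (A.getD j []).length = D.rank ∧ toΛ D (A.getD j []) = wt (sim j) := ⟨(h j j.2).1, funext fun i => (h j j.2).2 i i.2⟩
theorem poin_all {D : ChevalleyDatum} [Good D] {L : List ℕ} (h : ∀ j < D.rank, j ∈ L) (q : ℕ) :
    poin (Set.univ : Set (I D)) q = poin {j : I D | j.1 ∈ L} q := by
  congr 1; ext j; simp [h j j.2]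
theorem cox_of_all {n : ℕ} (f : Fin n → Fin n → ℕ) (g : ℕ → ℕ → ℕ)
    (h : ((List.finRange n).all fun i => (List.finRange n).all fun j => Nat.beq (f i j) (g i j)) = true) (i j : Fin n) :
    f i j = g i j := by
  simp only [List.all_eq_true, List.mem_finRange, forall_const, Nat.beq_eq] at h; exact h i j
theorem poin_nil {D : ChevalleyDatum} [Good D] (q : ℕ) : poin {j : I D | j.1 ∈ ([] : List ℕ)} q = 1 := by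
  simpa using poin_empty (D := D) q

/-- Cartan rows -/
def caG2L : List (List ℤ) := [[2, -1], [-3, 2]]
theorem hAG2 : ∀ j : I chevG2, (caG2L.getD j []).length = chevG2.rank ∧ toΛ chevG2 (caG2L.getD j []) = wt (sim j) :=
  hA_of_tab (by rw [tabG2_eq]; decide +kernel)
/-- layer -/ def lyG2_0_0 : List (List ℤ) := [[-1, 1]]
/-- layer -/ def lyG2_0_1 : List (List ℤ) := [[2, -1]]
/-- layer -/ def lyG2_0_2 : List (List ℤ) := [[-2, 1]]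
/-- layer -/ def lyG2_0_3 : List (List ℤ) := [[1, -1]]
/-- layer -/ def lyG2_0_4 : List (List ℤ) := [[-1, 0]]
theorem poinG2_0 (q : ℕ) : poin {j : I chevG2 | j.1 ∈ [0, 1]} q = hornerL q [1, 1, 1, 1, 1, 1] * poin {j : I chevG2 | j.1 ∈ [1]} q :=
  poin_step hAG2 (by decide) (by decide) (μ := [1, 0]) (Ls := [lyG2_0_0, lyG2_0_1, lyG2_0_2, lyG2_0_3, lyG2_0_4]) (by decide) (by decide +kernel) q
/-- layer -/ def lyG2_1_0 : List (List ℤ) := [[3, -1]]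
theorem poinG2_1 (q : ℕ) : poin {j : I chevG2 | j.1 ∈ [1]} q = hornerL q [1, 1] * poin {j : I chevG2 | j.1 ∈ ([] : List ℕ)} q :=
  poin_step hAG2 (by decide) (by decide) (μ := [0, 1]) (Ls := [lyG2_1_0]) (by decide) (by decide +kernel) q
theorem poinG2' (q : ℕ) : poin (Set.univ : Set (I chevG2)) q = hornerL q [1, 1, 1, 1, 1, 1] * (hornerL q [1, 1] * 1) := by
  rw [poin_all (L := [0, 1]) (by decide), poinG2_0, poinG2_1, poin_nil]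
theorem poinG2 (q : ℕ) : ((q : ℤ) - 1) ^ 2 * (poin (Set.univ : Set (I chevG2)) q : ℤ) = ((q : ℤ) ^ 2 - 1) * ((q : ℤ) ^ 6 - 1) := by
  rw [poinG2']; simp only [hornerL]; push_cast; ring
theorem cardW_G2 : Nat.card (W chevG2) = 12 := by rw [← poin_univ_one, poinG2']; rfl
theorem coxG2 : ∀ i j : I chevG2, CoxeterMatrix.G₂ i j = (tab chevG2).cm i j := by
  rw [tabG2_eq]; exact cox_of_all (n := 2) (fun i j => CoxeterMatrix.G₂ i j) _ (by decide +kernel)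
theorem coxElt_G2 : orderOf ((List.finRange chevG2.rank).map sW).prod = 6 :=
  orderOf_cox (by decide) (by rw [tabG2_eq]; decide +kernel) (by rw [tabG2_eq]; simp only [Nat.primeFactorsList_ofNat]; decide +kernel)
theorem smithG2 : Smith (tab chevG2) [[0, -1], [1, 2]] [[2, 1], [-1, 0]]
    [[1, 2], [0, 1]] [[1, -2], [0, 1]] [1, 1] := by rw [tabG2_eq]; decide +kernel
/-- Cartan rows -/
def caB2L : List (List ℤ) := [[2, -1], [-2, 2]]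
theorem hAB2 : ∀ j : I chevB2, (caB2L.getD j []).length = chevB2.rank ∧ toΛ chevB2 (caB2L.getD j []) = wt (sim j) :=
  hA_of_tab (by rw [tabB2_eq]; decide +kernel)
/-- layer -/ def lyB2_0_0 : List (List ℤ) := [[-1, 1]]
/-- layer -/ def lyB2_0_1 : List (List ℤ) := [[1, -1]]
/-- layer -/ def lyB2_0_2 : List (List ℤ) := [[-1, 0]]
theorem poinB2_0 (q : ℕ) : poin {j : I chevB2 | j.1 ∈ [0, 1]} q = hornerL q [1, 1, 1, 1] * poin {j : I chevB2 | j.1 ∈ [1]} q :=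
  poin_step hAB2 (by decide) (by decide) (μ := [1, 0]) (Ls := [lyB2_0_0, lyB2_0_1, lyB2_0_2]) (by decide) (by decide +kernel) q
/-- layer -/ def lyB2_1_0 : List (List ℤ) := [[2, -1]]
theorem poinB2_1 (q : ℕ) : poin {j : I chevB2 | j.1 ∈ [1]} q = hornerL q [1, 1] * poin {j : I chevB2 | j.1 ∈ ([] : List ℕ)} q :=
  poin_step hAB2 (by decide) (by decide) (μ := [0, 1]) (Ls := [lyB2_1_0]) (by decide) (by decide +kernel) q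
theorem poinB2' (q : ℕ) : poin (Set.univ : Set (I chevB2)) q = hornerL q [1, 1, 1, 1] * (hornerL q [1, 1] * 1) := by
  rw [poin_all (L := [0, 1]) (by decide), poinB2_0, poinB2_1, poin_nil]
theorem poinB2 (q : ℕ) : ((q : ℤ) - 1) ^ 2 * (poin (Set.univ : Set (I chevB2)) q : ℤ) = ((q : ℤ) ^ 2 - 1) * ((q : ℤ) ^ 4 - 1) := by
  rw [poinB2']; simp only [hornerL]; push_cast; ring
theorem cardW_B2 : Nat.card (W chevB2) = 8 := by rw [← poin_univ_one, poinB2']; rfl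
theorem coxB2 : ∀ i j : I chevB2, (CoxeterMatrix.B 2) i j = (tab chevB2).cm i j := by
  rw [tabB2_eq]; exact cox_of_all (n := 2) (fun i j => (CoxeterMatrix.B 2) i j) _ (by decide +kernel)
theorem coxElt_B2 : orderOf ((List.finRange chevB2.rank).map sW).prod = 4 :=
  orderOf_cox (by decide) (by rw [tabB2_eq]; decide +kernel) (by rw [tabB2_eq]; simp only [Nat.primeFactorsList_ofNat]; decide +kernel)
theorem smithB2 : Smith (tab chevB2) [[0, -1], [1, 2]] [[2, 1], [-1, 0]]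
    [[1, 2], [0, 1]] [[1, -2], [0, 1]] [1, 2] := by rw [tabB2_eq]; decide +kernel
/-- Cartan rows -/
def caD4L : List (List ℤ) := [[2, -1, 0, 0], [-1, 2, -1, -1], [0, -1, 2, 0], [0, -1, 0, 2]]
theorem hAD4 : ∀ j : I chevD4, (caD4L.getD j []).length = chevD4.rank ∧ toΛ chevD4 (caD4L.getD j []) = wt (sim j) :=
  hA_of_tab (by rw [tabD4_eq]; decide +kernel)
/-- layer -/ def lyD4_0_0 : List (List ℤ) := [[-1, 1, 0, 0]]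
/-- layer -/ def lyD4_0_1 : List (List ℤ) := [[0, -1, 1, 1]]
/-- layer -/ def lyD4_0_2 : List (List ℤ) := [[0, 0, -1, 1], [0, 0, 1, -1]]
/-- layer -/ def lyD4_0_3 : List (List ℤ) := [[0, 1, -1, -1]]
/-- layer -/ def lyD4_0_4 : List (List ℤ) := [[1, -1, 0, 0]]
/-- layer -/ def lyD4_0_5 : List (List ℤ) := [[-1, 0, 0, 0]]
theorem poinD4_0 (q : ℕ) : poin {j : I chevD4 | j.1 ∈ [0, 2, 1, 3]} q = hornerL q [1, 1, 1, 2, 1, 1, 1] * poin {j : I chevD4 | j.1 ∈ [2, 1, 3]} q :=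
  poin_step hAD4 (by decide) (by decide) (μ := [1, 0, 0, 0]) (Ls := [lyD4_0_0, lyD4_0_1, lyD4_0_2, lyD4_0_3, lyD4_0_4, lyD4_0_5]) (by decide) (by decide +kernel) q
/-- layer -/ def lyD4_1_0 : List (List ℤ) := [[0, 1, -1, 0]]
/-- layer -/ def lyD4_1_1 : List (List ℤ) := [[1, -1, 0, 1]]
/-- layer -/ def lyD4_1_2 : List (List ℤ) := [[1, 0, 0, -1]]
theorem poinD4_1 (q : ℕ) : poin {j : I chevD4 | j.1 ∈ [2, 1, 3]} q = hornerL q [1, 1, 1, 1] * poin {j : I chevD4 | j.1 ∈ [1, 3]} q :=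
  poin_step hAD4 (by decide) (by decide) (μ := [0, 0, 1, 0]) (Ls := [lyD4_1_0, lyD4_1_1, lyD4_1_2]) (by decide) (by decide +kernel) q
/-- layer -/ def lyD4_2_0 : List (List ℤ) := [[1, -1, 1, 1]]
/-- layer -/ def lyD4_2_1 : List (List ℤ) := [[1, 0, 1, -1]]
theorem poinD4_2 (q : ℕ) : poin {j : I chevD4 | j.1 ∈ [1, 3]} q = hornerL q [1, 1, 1] * poin {j : I chevD4 | j.1 ∈ [3]} q :=
  poin_step hAD4 (by decide) (by decide) (μ := [0, 1, 0, 0]) (Ls := [lyD4_2_0, lyD4_2_1]) (by decide) (by decide +kernel) q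
/-- layer -/ def lyD4_3_0 : List (List ℤ) := [[0, 1, 0, -1]]
theorem poinD4_3 (q : ℕ) : poin {j : I chevD4 | j.1 ∈ [3]} q = hornerL q [1, 1] * poin {j : I chevD4 | j.1 ∈ ([] : List ℕ)} q :=
  poin_step hAD4 (by decide) (by decide) (μ := [0, 0, 0, 1]) (Ls := [lyD4_3_0]) (by decide) (by decide +kernel) q
theorem poinD4' (q : ℕ) : poin (Set.univ : Set (I chevD4)) q = hornerL q [1, 1, 1, 2, 1, 1, 1] * (hornerL q [1, 1, 1, 1] * (hornerL q [1, 1, 1] * (hornerL q [1, 1] * 1))) := by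
  rw [poin_all (L := [0, 2, 1, 3]) (by decide), poinD4_0, poinD4_1, poinD4_2, poinD4_3, poin_nil]
theorem poinD4 (q : ℕ) : ((q : ℤ) - 1) ^ 4 * (poin (Set.univ : Set (I chevD4)) q : ℤ) = ((q : ℤ) ^ 2 - 1) * ((q : ℤ) ^ 4 - 1) * ((q : ℤ) ^ 4 - 1) * ((q : ℤ) ^ 6 - 1) := by
  rw [poinD4']; simp only [hornerL]; push_cast; ring
theorem cardW_D4 : Nat.card (W chevD4) = 192 := by rw [← poin_univ_one, poinD4']; rfl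
theorem coxD4 : ∀ i j : I chevD4, coxeterD4 i j = (tab chevD4).cm i j := by
  rw [tabD4_eq]; exact cox_of_all (n := 4) (fun i j => coxeterD4 i j) _ (by decide +kernel)
theorem coxElt_D4 : orderOf ((List.finRange chevD4.rank).map sW).prod = 6 :=
  orderOf_cox (by decide) (by rw [tabD4_eq]; decide +kernel) (by rw [tabD4_eq]; simp only [Nat.primeFactorsList_ofNat]; decide +kernel)
theorem smithD4 : Smith (tab chevD4) [[-1, 0, 0, 0], [-2, -1, 0, 0], [-3, -2, -1, 0], [2, 2, 1, 1]] [[-1, 0, 0, 0], [2, -1, 0, 0], [-1, 2, -1, 0], [-1, 0, 1, 1]]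
    [[0, 0, 0, 1], [1, 0, 0, 2], [0, 1, -1, 1], [0, 0, 1, 2]] [[-2, 1, 0, 0], [-3, 0, 1, 1], [-2, 0, 0, 1], [1, 0, 0, 0]] [1, 1, 2, 2] := by rw [tabD4_eq]; decide +kernel
/-- Cartan rows -/
def caF4L : List (List ℤ) := [[2, -1, 0, 0], [-1, 2, -1, 0], [0, -2, 2, -1], [0, 0, -1, 2]]
theorem hAF4 : ∀ j : I chevF4, (caF4L.getD j []).length = chevF4.rank ∧ toΛ chevF4 (caF4L.getD j []) = wt (sim j) :=
  hA_of_tab (by rw [tabF4_eq]; decide +kernel)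
/-- layer -/ def lyF4_0_0 : List (List ℤ) := [[-1, 1, 0, 0]]
/-- layer -/ def lyF4_0_1 : List (List ℤ) := [[0, -1, 1, 0]]
/-- layer -/ def lyF4_0_2 : List (List ℤ) := [[0, 1, -1, 1]]
/-- layer -/ def lyF4_0_3 : List (List ℤ) := [[0, 1, 0, -1], [1, -1, 0, 1]]
/-- layer -/ def lyF4_0_4 : List (List ℤ) := [[1, -1, 1, -1], [-1, 0, 0, 1]]
/-- layer -/ def lyF4_0_5 : List (List ℤ) := [[-1, 0, 1, -1], [1, 1, -1, 0]]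
/-- layer -/ def lyF4_0_6 : List (List ℤ) := [[-1, 2, -1, 0], [2, -1, 0, 0]]
/-- layer -/ def lyF4_0_7 : List (List ℤ) := [[1, -2, 1, 0], [-2, 1, 0, 0]]
/-- layer -/ def lyF4_0_8 : List (List ℤ) := [[-1, -1, 1, 0], [1, 0, -1, 1]]
/-- layer -/ def lyF4_0_9 : List (List ℤ) := [[-1, 1, -1, 1], [1, 0, 0, -1]]
/-- layer -/ def lyF4_0_10 : List (List ℤ) := [[-1, 1, 0, -1], [0, -1, 0, 1]]
/-- layer -/ def lyF4_0_11 : List (List ℤ) := [[0, -1, 1, -1]]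
/-- layer -/ def lyF4_0_12 : List (List ℤ) := [[0, 1, -1, 0]]
/-- layer -/ def lyF4_0_13 : List (List ℤ) := [[1, -1, 0, 0]]
/-- layer -/ def lyF4_0_14 : List (List ℤ) := [[-1, 0, 0, 0]]
theorem poinF4_0 (q : ℕ) : poin {j : I chevF4 | j.1 ∈ [0, 3, 1, 2]} q = hornerL q [1, 1, 1, 1, 2, 2, 2, 2, 2, 2, 2, 2, 1, 1, 1, 1] * poin {j : I chevF4 | j.1 ∈ [3, 1, 2]} q :=
  poin_step hAF4 (by decide) (by decide) (μ := [1, 0, 0, 0]) (Ls := [lyF4_0_0, lyF4_0_1, lyF4_0_2, lyF4_0_3, lyF4_0_4, lyF4_0_5, lyF4_0_6, lyF4_0_7, lyF4_0_8, lyF4_0_9, lyF4_0_10, lyF4_0_11, lyF4_0_12, lyF4_0_13, lyF4_0_14]) (by decide) (by decide +kernel) q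
/-- layer -/ def lyF4_1_0 : List (List ℤ) := [[0, 0, 1, -1]]
/-- layer -/ def lyF4_1_1 : List (List ℤ) := [[0, 2, -1, 0]]
/-- layer -/ def lyF4_1_2 : List (List ℤ) := [[2, -2, 1, 0]]
/-- layer -/ def lyF4_1_3 : List (List ℤ) := [[2, 0, -1, 1]]
/-- layer -/ def lyF4_1_4 : List (List ℤ) := [[2, 0, 0, -1]]
theorem poinF4_1 (q : ℕ) : poin {j : I chevF4 | j.1 ∈ [3, 1, 2]} q = hornerL q [1, 1, 1, 1, 1, 1] * poin {j : I chevF4 | j.1 ∈ [1, 2]} q :=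
  poin_step hAF4 (by decide) (by decide) (μ := [0, 0, 0, 1]) (Ls := [lyF4_1_0, lyF4_1_1, lyF4_1_2, lyF4_1_3, lyF4_1_4]) (by decide) (by decide +kernel) q
/-- layer -/ def lyF4_2_0 : List (List ℤ) := [[1, -1, 1, 0]]
/-- layer -/ def lyF4_2_1 : List (List ℤ) := [[1, 1, -1, 1]]
/-- layer -/ def lyF4_2_2 : List (List ℤ) := [[2, -1, 0, 1]]
theorem poinF4_2 (q : ℕ) : poin {j : I chevF4 | j.1 ∈ [1, 2]} q = hornerL q [1, 1, 1, 1] * poin {j : I chevF4 | j.1 ∈ [2]} q :=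
  poin_step hAF4 (by decide) (by decide) (μ := [0, 1, 0, 0]) (Ls := [lyF4_2_0, lyF4_2_1, lyF4_2_2]) (by decide) (by decide +kernel) q
/-- layer -/ def lyF4_3_0 : List (List ℤ) := [[0, 2, -1, 1]]
theorem poinF4_3 (q : ℕ) : poin {j : I chevF4 | j.1 ∈ [2]} q = hornerL q [1, 1] * poin {j : I chevF4 | j.1 ∈ ([] : List ℕ)} q :=
  poin_step hAF4 (by decide) (by decide) (μ := [0, 0, 1, 0]) (Ls := [lyF4_3_0]) (by decide) (by decide +kernel) q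
theorem poinF4' (q : ℕ) : poin (Set.univ : Set (I chevF4)) q = hornerL q [1, 1, 1, 1, 2, 2, 2, 2, 2, 2, 2, 2, 1, 1, 1, 1] * (hornerL q [1, 1, 1, 1, 1, 1] * (hornerL q [1, 1, 1, 1] * (hornerL q [1, 1] * 1))) := by
  rw [poin_all (L := [0, 3, 1, 2]) (by decide), poinF4_0, poinF4_1, poinF4_2, poinF4_3, poin_nil]
theorem poinF4 (q : ℕ) : ((q : ℤ) - 1) ^ 4 * (poin (Set.univ : Set (I chevF4)) q : ℤ) = ((q : ℤ) ^ 2 - 1) * ((q : ℤ) ^ 6 - 1) * ((q : ℤ) ^ 8 - 1) * ((q : ℤ) ^ 12 - 1) := by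
  rw [poinF4']; simp only [hornerL]; push_cast; ring
theorem cardW_F4 : Nat.card (W chevF4) = 1152 := by rw [← poin_univ_one, poinF4']; rfl
theorem coxF4 : ∀ i j : I chevF4, CoxeterMatrix.F₄ i j = (tab chevF4).cm i j := by
  rw [tabF4_eq]; exact cox_of_all (n := 4) (fun i j => CoxeterMatrix.F₄ i j) _ (by decide +kernel)
theorem coxElt_F4 : orderOf ((List.finRange chevF4.rank).map sW).prod = 12 :=
  orderOf_cox (by decide) (by rw [tabF4_eq]; decide +kernel) (by rw [tabF4_eq]; simp only [Nat.primeFactorsList_ofNat]; decide +kernel)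
theorem smithF4 : Smith (tab chevF4) [[-1, 0, 0, 0], [1, 0, -1, 0], [-2, -1, 0, 0], [-2, -2, -2, -1]] [[-1, 0, 0, 0], [2, 0, -1, 0], [-1, -1, 0, 0], [0, 2, 2, -1]]
    [[0, 0, 1, -2], [1, 0, 2, -4], [0, 0, 2, -3], [0, 1, 2, -2]] [[-2, 1, 0, 0], [2, 0, -2, 1], [-3, 0, 2, 0], [-2, 0, 1, 0]] [1, 1, 1, 1] := by rw [tabF4_eq]; decide +kernel
/-- Cartan rows -/
def caE6L : List (List ℤ) := [[2, 0, -1, 0, 0, 0], [0, 2, 0, -1, 0, 0], [-1, 0, 2, -1, 0, 0], [0, -1, -1, 2, -1, 0], [0, 0, 0, -1, 2, -1], [0, 0, 0, 0, -1, 2]]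
theorem hAE6 : ∀ j : I chevE6, (caE6L.getD j []).length = chevE6.rank ∧ toΛ chevE6 (caE6L.getD j []) = wt (sim j) :=
  hA_of_tab (by rw [tabE6_eq]; decide +kernel)
/-- layer -/ def lyE6_0_0 : List (List ℤ) := [[-1, 0, 1, 0, 0, 0]]
/-- layer -/ def lyE6_0_1 : List (List ℤ) := [[0, 0, -1, 1, 0, 0]]
/-- layer -/ def lyE6_0_2 : List (List ℤ) := [[0, 1, 0, -1, 1, 0]]
/-- layer -/ def lyE6_0_3 : List (List ℤ) := [[0, -1, 0, 0, 1, 0], [0, 1, 0, 0, -1, 1]]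
/-- layer -/ def lyE6_0_4 : List (List ℤ) := [[0, -1, 0, 1, -1, 1], [0, 1, 0, 0, 0, -1]]
/-- layer -/ def lyE6_0_5 : List (List ℤ) := [[0, -1, 0, 1, 0, -1], [0, 0, 1, -1, 0, 1]]
/-- layer -/ def lyE6_0_6 : List (List ℤ) := [[0, 0, 1, -1, 1, -1], [1, 0, -1, 0, 0, 1]]
/-- layer -/ def lyE6_0_7 : List (List ℤ) := [[1, 0, -1, 0, 1, -1], [0, 0, 1, 0, -1, 0], [-1, 0, 0, 0, 0, 1]]
/-- layer -/ def lyE6_0_8 : List (List ℤ) := [[-1, 0, 0, 0, 1, -1], [1, 0, -1, 1, -1, 0]]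
/-- layer -/ def lyE6_0_9 : List (List ℤ) := [[-1, 0, 0, 1, -1, 0], [1, 1, 0, -1, 0, 0]]
/-- layer -/ def lyE6_0_10 : List (List ℤ) := [[-1, 1, 1, -1, 0, 0], [1, -1, 0, 0, 0, 0]]
/-- layer -/ def lyE6_0_11 : List (List ℤ) := [[-1, -1, 1, 0, 0, 0], [0, 1, -1, 0, 0, 0]]
/-- layer -/ def lyE6_0_12 : List (List ℤ) := [[0, -1, -1, 1, 0, 0]]
/-- layer -/ def lyE6_0_13 : List (List ℤ) := [[0, 0, 0, -1, 1, 0]]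
/-- layer -/ def lyE6_0_14 : List (List ℤ) := [[0, 0, 0, 0, -1, 1]]
/-- layer -/ def lyE6_0_15 : List (List ℤ) := [[0, 0, 0, 0, 0, -1]]
theorem poinE6_0 (q : ℕ) : poin {j : I chevE6 | j.1 ∈ [0, 5, 1, 2, 3, 4]} q = hornerL q [1, 1, 1, 1, 2, 2, 2, 2, 3, 2, 2, 2, 2, 1, 1, 1, 1] * poin {j : I chevE6 | j.1 ∈ [5, 1, 2, 3, 4]} q :=
  poin_step hAE6 (by decide) (by decide) (μ := [1, 0, 0, 0, 0, 0]) (Ls := [lyE6_0_0, lyE6_0_1, lyE6_0_2, lyE6_0_3, lyE6_0_4, lyE6_0_5, lyE6_0_6, lyE6_0_7, lyE6_0_8, lyE6_0_9, lyE6_0_10, lyE6_0_11, lyE6_0_12, lyE6_0_13, lyE6_0_14, lyE6_0_15]) (by decide) (by decide +kernel) q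
/-- layer -/ def lyE6_1_0 : List (List ℤ) := [[0, 0, 0, 0, 1, -1]]
/-- layer -/ def lyE6_1_1 : List (List ℤ) := [[0, 0, 0, 1, -1, 0]]
/-- layer -/ def lyE6_1_2 : List (List ℤ) := [[0, 1, 1, -1, 0, 0]]
/-- layer -/ def lyE6_1_3 : List (List ℤ) := [[0, -1, 1, 0, 0, 0], [1, 1, -1, 0, 0, 0]]
/-- layer -/ def lyE6_1_4 : List (List ℤ) := [[1, -1, -1, 1, 0, 0]]
/-- layer -/ def lyE6_1_5 : List (List ℤ) := [[1, 0, 0, -1, 1, 0]]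
/-- layer -/ def lyE6_1_6 : List (List ℤ) := [[1, 0, 0, 0, -1, 1]]
/-- layer -/ def lyE6_1_7 : List (List ℤ) := [[1, 0, 0, 0, 0, -1]]
theorem poinE6_1 (q : ℕ) : poin {j : I chevE6 | j.1 ∈ [5, 1, 2, 3, 4]} q = hornerL q [1, 1, 1, 1, 2, 1, 1, 1, 1] * poin {j : I chevE6 | j.1 ∈ [1, 2, 3, 4]} q :=
  poin_step hAE6 (by decide) (by decide) (μ := [0, 0, 0, 0, 0, 1]) (Ls := [lyE6_1_0, lyE6_1_1, lyE6_1_2, lyE6_1_3, lyE6_1_4, lyE6_1_5, lyE6_1_6, lyE6_1_7]) (by decide) (by decide +kernel) q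
/-- layer -/ def lyE6_2_0 : List (List ℤ) := [[0, -1, 0, 1, 0, 0]]
/-- layer -/ def lyE6_2_1 : List (List ℤ) := [[0, 0, 1, -1, 1, 0]]
/-- layer -/ def lyE6_2_2 : List (List ℤ) := [[1, 0, -1, 0, 1, 0], [0, 0, 1, 0, -1, 1]]
/-- layer -/ def lyE6_2_3 : List (List ℤ) := [[1, 0, -1, 1, -1, 1]]
/-- layer -/ def lyE6_2_4 : List (List ℤ) := [[1, 1, 0, -1, 0, 1]]
/-- layer -/ def lyE6_2_5 : List (List ℤ) := [[1, -1, 0, 0, 0, 1]]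
theorem poinE6_2 (q : ℕ) : poin {j : I chevE6 | j.1 ∈ [1, 2, 3, 4]} q = hornerL q [1, 1, 1, 2, 1, 1, 1] * poin {j : I chevE6 | j.1 ∈ [2, 3, 4]} q :=
  poin_step hAE6 (by decide) (by decide) (μ := [0, 1, 0, 0, 0, 0]) (Ls := [lyE6_2_0, lyE6_2_1, lyE6_2_2, lyE6_2_3, lyE6_2_4, lyE6_2_5]) (by decide) (by decide +kernel) q
/-- layer -/ def lyE6_3_0 : List (List ℤ) := [[1, 0, -1, 1, 0, 0]]
/-- layer -/ def lyE6_3_1 : List (List ℤ) := [[1, 1, 0, -1, 1, 0]]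
/-- layer -/ def lyE6_3_2 : List (List ℤ) := [[1, 1, 0, 0, -1, 1]]
theorem poinE6_3 (q : ℕ) : poin {j : I chevE6 | j.1 ∈ [2, 3, 4]} q = hornerL q [1, 1, 1, 1] * poin {j : I chevE6 | j.1 ∈ [3, 4]} q :=
  poin_step hAE6 (by decide) (by decide) (μ := [0, 0, 1, 0, 0, 0]) (Ls := [lyE6_3_0, lyE6_3_1, lyE6_3_2]) (by decide) (by decide +kernel) q
/-- layer -/ def lyE6_4_0 : List (List ℤ) := [[0, 1, 1, -1, 1, 0]]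
/-- layer -/ def lyE6_4_1 : List (List ℤ) := [[0, 1, 1, 0, -1, 1]]
theorem poinE6_4 (q : ℕ) : poin {j : I chevE6 | j.1 ∈ [3, 4]} q = hornerL q [1, 1, 1] * poin {j : I chevE6 | j.1 ∈ [4]} q :=
  poin_step hAE6 (by decide) (by decide) (μ := [0, 0, 0, 1, 0, 0]) (Ls := [lyE6_4_0, lyE6_4_1]) (by decide) (by decide +kernel) q
/-- layer -/ def lyE6_5_0 : List (List ℤ) := [[0, 0, 0, 1, -1, 1]]
theorem poinE6_5 (q : ℕ) : poin {j : I chevE6 | j.1 ∈ [4]} q = hornerL q [1, 1] * poin {j : I chevE6 | j.1 ∈ ([] : List ℕ)} q :=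
  poin_step hAE6 (by decide) (by decide) (μ := [0, 0, 0, 0, 1, 0]) (Ls := [lyE6_5_0]) (by decide) (by decide +kernel) q
theorem poinE6' (q : ℕ) : poin (Set.univ : Set (I chevE6)) q = hornerL q [1, 1, 1, 1, 2, 2, 2, 2, 3, 2, 2, 2, 2, 1, 1, 1, 1] * (hornerL q [1, 1, 1, 1, 2, 1, 1, 1, 1] * (hornerL q [1, 1, 1, 2, 1, 1, 1] * (hornerL q [1, 1, 1, 1] * (hornerL q [1, 1, 1] * (hornerL q [1, 1] * 1))))) := by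
  rw [poin_all (L := [0, 5, 1, 2, 3, 4]) (by decide), poinE6_0, poinE6_1, poinE6_2, poinE6_3, poinE6_4, poinE6_5, poin_nil]
theorem poinE6 (q : ℕ) : ((q : ℤ) - 1) ^ 6 * (poin (Set.univ : Set (I chevE6)) q : ℤ) = ((q : ℤ) ^ 2 - 1) * ((q : ℤ) ^ 5 - 1) * ((q : ℤ) ^ 6 - 1) * ((q : ℤ) ^ 8 - 1) * ((q : ℤ) ^ 9 - 1) * ((q : ℤ) ^ 12 - 1) := by
  rw [poinE6']; simp only [hornerL]; push_cast; ring
theorem cardW_E6 : Nat.card (W chevE6) = 51840 := by rw [← poin_univ_one, poinE6']; rfl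
theorem coxE6 : ∀ i j : I chevE6, CoxeterMatrix.E₆ i j = (tab chevE6).cm i j := by
  rw [tabE6_eq]; exact cox_of_all (n := 6) (fun i j => CoxeterMatrix.E₆ i j) _ (by decide +kernel)
theorem coxElt_E6 : orderOf ((List.finRange chevE6.rank).map sW).prod = 12 :=
  orderOf_cox (by decide) (by rw [tabE6_eq]; decide +kernel) (by rw [tabE6_eq]; simp only [Nat.primeFactorsList_ofNat]; decide +kernel)
theorem smithE6 : Smith (tab chevE6) [[-1, 0, 0, 0, 0, 0], [0, -1, 0, 0, 0, 0], [1, -2, 0, -1, 0, 0], [2, -3, 0, -2, -1, 0], [-2, 1, -1, 0, 0, 0], [-5, 0, -4, -3, -2, -1]] [[-1, 0, 0, 0, 0, 0], [0, -1, 0, 0, 0, 0], [2, -1, 0, 0, -1, 0], [-1, 2, -1, 0, 0, 0], [0, -1, 2, -1, 0, 0], [0, 0, -1, 2, 4, -1]]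
    [[0, 0, 0, 0, 1, -2], [0, 0, 0, 0, 2, -3], [1, 0, 0, 0, 2, -4], [0, 1, 0, 0, 4, -6], [0, 0, 1, 0, 4, -5], [0, 0, 0, 1, 4, -4]] [[-2, 0, 1, 0, 0, 0], [0, -2, 0, 1, 0, 0], [2, -3, 0, 0, 1, 0], [4, -4, 0, 0, 0, 1], [-3, 2, 0, 0, 0, 0], [-2, 1, 0, 0, 0, 0]] [1, 1, 1, 1, 1, 3] := by rw [tabE6_eq]; decide +kernel
/-- Cartan rows -/
def caE7L : List (List ℤ) := [[2, 0, -1, 0, 0, 0, 0], [0, 2, 0, -1, 0, 0, 0], [-1, 0, 2, -1, 0, 0, 0], [0, -1, -1, 2, -1, 0, 0], [0, 0, 0, -1, 2, -1, 0], [0, 0, 0, 0, -1, 2, -1], [0, 0, 0, 0, 0, -1, 2]]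
theorem hAE7 : ∀ j : I chevE7, (caE7L.getD j []).length = chevE7.rank ∧ toΛ chevE7 (caE7L.getD j []) = wt (sim j) :=
  hA_of_tab (by rw [tabE7_eq]; decide +kernel)
/-- layer -/ def lyE7_0_0 : List (List ℤ) := [[0, 0, 0, 0, 0, 1, -1]]
/-- layer -/ def lyE7_0_1 : List (List ℤ) := [[0, 0, 0, 0, 1, -1, 0]]
/-- layer -/ def lyE7_0_2 : List (List ℤ) := [[0, 0, 0, 1, -1, 0, 0]]
/-- layer -/ def lyE7_0_3 : List (List ℤ) := [[0, 1, 1, -1, 0, 0, 0]]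
/-- layer -/ def lyE7_0_4 : List (List ℤ) := [[0, -1, 1, 0, 0, 0, 0], [1, 1, -1, 0, 0, 0, 0]]
/-- layer -/ def lyE7_0_5 : List (List ℤ) := [[1, -1, -1, 1, 0, 0, 0], [-1, 1, 0, 0, 0, 0, 0]]
/-- layer -/ def lyE7_0_6 : List (List ℤ) := [[-1, -1, 0, 1, 0, 0, 0], [1, 0, 0, -1, 1, 0, 0]]
/-- layer -/ def lyE7_0_7 : List (List ℤ) := [[-1, 0, 1, -1, 1, 0, 0], [1, 0, 0, 0, -1, 1, 0]]
/-- layer -/ def lyE7_0_8 : List (List ℤ) := [[0, 0, -1, 0, 1, 0, 0], [-1, 0, 1, 0, -1, 1, 0], [1, 0, 0, 0, 0, -1, 1]]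
/-- layer -/ def lyE7_0_9 : List (List ℤ) := [[0, 0, -1, 1, -1, 1, 0], [-1, 0, 1, 0, 0, -1, 1], [1, 0, 0, 0, 0, 0, -1]]
/-- layer -/ def lyE7_0_10 : List (List ℤ) := [[0, 0, -1, 1, 0, -1, 1], [0, 1, 0, -1, 0, 1, 0], [-1, 0, 1, 0, 0, 0, -1]]
/-- layer -/ def lyE7_0_11 : List (List ℤ) := [[0, 0, -1, 1, 0, 0, -1], [0, 1, 0, -1, 1, -1, 1], [0, -1, 0, 0, 0, 1, 0]]
/-- layer -/ def lyE7_0_12 : List (List ℤ) := [[0, 1, 0, -1, 1, 0, -1], [0, -1, 0, 0, 1, -1, 1], [0, 1, 0, 0, -1, 0, 1]]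
/-- layer -/ def lyE7_0_13 : List (List ℤ) := [[0, -1, 0, 0, 1, 0, -1], [0, 1, 0, 0, -1, 1, -1], [0, -1, 0, 1, -1, 0, 1]]
/-- layer -/ def lyE7_0_14 : List (List ℤ) := [[0, -1, 0, 1, -1, 1, -1], [0, 1, 0, 0, 0, -1, 0], [0, 0, 1, -1, 0, 0, 1]]
/-- layer -/ def lyE7_0_15 : List (List ℤ) := [[0, -1, 0, 1, 0, -1, 0], [0, 0, 1, -1, 0, 1, -1], [1, 0, -1, 0, 0, 0, 1]]
/-- layer -/ def lyE7_0_16 : List (List ℤ) := [[0, 0, 1, -1, 1, -1, 0], [1, 0, -1, 0, 0, 1, -1], [-1, 0, 0, 0, 0, 0, 1]]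
/-- layer -/ def lyE7_0_17 : List (List ℤ) := [[1, 0, -1, 0, 1, -1, 0], [0, 0, 1, 0, -1, 0, 0], [-1, 0, 0, 0, 0, 1, -1]]
/-- layer -/ def lyE7_0_18 : List (List ℤ) := [[-1, 0, 0, 0, 1, -1, 0], [1, 0, -1, 1, -1, 0, 0]]
/-- layer -/ def lyE7_0_19 : List (List ℤ) := [[-1, 0, 0, 1, -1, 0, 0], [1, 1, 0, -1, 0, 0, 0]]
/-- layer -/ def lyE7_0_20 : List (List ℤ) := [[-1, 1, 1, -1, 0, 0, 0], [1, -1, 0, 0, 0, 0, 0]]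
/-- layer -/ def lyE7_0_21 : List (List ℤ) := [[-1, -1, 1, 0, 0, 0, 0], [0, 1, -1, 0, 0, 0, 0]]
/-- layer -/ def lyE7_0_22 : List (List ℤ) := [[0, -1, -1, 1, 0, 0, 0]]
/-- layer -/ def lyE7_0_23 : List (List ℤ) := [[0, 0, 0, -1, 1, 0, 0]]
/-- layer -/ def lyE7_0_24 : List (List ℤ) := [[0, 0, 0, 0, -1, 1, 0]]
/-- layer -/ def lyE7_0_25 : List (List ℤ) := [[0, 0, 0, 0, 0, -1, 1]]
/-- layer -/ def lyE7_0_26 : List (List ℤ) := [[0, 0, 0, 0, 0, 0, -1]]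
theorem poinE7_0 (q : ℕ) : poin {j : I chevE7 | j.1 ∈ [6, 0, 5, 1, 2, 3, 4]} q = hornerL q [1, 1, 1, 1, 1, 2, 2, 2, 2, 3, 3, 3, 3, 3, 3, 3, 3, 3, 3, 2, 2, 2, 2, 1, 1, 1, 1, 1] * poin {j : I chevE7 | j.1 ∈ [0, 5, 1, 2, 3, 4]} q :=
  poin_step hAE7 (by decide) (by decide) (μ := [0, 0, 0, 0, 0, 0, 1]) (Ls := [lyE7_0_0, lyE7_0_1, lyE7_0_2, lyE7_0_3, lyE7_0_4, lyE7_0_5, lyE7_0_6, lyE7_0_7, lyE7_0_8, lyE7_0_9, lyE7_0_10, lyE7_0_11, lyE7_0_12, lyE7_0_13, lyE7_0_14, lyE7_0_15, lyE7_0_16, lyE7_0_17, lyE7_0_18, lyE7_0_19, lyE7_0_20, lyE7_0_21, lyE7_0_22, lyE7_0_23, lyE7_0_24, lyE7_0_25, lyE7_0_26]) (by decide) (by decide +kernel) q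
/-- layer -/ def lyE7_1_0 : List (List ℤ) := [[-1, 0, 1, 0, 0, 0, 0]]
/-- layer -/ def lyE7_1_1 : List (List ℤ) := [[0, 0, -1, 1, 0, 0, 0]]
/-- layer -/ def lyE7_1_2 : List (List ℤ) := [[0, 1, 0, -1, 1, 0, 0]]
/-- layer -/ def lyE7_1_3 : List (List ℤ) := [[0, -1, 0, 0, 1, 0, 0], [0, 1, 0, 0, -1, 1, 0]]
/-- layer -/ def lyE7_1_4 : List (List ℤ) := [[0, -1, 0, 1, -1, 1, 0], [0, 1, 0, 0, 0, -1, 1]]
/-- layer -/ def lyE7_1_5 : List (List ℤ) := [[0, -1, 0, 1, 0, -1, 1], [0, 0, 1, -1, 0, 1, 0]]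
/-- layer -/ def lyE7_1_6 : List (List ℤ) := [[0, 0, 1, -1, 1, -1, 1], [1, 0, -1, 0, 0, 1, 0]]
/-- layer -/ def lyE7_1_7 : List (List ℤ) := [[1, 0, -1, 0, 1, -1, 1], [0, 0, 1, 0, -1, 0, 1], [-1, 0, 0, 0, 0, 1, 0]]
/-- layer -/ def lyE7_1_8 : List (List ℤ) := [[-1, 0, 0, 0, 1, -1, 1], [1, 0, -1, 1, -1, 0, 1]]
/-- layer -/ def lyE7_1_9 : List (List ℤ) := [[-1, 0, 0, 1, -1, 0, 1], [1, 1, 0, -1, 0, 0, 1]]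
/-- layer -/ def lyE7_1_10 : List (List ℤ) := [[-1, 1, 1, -1, 0, 0, 1], [1, -1, 0, 0, 0, 0, 1]]
/-- layer -/ def lyE7_1_11 : List (List ℤ) := [[-1, -1, 1, 0, 0, 0, 1], [0, 1, -1, 0, 0, 0, 1]]
/-- layer -/ def lyE7_1_12 : List (List ℤ) := [[0, -1, -1, 1, 0, 0, 1]]
/-- layer -/ def lyE7_1_13 : List (List ℤ) := [[0, 0, 0, -1, 1, 0, 1]]
/-- layer -/ def lyE7_1_14 : List (List ℤ) := [[0, 0, 0, 0, -1, 1, 1]]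
/-- layer -/ def lyE7_1_15 : List (List ℤ) := [[0, 0, 0, 0, 0, -1, 2]]
theorem poinE7_1 (q : ℕ) : poin {j : I chevE7 | j.1 ∈ [0, 5, 1, 2, 3, 4]} q = hornerL q [1, 1, 1, 1, 2, 2, 2, 2, 3, 2, 2, 2, 2, 1, 1, 1, 1] * poin {j : I chevE7 | j.1 ∈ [5, 1, 2, 3, 4]} q :=
  poin_step hAE7 (by decide) (by decide) (μ := [1, 0, 0, 0, 0, 0, 0]) (Ls := [lyE7_1_0, lyE7_1_1, lyE7_1_2, lyE7_1_3, lyE7_1_4, lyE7_1_5, lyE7_1_6, lyE7_1_7, lyE7_1_8, lyE7_1_9, lyE7_1_10, lyE7_1_11, lyE7_1_12, lyE7_1_13, lyE7_1_14, lyE7_1_15]) (by decide) (by decide +kernel) q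
/-- layer -/ def lyE7_2_0 : List (List ℤ) := [[0, 0, 0, 0, 1, -1, 1]]
/-- layer -/ def lyE7_2_1 : List (List ℤ) := [[0, 0, 0, 1, -1, 0, 1]]
/-- layer -/ def lyE7_2_2 : List (List ℤ) := [[0, 1, 1, -1, 0, 0, 1]]
/-- layer -/ def lyE7_2_3 : List (List ℤ) := [[0, -1, 1, 0, 0, 0, 1], [1, 1, -1, 0, 0, 0, 1]]
/-- layer -/ def lyE7_2_4 : List (List ℤ) := [[1, -1, -1, 1, 0, 0, 1]]
/-- layer -/ def lyE7_2_5 : List (List ℤ) := [[1, 0, 0, -1, 1, 0, 1]]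
/-- layer -/ def lyE7_2_6 : List (List ℤ) := [[1, 0, 0, 0, -1, 1, 1]]
/-- layer -/ def lyE7_2_7 : List (List ℤ) := [[1, 0, 0, 0, 0, -1, 2]]
theorem poinE7_2 (q : ℕ) : poin {j : I chevE7 | j.1 ∈ [5, 1, 2, 3, 4]} q = hornerL q [1, 1, 1, 1, 2, 1, 1, 1, 1] * poin {j : I chevE7 | j.1 ∈ [1, 2, 3, 4]} q :=
  poin_step hAE7 (by decide) (by decide) (μ := [0, 0, 0, 0, 0, 1, 0]) (Ls := [lyE7_2_0, lyE7_2_1, lyE7_2_2, lyE7_2_3, lyE7_2_4, lyE7_2_5, lyE7_2_6, lyE7_2_7]) (by decide) (by decide +kernel) q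
/-- layer -/ def lyE7_3_0 : List (List ℤ) := [[0, -1, 0, 1, 0, 0, 0]]
/-- layer -/ def lyE7_3_1 : List (List ℤ) := [[0, 0, 1, -1, 1, 0, 0]]
/-- layer -/ def lyE7_3_2 : List (List ℤ) := [[1, 0, -1, 0, 1, 0, 0], [0, 0, 1, 0, -1, 1, 0]]
/-- layer -/ def lyE7_3_3 : List (List ℤ) := [[1, 0, -1, 1, -1, 1, 0]]
/-- layer -/ def lyE7_3_4 : List (List ℤ) := [[1, 1, 0, -1, 0, 1, 0]]
/-- layer -/ def lyE7_3_5 : List (List ℤ) := [[1, -1, 0, 0, 0, 1, 0]]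
theorem poinE7_3 (q : ℕ) : poin {j : I chevE7 | j.1 ∈ [1, 2, 3, 4]} q = hornerL q [1, 1, 1, 2, 1, 1, 1] * poin {j : I chevE7 | j.1 ∈ [2, 3, 4]} q :=
  poin_step hAE7 (by decide) (by decide) (μ := [0, 1, 0, 0, 0, 0, 0]) (Ls := [lyE7_3_0, lyE7_3_1, lyE7_3_2, lyE7_3_3, lyE7_3_4, lyE7_3_5]) (by decide) (by decide +kernel) q
/-- layer -/ def lyE7_4_0 : List (List ℤ) := [[1, 0, -1, 1, 0, 0, 0]]
/-- layer -/ def lyE7_4_1 : List (List ℤ) := [[1, 1, 0, -1, 1, 0, 0]]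
/-- layer -/ def lyE7_4_2 : List (List ℤ) := [[1, 1, 0, 0, -1, 1, 0]]
theorem poinE7_4 (q : ℕ) : poin {j : I chevE7 | j.1 ∈ [2, 3, 4]} q = hornerL q [1, 1, 1, 1] * poin {j : I chevE7 | j.1 ∈ [3, 4]} q :=
  poin_step hAE7 (by decide) (by decide) (μ := [0, 0, 1, 0, 0, 0, 0]) (Ls := [lyE7_4_0, lyE7_4_1, lyE7_4_2]) (by decide) (by decide +kernel) q
/-- layer -/ def lyE7_5_0 : List (List ℤ) := [[0, 1, 1, -1, 1, 0, 0]]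
/-- layer -/ def lyE7_5_1 : List (List ℤ) := [[0, 1, 1, 0, -1, 1, 0]]
theorem poinE7_5 (q : ℕ) : poin {j : I chevE7 | j.1 ∈ [3, 4]} q = hornerL q [1, 1, 1] * poin {j : I chevE7 | j.1 ∈ [4]} q :=
  poin_step hAE7 (by decide) (by decide) (μ := [0, 0, 0, 1, 0, 0, 0]) (Ls := [lyE7_5_0, lyE7_5_1]) (by decide) (by decide +kernel) q
/-- layer -/ def lyE7_6_0 : List (List ℤ) := [[0, 0, 0, 1, -1, 1, 0]]
theorem poinE7_6 (q : ℕ) : poin {j : I chevE7 | j.1 ∈ [4]} q = hornerL q [1, 1] * poin {j : I chevE7 | j.1 ∈ ([] : List ℕ)} q :=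
  poin_step hAE7 (by decide) (by decide) (μ := [0, 0, 0, 0, 1, 0, 0]) (Ls := [lyE7_6_0]) (by decide) (by decide +kernel) q
theorem poinE7' (q : ℕ) : poin (Set.univ : Set (I chevE7)) q = hornerL q [1, 1, 1, 1, 1, 2, 2, 2, 2, 3, 3, 3, 3, 3, 3, 3, 3, 3, 3, 2, 2, 2, 2, 1, 1, 1, 1, 1] * (hornerL q [1, 1, 1, 1, 2, 2, 2, 2, 3, 2, 2, 2, 2, 1, 1, 1, 1] * (hornerL q [1, 1, 1, 1, 2, 1, 1, 1, 1] * (hornerL q [1, 1, 1, 2, 1, 1, 1] * (hornerL q [1, 1, 1, 1] * (hornerL q [1, 1, 1] * (hornerL q [1, 1] * 1)))))) := by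
  rw [poin_all (L := [6, 0, 5, 1, 2, 3, 4]) (by decide), poinE7_0, poinE7_1, poinE7_2, poinE7_3, poinE7_4, poinE7_5, poinE7_6, poin_nil]
theorem poinE7 (q : ℕ) : ((q : ℤ) - 1) ^ 7 * (poin (Set.univ : Set (I chevE7)) q : ℤ) = ((q : ℤ) ^ 2 - 1) * ((q : ℤ) ^ 6 - 1) * ((q : ℤ) ^ 8 - 1) * ((q : ℤ) ^ 10 - 1) * ((q : ℤ) ^ 12 - 1) * ((q : ℤ) ^ 14 - 1) * ((q : ℤ) ^ 18 - 1) := by
  rw [poinE7']; simp only [hornerL]; push_cast; ring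
theorem cardW_E7 : Nat.card (W chevE7) = 2903040 := by rw [← poin_univ_one, poinE7']; rfl
theorem coxE7 : ∀ i j : I chevE7, CoxeterMatrix.E₇ i j = (tab chevE7).cm i j := by
  rw [tabE7_eq]; exact cox_of_all (n := 7) (fun i j => CoxeterMatrix.E₇ i j) _ (by decide +kernel)
theorem coxElt_E7 : orderOf ((List.finRange chevE7.rank).map sW).prod = 18 :=
  orderOf_cox (by decide) (by rw [tabE7_eq]; decide +kernel) (by rw [tabE7_eq]; simp only [Nat.primeFactorsList_ofNat]; decide +kernel)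
theorem smithE7 : Smith (tab chevE7) [[-1, 0, 0, 0, 0, 0, 0], [0, -1, 0, 0, 0, 0, 0], [1, -2, 0, -1, 0, 0, 0], [2, -3, 0, -2, -1, 0, 0], [3, -4, 0, -3, -2, -1, 0], [-2, 1, -1, 0, 0, 0, 0], [-4, -1, -4, -4, -3, -2, -1]] [[-1, 0, 0, 0, 0, 0, 0], [0, -1, 0, 0, 0, 0, 0], [2, -1, 0, 0, 0, -1, 0], [-1, 2, -1, 0, 0, 0, 0], [0, -1, 2, -1, 0, 0, 0], [0, 0, -1, 2, -1, 0, 0], [0, 0, 0, -1, 2, 4, -1]]
    [[0, 0, 0, 0, 0, 1, -2], [0, 0, 0, 0, 0, 2, -3], [1, 0, 0, 0, 0, 2, -4], [0, 1, 0, 0, 0, 4, -6], [0, 0, 1, 0, 0, 4, -5], [0, 0, 0, 1, 0, 4, -4], [0, 0, 0, 0, 1, 4, -3]] [[-2, 0, 1, 0, 0, 0, 0], [0, -2, 0, 1, 0, 0, 0], [2, -3, 0, 0, 1, 0, 0], [4, -4, 0, 0, 0, 1, 0], [6, -5, 0, 0, 0, 0, 1], [-3, 2, 0, 0, 0, 0, 0], [-2, 1, 0, 0, 0, 0, 0]] [1, 1, 1, 1, 1, 1, 2] := by rw [tabE7_eq]; decide +kernel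
/-- Cartan rows -/
def caE8L : List (List ℤ) := [[2, 0, -1, 0, 0, 0, 0, 0], [0, 2, 0, -1, 0, 0, 0, 0], [-1, 0, 2, -1, 0, 0, 0, 0], [0, -1, -1, 2, -1, 0, 0, 0], [0, 0, 0, -1, 2, -1, 0, 0], [0, 0, 0, 0, -1, 2, -1, 0], [0, 0, 0, 0, 0, -1, 2, -1], [0, 0, 0, 0, 0, 0, -1, 2]]
theorem hAE8 : ∀ j : I chevE8, (caE8L.getD j []).length = chevE8.rank ∧ toΛ chevE8 (caE8L.getD j []) = wt (sim j) :=
  hA_of_tab (by rw [tabE8_eq]; decide +kernel)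
/-- layer -/ def lyE8_0_0 : List (List ℤ) := [[0, 0, 0, 0, 0, 0, 1, -1]]
/-- layer -/ def lyE8_0_1 : List (List ℤ) := [[0, 0, 0, 0, 0, 1, -1, 0]]
/-- layer -/ def lyE8_0_2 : List (List ℤ) := [[0, 0, 0, 0, 1, -1, 0, 0]]
/-- layer -/ def lyE8_0_3 : List (List ℤ) := [[0, 0, 0, 1, -1, 0, 0, 0]]
/-- layer -/ def lyE8_0_4 : List (List ℤ) := [[0, 1, 1, -1, 0, 0, 0, 0]]
/-- layer -/ def lyE8_0_5 : List (List ℤ) := [[0, -1, 1, 0, 0, 0, 0, 0], [1, 1, -1, 0, 0, 0, 0, 0]]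
/-- layer -/ def lyE8_0_6 : List (List ℤ) := [[1, -1, -1, 1, 0, 0, 0, 0], [-1, 1, 0, 0, 0, 0, 0, 0]]
/-- layer -/ def lyE8_0_7 : List (List ℤ) := [[-1, -1, 0, 1, 0, 0, 0, 0], [1, 0, 0, -1, 1, 0, 0, 0]]
/-- layer -/ def lyE8_0_8 : List (List ℤ) := [[-1, 0, 1, -1, 1, 0, 0, 0], [1, 0, 0, 0, -1, 1, 0, 0]]
/-- layer -/ def lyE8_0_9 : List (List ℤ) := [[0, 0, -1, 0, 1, 0, 0, 0], [-1, 0, 1, 0, -1, 1, 0, 0], [1, 0, 0, 0, 0, -1, 1, 0]]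
/-- layer -/ def lyE8_0_10 : List (List ℤ) := [[0, 0, -1, 1, -1, 1, 0, 0], [-1, 0, 1, 0, 0, -1, 1, 0], [1, 0, 0, 0, 0, 0, -1, 1]]
/-- layer -/ def lyE8_0_11 : List (List ℤ) := [[0, 0, -1, 1, 0, -1, 1, 0], [0, 1, 0, -1, 0, 1, 0, 0], [-1, 0, 1, 0, 0, 0, -1, 1], [1, 0, 0, 0, 0, 0, 0, -1]]
/-- layer -/ def lyE8_0_12 : List (List ℤ) := [[0, 0, -1, 1, 0, 0, -1, 1], [0, 1, 0, -1, 1, -1, 1, 0], [0, -1, 0, 0, 0, 1, 0, 0], [-1, 0, 1, 0, 0, 0, 0, -1]]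
/-- layer -/ def lyE8_0_13 : List (List ℤ) := [[0, 0, -1, 1, 0, 0, 0, -1], [0, 1, 0, -1, 1, 0, -1, 1], [0, -1, 0, 0, 1, -1, 1, 0], [0, 1, 0, 0, -1, 0, 1, 0]]
/-- layer -/ def lyE8_0_14 : List (List ℤ) := [[0, 1, 0, -1, 1, 0, 0, -1], [0, -1, 0, 0, 1, 0, -1, 1], [0, 1, 0, 0, -1, 1, -1, 1], [0, -1, 0, 1, -1, 0, 1, 0]]
/-- layer -/ def lyE8_0_15 : List (List ℤ) := [[0, -1, 0, 0, 1, 0, 0, -1], [0, 1, 0, 0, -1, 1, 0, -1], [0, -1, 0, 1, -1, 1, -1, 1], [0, 1, 0, 0, 0, -1, 0, 1], [0, 0, 1, -1, 0, 0, 1, 0]]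
/-- layer -/ def lyE8_0_16 : List (List ℤ) := [[0, -1, 0, 1, -1, 1, 0, -1], [0, 1, 0, 0, 0, -1, 1, -1], [0, -1, 0, 1, 0, -1, 0, 1], [0, 0, 1, -1, 0, 1, -1, 1], [1, 0, -1, 0, 0, 0, 1, 0]]
/-- layer -/ def lyE8_0_17 : List (List ℤ) := [[0, -1, 0, 1, 0, -1, 1, -1], [0, 0, 1, -1, 0, 1, 0, -1], [0, 1, 0, 0, 0, 0, -1, 0], [0, 0, 1, -1, 1, -1, 0, 1], [1, 0, -1, 0, 0, 1, -1, 1], [-1, 0, 0, 0, 0, 0, 1, 0]]
/-- layer -/ def lyE8_0_18 : List (List ℤ) := [[0, -1, 0, 1, 0, 0, -1, 0], [0, 0, 1, -1, 1, -1, 1, -1], [1, 0, -1, 0, 0, 1, 0, -1], [1, 0, -1, 0, 1, -1, 0, 1], [0, 0, 1, 0, -1, 0, 0, 1], [-1, 0, 0, 0, 0, 1, -1, 1]]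
/-- layer -/ def lyE8_0_19 : List (List ℤ) := [[0, 0, 1, -1, 1, 0, -1, 0], [1, 0, -1, 0, 1, -1, 1, -1], [0, 0, 1, 0, -1, 0, 1, -1], [-1, 0, 0, 0, 0, 1, 0, -1], [-1, 0, 0, 0, 1, -1, 0, 1], [1, 0, -1, 1, -1, 0, 0, 1]]
/-- layer -/ def lyE8_0_20 : List (List ℤ) := [[1, 0, -1, 0, 1, 0, -1, 0], [0, 0, 1, 0, -1, 1, -1, 0], [-1, 0, 0, 0, 1, -1, 1, -1], [1, 0, -1, 1, -1, 0, 1, -1], [-1, 0, 0, 1, -1, 0, 0, 1], [1, 1, 0, -1, 0, 0, 0, 1]]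
/-- layer -/ def lyE8_0_21 : List (List ℤ) := [[-1, 0, 0, 0, 1, 0, -1, 0], [1, 0, -1, 1, -1, 1, -1, 0], [0, 0, 1, 0, 0, -1, 0, 0], [-1, 0, 0, 1, -1, 0, 1, -1], [1, 1, 0, -1, 0, 0, 1, -1], [-1, 1, 1, -1, 0, 0, 0, 1], [1, -1, 0, 0, 0, 0, 0, 1]]
/-- layer -/ def lyE8_0_22 : List (List ℤ) := [[-1, 0, 0, 1, -1, 1, -1, 0], [1, 0, -1, 1, 0, -1, 0, 0], [1, 1, 0, -1, 0, 1, -1, 0], [-1, 1, 1, -1, 0, 0, 1, -1], [1, -1, 0, 0, 0, 0, 1, -1], [-1, -1, 1, 0, 0, 0, 0, 1], [0, 1, -1, 0, 0, 0, 0, 1]]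
/-- layer -/ def lyE8_0_23 : List (List ℤ) := [[-1, 0, 0, 1, 0, -1, 0, 0], [-1, 1, 1, -1, 0, 1, -1, 0], [1, 1, 0, -1, 1, -1, 0, 0], [1, -1, 0, 0, 0, 1, -1, 0], [-1, -1, 1, 0, 0, 0, 1, -1], [0, 1, -1, 0, 0, 0, 1, -1], [0, -1, -1, 1, 0, 0, 0, 1]]
/-- layer -/ def lyE8_0_24 : List (List ℤ) := [[-1, 1, 1, -1, 1, -1, 0, 0], [-1, -1, 1, 0, 0, 1, -1, 0], [0, 1, -1, 0, 0, 1, -1, 0], [1, -1, 0, 0, 1, -1, 0, 0], [1, 1, 0, 0, -1, 0, 0, 0], [0, -1, -1, 1, 0, 0, 1, -1], [0, 0, 0, -1, 1, 0, 0, 1]]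
/-- layer -/ def lyE8_0_25 : List (List ℤ) := [[-1, -1, 1, 0, 1, -1, 0, 0], [0, 1, -1, 0, 1, -1, 0, 0], [-1, 1, 1, 0, -1, 0, 0, 0], [0, -1, -1, 1, 0, 1, -1, 0], [1, -1, 0, 1, -1, 0, 0, 0], [0, 0, 0, -1, 1, 0, 1, -1], [0, 0, 0, 0, -1, 1, 0, 1]]
/-- layer -/ def lyE8_0_26 : List (List ℤ) := [[0, -1, -1, 1, 1, -1, 0, 0], [-1, -1, 1, 1, -1, 0, 0, 0], [0, 1, -1, 1, -1, 0, 0, 0], [0, 0, 0, -1, 1, 1, -1, 0], [1, 0, 1, -1, 0, 0, 0, 0], [0, 0, 0, 0, -1, 1, 1, -1], [0, 0, 0, 0, 0, -1, 1, 1]]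
/-- layer -/ def lyE8_0_27 : List (List ℤ) := [[0, 0, 0, -1, 2, -1, 0, 0], [0, -1, -1, 2, -1, 0, 0, 0], [-1, 0, 2, -1, 0, 0, 0, 0], [0, 2, 0, -1, 0, 0, 0, 0], [0, 0, 0, 0, -1, 2, -1, 0], [2, 0, -1, 0, 0, 0, 0, 0], [0, 0, 0, 0, 0, -1, 2, -1], [0, 0, 0, 0, 0, 0, -1, 2]]
/-- layer -/ def lyE8_0_28 : List (List ℤ) := [[0, 0, 0, 1, -2, 1, 0, 0], [0, 1, 1, -2, 1, 0, 0, 0], [1, 0, -2, 1, 0, 0, 0, 0], [0, -2, 0, 1, 0, 0, 0, 0], [0, 0, 0, 0, 1, -2, 1, 0], [-2, 0, 1, 0, 0, 0, 0, 0], [0, 0, 0, 0, 0, 1, -2, 1], [0, 0, 0, 0, 0, 0, 1, -2]]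
/-- layer -/ def lyE8_0_29 : List (List ℤ) := [[0, 0, 0, 1, -1, -1, 1, 0], [0, 1, 1, -1, -1, 1, 0, 0], [0, -1, 1, -1, 1, 0, 0, 0], [1, 1, -1, -1, 1, 0, 0, 0], [-1, 0, -1, 1, 0, 0, 0, 0], [0, 0, 0, 0, 1, -1, -1, 1], [0, 0, 0, 0, 0, 1, -1, -1]]
/-- layer -/ def lyE8_0_30 : List (List ℤ) := [[0, 0, 0, 1, -1, 0, -1, 1], [0, 1, 1, -1, 0, -1, 1, 0], [0, -1, 1, 0, -1, 1, 0, 0], [1, 1, -1, 0, -1, 1, 0, 0], [1, -1, -1, 0, 1, 0, 0, 0], [-1, 1, 0, -1, 1, 0, 0, 0], [0, 0, 0, 0, 1, -1, 0, -1]]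
/-- layer -/ def lyE8_0_31 : List (List ℤ) := [[0, 0, 0, 1, -1, 0, 0, -1], [0, 1, 1, -1, 0, 0, -1, 1], [0, -1, 1, 0, 0, -1, 1, 0], [1, 1, -1, 0, 0, -1, 1, 0], [1, -1, -1, 1, -1, 1, 0, 0], [-1, 1, 0, 0, -1, 1, 0, 0], [-1, -1, 0, 0, 1, 0, 0, 0]]
/-- layer -/ def lyE8_0_32 : List (List ℤ) := [[0, 1, 1, -1, 0, 0, 0, -1], [0, -1, 1, 0, 0, 0, -1, 1], [1, 1, -1, 0, 0, 0, -1, 1], [1, -1, -1, 1, 0, -1, 1, 0], [-1, 1, 0, 0, 0, -1, 1, 0], [-1, -1, 0, 1, -1, 1, 0, 0], [1, 0, 0, -1, 0, 1, 0, 0]]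
/-- layer -/ def lyE8_0_33 : List (List ℤ) := [[0, -1, 1, 0, 0, 0, 0, -1], [1, 1, -1, 0, 0, 0, 0, -1], [1, -1, -1, 1, 0, 0, -1, 1], [-1, 1, 0, 0, 0, 0, -1, 1], [-1, -1, 0, 1, 0, -1, 1, 0], [1, 0, 0, -1, 1, -1, 1, 0], [-1, 0, 1, -1, 0, 1, 0, 0]]
/-- layer -/ def lyE8_0_34 : List (List ℤ) := [[1, -1, -1, 1, 0, 0, 0, -1], [-1, 1, 0, 0, 0, 0, 0, -1], [-1, -1, 0, 1, 0, 0, -1, 1], [1, 0, 0, -1, 1, 0, -1, 1], [-1, 0, 1, -1, 1, -1, 1, 0], [1, 0, 0, 0, -1, 0, 1, 0], [0, 0, -1, 0, 0, 1, 0, 0]]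
/-- layer -/ def lyE8_0_35 : List (List ℤ) := [[-1, -1, 0, 1, 0, 0, 0, -1], [1, 0, 0, -1, 1, 0, 0, -1], [-1, 0, 1, -1, 1, 0, -1, 1], [1, 0, 0, 0, -1, 1, -1, 1], [0, 0, -1, 0, 1, -1, 1, 0], [-1, 0, 1, 0, -1, 0, 1, 0]]
/-- layer -/ def lyE8_0_36 : List (List ℤ) := [[-1, 0, 1, -1, 1, 0, 0, -1], [1, 0, 0, 0, -1, 1, 0, -1], [0, 0, -1, 0, 1, 0, -1, 1], [-1, 0, 1, 0, -1, 1, -1, 1], [1, 0, 0, 0, 0, -1, 0, 1], [0, 0, -1, 1, -1, 0, 1, 0]]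
/-- layer -/ def lyE8_0_37 : List (List ℤ) := [[0, 0, -1, 0, 1, 0, 0, -1], [-1, 0, 1, 0, -1, 1, 0, -1], [1, 0, 0, 0, 0, -1, 1, -1], [0, 0, -1, 1, -1, 1, -1, 1], [-1, 0, 1, 0, 0, -1, 0, 1], [0, 1, 0, -1, 0, 0, 1, 0]]
/-- layer -/ def lyE8_0_38 : List (List ℤ) := [[0, 0, -1, 1, -1, 1, 0, -1], [-1, 0, 1, 0, 0, -1, 1, -1], [1, 0, 0, 0, 0, 0, -1, 0], [0, 0, -1, 1, 0, -1, 0, 1], [0, 1, 0, -1, 0, 1, -1, 1], [0, -1, 0, 0, 0, 0, 1, 0]]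
/-- layer -/ def lyE8_0_39 : List (List ℤ) := [[0, 0, -1, 1, 0, -1, 1, -1], [0, 1, 0, -1, 0, 1, 0, -1], [-1, 0, 1, 0, 0, 0, -1, 0], [0, 1, 0, -1, 1, -1, 0, 1], [0, -1, 0, 0, 0, 1, -1, 1]]
/-- layer -/ def lyE8_0_40 : List (List ℤ) := [[0, 0, -1, 1, 0, 0, -1, 0], [0, 1, 0, -1, 1, -1, 1, -1], [0, -1, 0, 0, 0, 1, 0, -1], [0, -1, 0, 0, 1, -1, 0, 1], [0, 1, 0, 0, -1, 0, 0, 1]]
/-- layer -/ def lyE8_0_41 : List (List ℤ) := [[0, 1, 0, -1, 1, 0, -1, 0], [0, -1, 0, 0, 1, -1, 1, -1], [0, 1, 0, 0, -1, 0, 1, -1], [0, -1, 0, 1, -1, 0, 0, 1]]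
/-- layer -/ def lyE8_0_42 : List (List ℤ) := [[0, -1, 0, 0, 1, 0, -1, 0], [0, 1, 0, 0, -1, 1, -1, 0], [0, -1, 0, 1, -1, 0, 1, -1], [0, 0, 1, -1, 0, 0, 0, 1]]
/-- layer -/ def lyE8_0_43 : List (List ℤ) := [[0, -1, 0, 1, -1, 1, -1, 0], [0, 1, 0, 0, 0, -1, 0, 0], [0, 0, 1, -1, 0, 0, 1, -1], [1, 0, -1, 0, 0, 0, 0, 1]]
/-- layer -/ def lyE8_0_44 : List (List ℤ) := [[0, -1, 0, 1, 0, -1, 0, 0], [0, 0, 1, -1, 0, 1, -1, 0], [1, 0, -1, 0, 0, 0, 1, -1], [-1, 0, 0, 0, 0, 0, 0, 1]]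
/-- layer -/ def lyE8_0_45 : List (List ℤ) := [[0, 0, 1, -1, 1, -1, 0, 0], [1, 0, -1, 0, 0, 1, -1, 0], [-1, 0, 0, 0, 0, 0, 1, -1]]
/-- layer -/ def lyE8_0_46 : List (List ℤ) := [[1, 0, -1, 0, 1, -1, 0, 0], [0, 0, 1, 0, -1, 0, 0, 0], [-1, 0, 0, 0, 0, 1, -1, 0]]
/-- layer -/ def lyE8_0_47 : List (List ℤ) := [[-1, 0, 0, 0, 1, -1, 0, 0], [1, 0, -1, 1, -1, 0, 0, 0]]
/-- layer -/ def lyE8_0_48 : List (List ℤ) := [[-1, 0, 0, 1, -1, 0, 0, 0], [1, 1, 0, -1, 0, 0, 0, 0]]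
/-- layer -/ def lyE8_0_49 : List (List ℤ) := [[-1, 1, 1, -1, 0, 0, 0, 0], [1, -1, 0, 0, 0, 0, 0, 0]]
/-- layer -/ def lyE8_0_50 : List (List ℤ) := [[-1, -1, 1, 0, 0, 0, 0, 0], [0, 1, -1, 0, 0, 0, 0, 0]]
/-- layer -/ def lyE8_0_51 : List (List ℤ) := [[0, -1, -1, 1, 0, 0, 0, 0]]
/-- layer -/ def lyE8_0_52 : List (List ℤ) := [[0, 0, 0, -1, 1, 0, 0, 0]]
/-- layer -/ def lyE8_0_53 : List (List ℤ) := [[0, 0, 0, 0, -1, 1, 0, 0]]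
/-- layer -/ def lyE8_0_54 : List (List ℤ) := [[0, 0, 0, 0, 0, -1, 1, 0]]
/-- layer -/ def lyE8_0_55 : List (List ℤ) := [[0, 0, 0, 0, 0, 0, -1, 1]]
/-- layer -/ def lyE8_0_56 : List (List ℤ) := [[0, 0, 0, 0, 0, 0, 0, -1]]
theorem poinE8_0 (q : ℕ) : poin {j : I chevE8 | j.1 ∈ [7, 6, 0, 5, 1, 2, 3, 4]} q = hornerL q [1, 1, 1, 1, 1, 1, 2, 2, 2, 2, 3, 3, 4, 4, 4, 4, 5, 5, 6, 6, 6, 6, 7, 7, 7, 7, 7, 7, 8, 8, 7, 7, 7, 7, 7, 7, 6, 6, 6, 6, 5, 5, 4, 4, 4, 4, 3, 3, 2, 2, 2, 2, 1, 1, 1, 1, 1, 1] * poin {j : I chevE8 | j.1 ∈ [6, 0, 5, 1, 2, 3, 4]} q :=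
  poin_step hAE8 (by decide) (by decide) (μ := [0, 0, 0, 0, 0, 0, 0, 1]) (Ls := [lyE8_0_0, lyE8_0_1, lyE8_0_2, lyE8_0_3, lyE8_0_4, lyE8_0_5, lyE8_0_6, lyE8_0_7, lyE8_0_8, lyE8_0_9, lyE8_0_10, lyE8_0_11, lyE8_0_12, lyE8_0_13, lyE8_0_14, lyE8_0_15, lyE8_0_16, lyE8_0_17, lyE8_0_18, lyE8_0_19, lyE8_0_20, lyE8_0_21, lyE8_0_22, lyE8_0_23, lyE8_0_24, lyE8_0_25, lyE8_0_26, lyE8_0_27, lyE8_0_28, lyE8_0_29, lyE8_0_30, lyE8_0_31, lyE8_0_32, lyE8_0_33, lyE8_0_34, lyE8_0_35, lyE8_0_36, lyE8_0_37, lyE8_0_38, lyE8_0_39, lyE8_0_40, lyE8_0_41, lyE8_0_42, lyE8_0_43, lyE8_0_44, lyE8_0_45, lyE8_0_46, lyE8_0_47, lyE8_0_48, lyE8_0_49, lyE8_0_50, lyE8_0_51, lyE8_0_52, lyE8_0_53, lyE8_0_54, lyE8_0_55, lyE8_0_56]) (by decide) (by decide +kernel) q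
/-- layer -/ def lyE8_1_0 : List (List ℤ) := [[0, 0, 0, 0, 0, 1, -1, 1]]
/-- layer -/ def lyE8_1_1 : List (List ℤ) := [[0, 0, 0, 0, 1, -1, 0, 1]]
/-- layer -/ def lyE8_1_2 : List (List ℤ) := [[0, 0, 0, 1, -1, 0, 0, 1]]
/-- layer -/ def lyE8_1_3 : List (List ℤ) := [[0, 1, 1, -1, 0, 0, 0, 1]]
/-- layer -/ def lyE8_1_4 : List (List ℤ) := [[0, -1, 1, 0, 0, 0, 0, 1], [1, 1, -1, 0, 0, 0, 0, 1]]
/-- layer -/ def lyE8_1_5 : List (List ℤ) := [[1, -1, -1, 1, 0, 0, 0, 1], [-1, 1, 0, 0, 0, 0, 0, 1]]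
/-- layer -/ def lyE8_1_6 : List (List ℤ) := [[-1, -1, 0, 1, 0, 0, 0, 1], [1, 0, 0, -1, 1, 0, 0, 1]]
/-- layer -/ def lyE8_1_7 : List (List ℤ) := [[-1, 0, 1, -1, 1, 0, 0, 1], [1, 0, 0, 0, -1, 1, 0, 1]]
/-- layer -/ def lyE8_1_8 : List (List ℤ) := [[0, 0, -1, 0, 1, 0, 0, 1], [-1, 0, 1, 0, -1, 1, 0, 1], [1, 0, 0, 0, 0, -1, 1, 1]]
/-- layer -/ def lyE8_1_9 : List (List ℤ) := [[0, 0, -1, 1, -1, 1, 0, 1], [-1, 0, 1, 0, 0, -1, 1, 1], [1, 0, 0, 0, 0, 0, -1, 2]]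
/-- layer -/ def lyE8_1_10 : List (List ℤ) := [[0, 0, -1, 1, 0, -1, 1, 1], [0, 1, 0, -1, 0, 1, 0, 1], [-1, 0, 1, 0, 0, 0, -1, 2]]
/-- layer -/ def lyE8_1_11 : List (List ℤ) := [[0, 0, -1, 1, 0, 0, -1, 2], [0, 1, 0, -1, 1, -1, 1, 1], [0, -1, 0, 0, 0, 1, 0, 1]]
/-- layer -/ def lyE8_1_12 : List (List ℤ) := [[0, 1, 0, -1, 1, 0, -1, 2], [0, -1, 0, 0, 1, -1, 1, 1], [0, 1, 0, 0, -1, 0, 1, 1]]
/-- layer -/ def lyE8_1_13 : List (List ℤ) := [[0, -1, 0, 0, 1, 0, -1, 2], [0, 1, 0, 0, -1, 1, -1, 2], [0, -1, 0, 1, -1, 0, 1, 1]]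
/-- layer -/ def lyE8_1_14 : List (List ℤ) := [[0, -1, 0, 1, -1, 1, -1, 2], [0, 1, 0, 0, 0, -1, 0, 2], [0, 0, 1, -1, 0, 0, 1, 1]]
/-- layer -/ def lyE8_1_15 : List (List ℤ) := [[0, -1, 0, 1, 0, -1, 0, 2], [0, 0, 1, -1, 0, 1, -1, 2], [1, 0, -1, 0, 0, 0, 1, 1]]
/-- layer -/ def lyE8_1_16 : List (List ℤ) := [[0, 0, 1, -1, 1, -1, 0, 2], [1, 0, -1, 0, 0, 1, -1, 2], [-1, 0, 0, 0, 0, 0, 1, 1]]
/-- layer -/ def lyE8_1_17 : List (List ℤ) := [[1, 0, -1, 0, 1, -1, 0, 2], [0, 0, 1, 0, -1, 0, 0, 2], [-1, 0, 0, 0, 0, 1, -1, 2]]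
/-- layer -/ def lyE8_1_18 : List (List ℤ) := [[-1, 0, 0, 0, 1, -1, 0, 2], [1, 0, -1, 1, -1, 0, 0, 2]]
/-- layer -/ def lyE8_1_19 : List (List ℤ) := [[-1, 0, 0, 1, -1, 0, 0, 2], [1, 1, 0, -1, 0, 0, 0, 2]]
/-- layer -/ def lyE8_1_20 : List (List ℤ) := [[-1, 1, 1, -1, 0, 0, 0, 2], [1, -1, 0, 0, 0, 0, 0, 2]]
/-- layer -/ def lyE8_1_21 : List (List ℤ) := [[-1, -1, 1, 0, 0, 0, 0, 2], [0, 1, -1, 0, 0, 0, 0, 2]]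
/-- layer -/ def lyE8_1_22 : List (List ℤ) := [[0, -1, -1, 1, 0, 0, 0, 2]]
/-- layer -/ def lyE8_1_23 : List (List ℤ) := [[0, 0, 0, -1, 1, 0, 0, 2]]
/-- layer -/ def lyE8_1_24 : List (List ℤ) := [[0, 0, 0, 0, -1, 1, 0, 2]]
/-- layer -/ def lyE8_1_25 : List (List ℤ) := [[0, 0, 0, 0, 0, -1, 1, 2]]
/-- layer -/ def lyE8_1_26 : List (List ℤ) := [[0, 0, 0, 0, 0, 0, -1, 3]]
theorem poinE8_1 (q : ℕ) : poin {j : I chevE8 | j.1 ∈ [6, 0, 5, 1, 2, 3, 4]} q = hornerL q [1, 1, 1, 1, 1, 2, 2, 2, 2, 3, 3, 3, 3, 3, 3, 3, 3, 3, 3, 2, 2, 2, 2, 1, 1, 1, 1, 1] * poin {j : I chevE8 | j.1 ∈ [0, 5, 1, 2, 3, 4]} q :=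
  poin_step hAE8 (by decide) (by decide) (μ := [0, 0, 0, 0, 0, 0, 1, 0]) (Ls := [lyE8_1_0, lyE8_1_1, lyE8_1_2, lyE8_1_3, lyE8_1_4, lyE8_1_5, lyE8_1_6, lyE8_1_7, lyE8_1_8, lyE8_1_9, lyE8_1_10, lyE8_1_11, lyE8_1_12, lyE8_1_13, lyE8_1_14, lyE8_1_15, lyE8_1_16, lyE8_1_17, lyE8_1_18, lyE8_1_19, lyE8_1_20, lyE8_1_21, lyE8_1_22, lyE8_1_23, lyE8_1_24, lyE8_1_25, lyE8_1_26]) (by decide) (by decide +kernel) q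
/-- layer -/ def lyE8_2_0 : List (List ℤ) := [[-1, 0, 1, 0, 0, 0, 0, 0]]
/-- layer -/ def lyE8_2_1 : List (List ℤ) := [[0, 0, -1, 1, 0, 0, 0, 0]]
/-- layer -/ def lyE8_2_2 : List (List ℤ) := [[0, 1, 0, -1, 1, 0, 0, 0]]
/-- layer -/ def lyE8_2_3 : List (List ℤ) := [[0, -1, 0, 0, 1, 0, 0, 0], [0, 1, 0, 0, -1, 1, 0, 0]]
/-- layer -/ def lyE8_2_4 : List (List ℤ) := [[0, -1, 0, 1, -1, 1, 0, 0], [0, 1, 0, 0, 0, -1, 1, 0]]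
/-- layer -/ def lyE8_2_5 : List (List ℤ) := [[0, -1, 0, 1, 0, -1, 1, 0], [0, 0, 1, -1, 0, 1, 0, 0]]
/-- layer -/ def lyE8_2_6 : List (List ℤ) := [[0, 0, 1, -1, 1, -1, 1, 0], [1, 0, -1, 0, 0, 1, 0, 0]]
/-- layer -/ def lyE8_2_7 : List (List ℤ) := [[1, 0, -1, 0, 1, -1, 1, 0], [0, 0, 1, 0, -1, 0, 1, 0], [-1, 0, 0, 0, 0, 1, 0, 0]]
/-- layer -/ def lyE8_2_8 : List (List ℤ) := [[-1, 0, 0, 0, 1, -1, 1, 0], [1, 0, -1, 1, -1, 0, 1, 0]]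
/-- layer -/ def lyE8_2_9 : List (List ℤ) := [[-1, 0, 0, 1, -1, 0, 1, 0], [1, 1, 0, -1, 0, 0, 1, 0]]
/-- layer -/ def lyE8_2_10 : List (List ℤ) := [[-1, 1, 1, -1, 0, 0, 1, 0], [1, -1, 0, 0, 0, 0, 1, 0]]
/-- layer -/ def lyE8_2_11 : List (List ℤ) := [[-1, -1, 1, 0, 0, 0, 1, 0], [0, 1, -1, 0, 0, 0, 1, 0]]
/-- layer -/ def lyE8_2_12 : List (List ℤ) := [[0, -1, -1, 1, 0, 0, 1, 0]]
/-- layer -/ def lyE8_2_13 : List (List ℤ) := [[0, 0, 0, -1, 1, 0, 1, 0]]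
/-- layer -/ def lyE8_2_14 : List (List ℤ) := [[0, 0, 0, 0, -1, 1, 1, 0]]
/-- layer -/ def lyE8_2_15 : List (List ℤ) := [[0, 0, 0, 0, 0, -1, 2, 0]]
theorem poinE8_2 (q : ℕ) : poin {j : I chevE8 | j.1 ∈ [0, 5, 1, 2, 3, 4]} q = hornerL q [1, 1, 1, 1, 2, 2, 2, 2, 3, 2, 2, 2, 2, 1, 1, 1, 1] * poin {j : I chevE8 | j.1 ∈ [5, 1, 2, 3, 4]} q :=
  poin_step hAE8 (by decide) (by decide) (μ := [1, 0, 0, 0, 0, 0, 0, 0]) (Ls := [lyE8_2_0, lyE8_2_1, lyE8_2_2, lyE8_2_3, lyE8_2_4, lyE8_2_5, lyE8_2_6, lyE8_2_7, lyE8_2_8, lyE8_2_9, lyE8_2_10, lyE8_2_11, lyE8_2_12, lyE8_2_13, lyE8_2_14, lyE8_2_15]) (by decide) (by decide +kernel) q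
/-- layer -/ def lyE8_3_0 : List (List ℤ) := [[0, 0, 0, 0, 1, -1, 1, 0]]
/-- layer -/ def lyE8_3_1 : List (List ℤ) := [[0, 0, 0, 1, -1, 0, 1, 0]]
/-- layer -/ def lyE8_3_2 : List (List ℤ) := [[0, 1, 1, -1, 0, 0, 1, 0]]
/-- layer -/ def lyE8_3_3 : List (List ℤ) := [[0, -1, 1, 0, 0, 0, 1, 0], [1, 1, -1, 0, 0, 0, 1, 0]]
/-- layer -/ def lyE8_3_4 : List (List ℤ) := [[1, -1, -1, 1, 0, 0, 1, 0]]
/-- layer -/ def lyE8_3_5 : List (List ℤ) := [[1, 0, 0, -1, 1, 0, 1, 0]]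
/-- layer -/ def lyE8_3_6 : List (List ℤ) := [[1, 0, 0, 0, -1, 1, 1, 0]]
/-- layer -/ def lyE8_3_7 : List (List ℤ) := [[1, 0, 0, 0, 0, -1, 2, 0]]
theorem poinE8_3 (q : ℕ) : poin {j : I chevE8 | j.1 ∈ [5, 1, 2, 3, 4]} q = hornerL q [1, 1, 1, 1, 2, 1, 1, 1, 1] * poin {j : I chevE8 | j.1 ∈ [1, 2, 3, 4]} q :=
  poin_step hAE8 (by decide) (by decide) (μ := [0, 0, 0, 0, 0, 1, 0, 0]) (Ls := [lyE8_3_0, lyE8_3_1, lyE8_3_2, lyE8_3_3, lyE8_3_4, lyE8_3_5, lyE8_3_6, lyE8_3_7]) (by decide) (by decide +kernel) q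
/-- layer -/ def lyE8_4_0 : List (List ℤ) := [[0, -1, 0, 1, 0, 0, 0, 0]]
/-- layer -/ def lyE8_4_1 : List (List ℤ) := [[0, 0, 1, -1, 1, 0, 0, 0]]
/-- layer -/ def lyE8_4_2 : List (List ℤ) := [[1, 0, -1, 0, 1, 0, 0, 0], [0, 0, 1, 0, -1, 1, 0, 0]]
/-- layer -/ def lyE8_4_3 : List (List ℤ) := [[1, 0, -1, 1, -1, 1, 0, 0]]
/-- layer -/ def lyE8_4_4 : List (List ℤ) := [[1, 1, 0, -1, 0, 1, 0, 0]]
/-- layer -/ def lyE8_4_5 : List (List ℤ) := [[1, -1, 0, 0, 0, 1, 0, 0]]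
theorem poinE8_4 (q : ℕ) : poin {j : I chevE8 | j.1 ∈ [1, 2, 3, 4]} q = hornerL q [1, 1, 1, 2, 1, 1, 1] * poin {j : I chevE8 | j.1 ∈ [2, 3, 4]} q :=
  poin_step hAE8 (by decide) (by decide) (μ := [0, 1, 0, 0, 0, 0, 0, 0]) (Ls := [lyE8_4_0, lyE8_4_1, lyE8_4_2, lyE8_4_3, lyE8_4_4, lyE8_4_5]) (by decide) (by decide +kernel) q
/-- layer -/ def lyE8_5_0 : List (List ℤ) := [[1, 0, -1, 1, 0, 0, 0, 0]]
/-- layer -/ def lyE8_5_1 : List (List ℤ) := [[1, 1, 0, -1, 1, 0, 0, 0]]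
/-- layer -/ def lyE8_5_2 : List (List ℤ) := [[1, 1, 0, 0, -1, 1, 0, 0]]
theorem poinE8_5 (q : ℕ) : poin {j : I chevE8 | j.1 ∈ [2, 3, 4]} q = hornerL q [1, 1, 1, 1] * poin {j : I chevE8 | j.1 ∈ [3, 4]} q :=
  poin_step hAE8 (by decide) (by decide) (μ := [0, 0, 1, 0, 0, 0, 0, 0]) (Ls := [lyE8_5_0, lyE8_5_1, lyE8_5_2]) (by decide) (by decide +kernel) q
/-- layer -/ def lyE8_6_0 : List (List ℤ) := [[0, 1, 1, -1, 1, 0, 0, 0]]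
/-- layer -/ def lyE8_6_1 : List (List ℤ) := [[0, 1, 1, 0, -1, 1, 0, 0]]
theorem poinE8_6 (q : ℕ) : poin {j : I chevE8 | j.1 ∈ [3, 4]} q = hornerL q [1, 1, 1] * poin {j : I chevE8 | j.1 ∈ [4]} q :=
  poin_step hAE8 (by decide) (by decide) (μ := [0, 0, 0, 1, 0, 0, 0, 0]) (Ls := [lyE8_6_0, lyE8_6_1]) (by decide) (by decide +kernel) q
/-- layer -/ def lyE8_7_0 : List (List ℤ) := [[0, 0, 0, 1, -1, 1, 0, 0]]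
theorem poinE8_7 (q : ℕ) : poin {j : I chevE8 | j.1 ∈ [4]} q = hornerL q [1, 1] * poin {j : I chevE8 | j.1 ∈ ([] : List ℕ)} q :=
  poin_step hAE8 (by decide) (by decide) (μ := [0, 0, 0, 0, 1, 0, 0, 0]) (Ls := [lyE8_7_0]) (by decide) (by decide +kernel) q
theorem poinE8' (q : ℕ) : poin (Set.univ : Set (I chevE8)) q = hornerL q [1, 1, 1, 1, 1, 1, 2, 2, 2, 2, 3, 3, 4, 4, 4, 4, 5, 5, 6, 6, 6, 6, 7, 7, 7, 7, 7, 7, 8, 8, 7, 7, 7, 7, 7, 7, 6, 6, 6, 6, 5, 5, 4, 4, 4, 4, 3, 3, 2, 2, 2, 2, 1, 1, 1, 1, 1, 1] * (hornerL q [1, 1, 1, 1, 1, 2, 2, 2, 2, 3, 3, 3, 3, 3, 3, 3, 3, 3, 3, 2, 2, 2, 2, 1, 1, 1, 1, 1] * (hornerL q [1, 1, 1, 1, 2, 2, 2, 2, 3, 2, 2, 2, 2, 1, 1, 1, 1] * (hornerL q [1, 1, 1, 1, 2, 1, 1, 1, 1] * (hornerL q [1, 1, 1, 2, 1, 1, 1] * (hornerL q [1, 1, 1, 1] * (hornerL q [1, 1, 1] * (hornerL q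 [1, 1] * 1))))))) := by
  rw [poin_all (L := [7, 6, 0, 5, 1, 2, 3, 4]) (by decide), poinE8_0, poinE8_1, poinE8_2, poinE8_3, poinE8_4, poinE8_5, poinE8_6, poinE8_7, poin_nil]
theorem poinE8 (q : ℕ) : ((q : ℤ) - 1) ^ 8 * (poin (Set.univ : Set (I chevE8)) q : ℤ) = ((q : ℤ) ^ 2 - 1) * ((q : ℤ) ^ 8 - 1) * ((q : ℤ) ^ 12 - 1) * ((q : ℤ) ^ 14 - 1) * ((q : ℤ) ^ 18 - 1) * ((q : ℤ) ^ 20 - 1) * ((q : ℤ) ^ 24 - 1) * ((q : ℤ) ^ 30 - 1) := by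
  rw [poinE8']; simp only [hornerL]; push_cast; ring
theorem cardW_E8 : Nat.card (W chevE8) = 696729600 := by rw [← poin_univ_one, poinE8']; rfl
theorem coxE8 : ∀ i j : I chevE8, CoxeterMatrix.E₈ i j = (tab chevE8).cm i j := by
  rw [tabE8_eq]; exact cox_of_all (n := 8) (fun i j => CoxeterMatrix.E₈ i j) _ (by decide +kernel)
theorem coxElt_E8 : orderOf ((List.finRange chevE8.rank).map sW).prod = 30 :=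
  orderOf_cox (by decide) (by rw [tabE8_eq]; decide +kernel) (by rw [tabE8_eq]; simp only [Nat.primeFactorsList_ofNat]; decide +kernel)
theorem smithE8 : Smith (tab chevE8) [[-1, 0, 0, 0, 0, 0, 0, 0], [0, -1, 0, 0, 0, 0, 0, 0], [1, -2, 0, -1, 0, 0, 0, 0], [2, -3, 0, -2, -1, 0, 0, 0], [3, -4, 0, -3, -2, -1, 0, 0], [4, -5, 0, -4, -3, -2, -1, 0], [-2, 1, -1, 0, 0, 0, 0, 0], [-3, -2, -4, -5, -4, -3, -2, -1]] [[-1, 0, 0, 0, 0, 0, 0, 0], [0, -1, 0, 0, 0, 0, 0, 0], [2, -1, 0, 0, 0, 0, -1, 0], [-1, 2, -1, 0, 0, 0, 0, 0], [0, -1, 2, -1, 0, 0, 0, 0], [0, 0, -1, 2, -1, 0, 0, 0], [0, 0, 0, -1, 2, -1, 0, 0], [0, 0, 0, 0, -1, 2, 4, -1]]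
    [[0, 0, 0, 0, 0, 0, 1, -2], [0, 0, 0, 0, 0, 0, 2, -3], [1, 0, 0, 0, 0, 0, 2, -4], [0, 1, 0, 0, 0, 0, 4, -6], [0, 0, 1, 0, 0, 0, 4, -5], [0, 0, 0, 1, 0, 0, 4, -4], [0, 0, 0, 0, 1, 0, 4, -3], [0, 0, 0, 0, 0, 1, 4, -2]] [[-2, 0, 1, 0, 0, 0, 0, 0], [0, -2, 0, 1, 0, 0, 0, 0], [2, -3, 0, 0, 1, 0, 0, 0], [4, -4, 0, 0, 0, 1, 0, 0], [6, -5, 0, 0, 0, 0, 1, 0], [8, -6, 0, 0, 0, 0, 0, 1], [-3, 2, 0, 0, 0, 0, 0, 0], [-2, 1, 0, 0, 0, 0, 0, 0]] [1, 1, 1, 1, 1, 1, 1, 1] := by rw [tabE8_eq]; decide +kernel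

end H12
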