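import Cfsg.Agent.H12.Fold
import Cfsg.Agent.S2122

/-! Diagonal automorphisms `dl c` as matrices: they normalize twisted groups (`TwF.dl_mem`); an inner-diagonal element centralizing a large
subgroup is trivial (`cent_dl`). -/

set_option autoImplicit false

namespace H12
open Cfsg.Lie H13 StSys H24

variable {D : ChevalleyDatum} [G : Good D] {F : Type*} [Field F]

/-- the diagonal matrices -/
def dl : (I D → Fˣ) →* GL D.Idx F := MonoidHom.mk' (fun c => dgU (cChar c)) fun a b => Units.ext <| by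
  change dg _ = dg _ * dg _
  rw [← dg_mul]; congr 1; ext v; simp [cChar, mul_zpow, Finset.prod_mul_distrib]
theorem dl_conj (c : I D → Fˣ) (r : Φ D) (t : F) : dl c * (adS D F).x r t * (dl c)⁻¹ = (adS D F).x r (cChar c (rc r) * t) := dgU_conj _ r t
theorem act_dl (c : I D → Fˣ) : (adS D F).Act (dl c) 1 := ⟨fun r => cChar c (rc r), fun r => by simp only [rc_ng, AddChar.map_neg_eq_inv], dl_conj c⟩
theorem TwF.dl_mem {R : RSym D} {τ : TwF (adS D F) R} {c : I D → Fˣ} (hc : c ∈ τ.T1) {g : GL D.Idx F} (hg : g ∈ τ.G1) : dl c * g * (dl c)⁻¹ ∈ τ.G1 := by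
  have hT : ∀ {g}, g ∈ (adS D F).T → dl c * g * (dl c)⁻¹ ∈ (adS D F).T := (act_dl c).conj_mem fun _ _ => trivial
  let P : Subgroup (GL D.Idx F) :=
    { carrier := {g | g ∈ (adS D F).T ∧ τ.σ (dl c * g * (dl c)⁻¹) = dl c * τ.σ g * (dl c)⁻¹}
      mul_mem' := fun ha hb => ⟨mul_mem ha.1 hb.1, by rw [← conj_mul, τ.mul _ (hT ha.1) _ (hT hb.1), ha.2, hb.2, τ.mul _ ha.1 _ hb.1, conj_mul]⟩
      one_mem' := ⟨one_mem _, by simp [τ.one]⟩
      inv_mem' := fun ha => ⟨inv_mem ha.1, by rw [← conj_inv, τ.inv (hT ha.1), ha.2, τ.inv ha.1, conj_inv]⟩ }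
  have h : (adS D F).T ≤ P := T_le_of_sim (fun i t => ⟨x_mem_T _ _ _, by rw [dl_conj, τ.σ_sim, τ.σ_sim, dl_conj, cChar_sim, cChar_sim, hc i]; simp⟩)
    fun i t => ⟨x_mem_T _ _ _, by
      rw [dl_conj, τ.σ_ng_sim, τ.σ_ng_sim, dl_conj, rc_ng, rc_ng, AddChar.map_neg_eq_inv, AddChar.map_neg_eq_inv, cChar_sim, cChar_sim, hc i]; simp⟩
  have k : ∀ {g}, g ∈ τ.Fix → dl c * g * (dl c)⁻¹ ∈ τ.Fix := fun hg => ⟨hT hg.1, by rw [(h hg.1).2, hg.2]⟩
  exact (show τ.G1 ≤ τ.G1.comap (MulAut.conj (dl c)).toMonoidHom from sup_le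
    (fun _ hu => Subgroup.mem_sup_left ⟨(act_dl c).conj_mem (fun _ h => h) hu.1, k hu.2⟩)
    fun _ hu => Subgroup.mem_sup_right ⟨(act_dl c).conj_mem (fun _ h => h) hu.1, k hu.2⟩) hg
theorem cent_dl {g n : GL D.Idx F} {c : I D → Fˣ} (hg : g ∈ (adS D F).T) (hn : (adS D F).Rep n (w0 D)) (h1 : Commute (g * dl c) n)
    (h2 : ∀ i, ∃ O, Orth O ∧ i ∈ O ∧ Commute (g * dl c) (O.map fun j => (adS D F).x (sim j) 1).prod) : ∃ a, ∀ j, actM (CA D) a j * c j = 1 := by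
  have key : ∀ {g' d}, g' ∈ (adS D F).T → (adS D F).Act d 1 → g * dl c = g' * d → g' ∈ (adS D F).B := fun {g' d} a b e =>
    mem_B_of_sim cov_ad a fun i => by
      obtain ⟨O, o1, o2, o3⟩ := h2 i
      refine ⟨_, b.conj_mem (fun _ h => h) (TwF.xU_mem (O := O) fun _ => 1), fun h => TwF.xU_not_mem (S := adS D F) cov_ad o1 o2
        (by have := b.conj_mem' (fun _ h => h) h; rwa [← mul_assoc, inv_mul_cancel_right, inv_mul_cancel_left] at this), ?_⟩
      rw [show ∀ u, g' * (d * u * d⁻¹) * g'⁻¹ = g' * d * u * (g' * d)⁻¹ by intros; group, ← e, o3.eq, mul_inv_cancel_right]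
      exact U_le_B _ (TwF.xU_mem _)
  have hT := N_le_T _ hn.mem_N
  obtain ⟨a, rfl⟩ := r3_ad.exists_hl ((mem_H_iff cov_ad hn g).2 ⟨key hg (act_dl c) rfl, key (d := n⁻¹ * dl c * n) (mul_mem (mul_mem (inv_mem hT) hg) hT)
    (by simpa using (hn.act.inv.mul (act_dl c)).mul hn.act) (by rw [← mul_inv_cancel_left n⁻¹ (g * dl c), inv_inv, ← h1.eq]; group)⟩)
  refine ⟨a, fun j => Units.ext ?_⟩
  obtain ⟨O, o1, o2, o3⟩ := h2 j
  refine TwF.xU_inj cov_ad o1.1 sim sim_injective (l := fl) (fun j => pos_fl _ (isPos_sim j)) (c := fun j => ((actM (CA D) a j * c j : Fˣ) : F)) (c' := fun _ => 1) ?_ j o2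
  rw [← mul_inv_eq_iff_eq_mul.2 o3.eq, ← MulAut.conj_apply, map_list_prod, List.map_map]; congr 2; funext j
  rw [Function.comp, map_mul, MulAut.mul_apply, MulAut.conj_apply, MulAut.conj_apply, dl_conj, hl_conj_x, cChar_sim, mul_one]; rfl
omit G in
theorem e6_char {M : Type*} [CommGroup M] (h : ∀ x : M, x ^ 3 = 1) {a c : I chevE6 → M} (e : ∀ j, actM (CA chevE6) a j * c j = 1) :
    c (n6 0) * c (n6 2) ^ 2 * c (n6 4) * c (n6 5) ^ 2 = 1 := by
  have h1 : ∀ i : Fin 6, (3 : ℤ) ∣ ∑ j : Fin 6, CA chevE6 (n6 i) (n6 j) * ![1, 0, 2, 0, 1, 2] j := by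
    change ∀ i : Fin 6, (3 : ℤ) ∣ ∑ j : Fin 6, (tab chevE6).ca i ((tab chevE6).sim j) * ![1, 0, 2, 0, 1, 2] j
    rw [tabE6_eq]; decide +kernel
  have h2 : ∏ j : Fin 6, (actM (CA chevE6) a (n6 j) * c (n6 j)) ^ (![1, 0, 2, 0, 1, 2] j : ℤ) = 1 := by simp [e]
  simp only [mul_zpow, Finset.prod_mul_distrib, actM_apply, ← Finset.prod_zpow, ← zpow_mul] at h2
  rw [Finset.prod_comm, Finset.prod_eq_one fun i _ => by
    obtain ⟨k, hk⟩ := h1 i
    rw [← zpow_sum']; exact (congrArg _ hk).trans (by rw [zpow_mul, zpow_ofNat, h, one_zpow]), one_mul] at h2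
  simpa [Fin.prod_univ_six, zpow_ofNat] using h2
theorem rep_glMap {F₀ : Type*} [Field F₀] (f : F₀ →+* F) {n : GL D.Idx F₀} {w : W D} (h : (adS D F₀).Rep n w) : (adS D F).Rep (glMap D f n) w := by
  obtain ⟨l, h, hh, rfl, rfl⟩ := h
  have e : ∀ r t, glMap D f ((adS D F₀).n r t) = (adS D F).n r (Units.map f t) := fun r t => by simp [n]
  refine ⟨l, glMap D f h, ?_, rfl, by simp [nw, map_list_prod, Function.comp_def, e]⟩
  refine (Subgroup.closure_le ((adS D F).H.comap (glMap D f))).2 ?_ hh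
  rintro _ ⟨r, t, rfl⟩
  simpa [h_def, e] using (adS D F).h_mem_H r (Units.map f t)
end H12
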