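import Cfsg.Agent.H12.Fi8
import Cfsg.Agent.H12.Fold3
import Cfsg.Agent.H12.Fld
import Cfsg.Agent.H12.TorW
import Cfsg.Agent.S1696

/-! `Fi₂₂` inside `²E₆(2)` (`Fi.exists_hom`); three classes of subgroups of `²E₆(2)` permuted by a diagonal automorphism (`Fi.three`). -/

set_option autoImplicit false

namespace H12.Fi
open Cfsg Cfsg.Lie Cfsg.Spor Matrix StSys H13 Fi22

variable {K : Type*} [Field K]
theorem Rel.eq [CharP K 2] {ω : K} (hω : ω ^ 2 = ω + 1) {l : List Gen} {m : ℕ} (h : Rel l m) : (l.map fun s => wd ω (gw s)).prod ^ m = 1 := by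
  rw [← pow_eq_one hω h]; congr 1; clear h
  induction l with
  | nil => rfl
  | cons s l ih => rw [List.map_cons, List.prod_cons, ih, List.flatMap_cons, wd_append]
theorem ok_gw (s : Gen) : Ok (gw s) := fun c hc => (rel_spec.1 s (mem_gens s) s (mem_gens s)).1 c (by simp [hc])
theorem scalar [CharP K 2] {ω : K} (hω : ω ^ 2 = ω + 1) {M : Matrix J J K} (h : ∀ s ≠ Gen.a, Commute M (wd ω (gw s) : GL J K)) : ∃ t : K, M = t • 1 := by
  have k1 : ∀ s p, ev ω (m1 s p) = (1 + (wd ω (gw s) : GL J K)) * ev ω p := fun s p => by rw [m1, ev_px, ev_act hω (ok_gw s), add_mul, one_mul]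
  have k2 : ∀ s ≠ Gen.a, Commute M (1 + (wd ω (gw s) : GL J K)) := fun s hs => (Commute.one_right M).add_right (h s hs)
  obtain ⟨E, e1, e2⟩ : ∃ E, Commute M E ∧ ∀ p, ev ω (e4 p) = E * ev ω p :=
    ⟨_, (((k2 .b (by decide)).mul_right (k2 .d (by decide))).mul_right (k2 .g (by decide))).mul_right (k2 .i (by decide)),
      fun p => by rw [e4, k1, k1, k1, k1, mul_assoc, mul_assoc, mul_assoc]⟩
  obtain ⟨c1, c2, c3, c4⟩ := cert_spec
  obtain ⟨a0, ha⟩ := ix_surj (n := 52) (by decide)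
  obtain ⟨j0, hj⟩ := ix_surj (n := 8) (by decide)
  have e3 : ∀ a b, E a b = E a j0 * E a0 b := fun a b => by
    have := e2 (one, 0)
    rw [ev_one, mul_one, ev, c3, m2_zero, smul_zero, add_zero] at this
    simp only [← this, m2, bt, of_apply, ha, hj]
    rw [c4 _ (ix_lt a) _ (ix_lt b)]
    cases (e4 (one, 0)).1.testBit (78 * ix a + 8) <;> simp
  have e4 : M * E = (E * M) a0 j0 • E := by
    ext a b
    calc (M * E) a b = (M * E) a j0 * E a0 b := by simp only [mul_apply, Finset.sum_mul]; exact Finset.sum_congr rfl fun c _ => by rw [e3 c b, mul_assoc]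
      _ = _ := by
        rw [e1.eq, Matrix.smul_apply, e3 a b]; simp only [mul_apply, Finset.sum_mul, smul_eq_mul]
        exact Finset.sum_congr rfl fun c _ => by rw [e3 a c]; ring
  have : ∀ L : List (Gen × ℕ × ℕ), (∀ c ∈ L, c.1 ≠ .a) → M * ev ω (hor L) = (E * M) a0 j0 • ev ω (hor L) := fun L hL => by
    induction L with
    | nil => simp [hor, ev]
    | cons c L ih =>
      change M * ev ω (px _ (act _ (hor L))) = _ • ev ω (px _ (act _ (hor L)))
      rw [ev_px, e2, ev_act hω (ok_gw _), mul_add, ← mul_assoc, e4, ← mul_assoc, (h _ (hL c (by simp))).eq, mul_assoc, ih fun d hd => hL d (by simp [hd]),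
        smul_add, Matrix.smul_mul, Matrix.mul_smul]
  exact ⟨_, by simpa [c1, ev_one] using this cert c2⟩

variable [Fintype K] (hK : Fintype.card K = 4)
include hK
theorem exists_hom : ∃ β : Fi22 →* GL J K, Function.Injective β ∧ β.range ≤ twistedE6 K 2 ∧
    ∀ z : GL J K, (∀ s ≠ Gen.a, Commute z (β (PresentedGroup.of s))) → ∀ a, Commute z a := by
  have hK' : Fintype.card K = 2 ^ 2 := hK
  have : CharP K 2 := charP_of_card_eq_prime_pow hK'
  obtain ⟨φ, hφ⟩ := exists_frob (F := K) Nat.prime_two.isPrimePow two_ne_zero hK'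
  obtain ⟨ω, h1⟩ := exists_sq_ne_one hK.ge
  have hω : (ω : K) ^ 2 = ω + 1 := by
    have h2 : (ω : K) ^ 3 = 1 := by simpa [hK] using FiniteField.pow_card_sub_one_eq_one (ω : K) ω.ne_zero
    have h3 : (ω : K) - 1 ≠ 0 := fun h => h1 (by simp [sub_eq_zero.1 h])
    have := CharTwo.two_eq_zero (R := K)
    exact mul_left_cancel₀ h3 (by linear_combination h2 - (ω : K) ^ 2 * this + this)
  let β : Fi22 →* GL J K := PresentedGroup.toGroup (f := fun s => wd (ω : K) (gw s)) (by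
    rintro r (⟨x, -, y, -, rfl⟩ | hr)
    · simpa using (rel_spec.1 x (mem_gens x) y (mem_gens y)).eq hω
    simp only [extra, List.mem_cons, List.not_mem_nil, or_false, Set.mem_setOf_eq] at hr
    rcases hr with rfl | rfl | rfl
    exacts [by simpa [mul_assoc] using rel_spec.2.1.eq hω, by simpa [mul_assoc] using rel_spec.2.2.1.eq hω, by simpa [mul_assoc] using rel_spec.2.2.2.eq hω])
  have hβ : ∀ s, β (PresentedGroup.of s) = wd (ω : K) (gw s) := fun s => PresentedGroup.toGroup.of _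
  have hs : ∀ z : GL J K, (∀ s ≠ Gen.a, Commute z (β (PresentedGroup.of s))) → ∀ a, Commute z a := fun z h a => by
    obtain ⟨t, ht⟩ := scalar hω (M := z) fun s hs => by rw [← hβ]; exact (h s hs).map (Units.coeHom _)
    exact Units.ext (by simp [ht])
  refine ⟨β, ?_, ?_, hs⟩
  · have := Cfsg.Agent.S1696.result.1
    refine (MonoidHom.ker_eq_bot_iff _).1 ((Subgroup.Normal.eq_bot_or_eq_top inferInstance).resolve_right fun h => ?_)
    have k := fun a b : GL J K => hs a (fun s _ => by rw [show β _ = 1 from h.ge (Subgroup.mem_top _)]; exact Commute.one_right _) b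
    exact (simple_of_mem (D := chevE6) (F := K) (by simp) fun _ => ⟨ω, ω.ne_zero, fun h => h1 (by simp [h])⟩).2 ⟨⟨fun a b => Subtype.ext (k _ _)⟩⟩
  · rw [MonoidHom.range_eq_map, ← PresentedGroup.closure_range_of, MonoidHom.map_closure, Subgroup.closure_le, eq6 hφ hK']
    rintro _ ⟨_, ⟨s, rfl⟩, rfl⟩
    rw [hβ, gw, wd_append, wd_append]
    have := blk_spec s (mem_gens s)
    exact mul_mem (mul_mem (mem_G1 hω hφ this.1) (mem_G1 hω hφ this.2)) (mem_G1 hω hφ this.1)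
theorem three {Γ : Type*} [Group Γ] {β : Γ →* GL J K} (b1 : Function.Injective β) (b3 : β.range ≤ twistedE6 K 2) (hO : ∀ b : Out Γ, b ^ 2 = 1)
    (hS : ∀ z : GL J K, (∀ a, Commute z (β a)) → ∀ a, Commute z a) : ∃ H : Fin 3 → Subgroup (twistedE6 K 2), (∀ i, Nonempty (H i ≃* Γ)) ∧
      ∀ i j, i ≠ j → ∀ g : twistedE6 K 2, (H i).map (MulAut.conj g).toMonoidHom ≠ H j := by
  have hK' : Fintype.card K = 2 ^ 2 := hK
  have : CharP K 2 := charP_of_card_eq_prime_pow hK'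
  obtain ⟨φ, hφ⟩ := exists_frob (F := K) Nat.prime_two.isPrimePow two_ne_zero hK'
  have h3 : ∀ x : Kˣ, x ^ 3 = 1 := fun x => by simpa [Nat.card_units, hK] using pow_card_eq_one' (x := x)
  obtain ⟨ω, hω⟩ := exists_sq_ne_one hK.ge
  let e : I chevE6 → Kˣ := fun j => if j = n6 0 then ω else if j = n6 5 then ω ^ 2 else 1
  have he : e ∈ (tw6 φ).T1 := (mem_T16 hφ).2 (by simp [e, n6_inj, ← pow_mul, pow_succ ω 3, h3])
  have hle : ∀ i : ℕ, β.range.map (MulAut.conj (dl (e ^ i))).toMonoidHom ≤ twistedE6 K 2 := fun i => by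
    rintro _ ⟨y, hy, rfl⟩; rw [eq6 hφ hK'] at b3 ⊢; exact TwF.dl_mem (pow_mem he i) (b3 hy)
  refine ⟨fun i => (β.range.map (MulAut.conj (dl (e ^ i.1))).toMonoidHom).subgroupOf _, fun i => ⟨(Subgroup.subgroupOfEquivOfLe (hle i)).trans
    ((β.range.equivMapOfInjective _ (MulAut.conj _).injective).symm.trans (MonoidHom.ofInjective b1).symm)⟩, fun i j hij g hg => ?_⟩
  have hx : (dl (e ^ j.1))⁻¹ * g.1 * dl (e ^ i.1) ∈ Subgroup.normalizer (β.range : Set (GL chevE6.Idx K)) :=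
    Subgroup.mem_normalizer_fintype fun y hy => by
      obtain ⟨z, hz, e'⟩ := hg.le ⟨⟨_, hle i ⟨y, hy, rfl⟩⟩, ⟨y, hy, rfl⟩, rfl⟩
      have e' : dl _ * z * (dl _)⁻¹ = g.1 * (dl _ * y * (dl _)⁻¹) * g.1⁻¹ := e'
      convert hz using 1
      rw [← mul_left_cancel_iff (a := dl (e ^ j.1)), ← mul_right_cancel_iff (a := (dl (e ^ j.1))⁻¹), e']; group
  set x := (dl (e ^ j.1))⁻¹ * g.1 * dl (e ^ i.1) with hx'
  let b := MulAut.congr (MonoidHom.ofInjective b1).symm (β.range.normalizerMonoidHom ⟨x, hx⟩)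
  obtain ⟨y, hy⟩ : b ^ 2 ∈ Cfsg.Inn _ := by rw [← QuotientGroup.eq_one_iff, QuotientGroup.mk_pow]; exact hO _
  have hz := hS ((β y)⁻¹ * x ^ 2) fun a => by
    have := congrArg (fun σ => β (σ a)) hy
    have k : ∀ a, β (b a) = x * β a * x⁻¹ := fun a => MonoidHom.apply_ofInjective_symm b1 _
    simp only [sq, MulAut.mul_apply, k, MulAut.conj_apply, map_mul, map_inv] at this
    rw [Commute, SemiconjBy, ← mul_inv_eq_iff_eq_mul, ← mul_left_cancel_iff (a := β y), ← mul_right_cancel_iff (a := (β y)⁻¹), this]; simp [sq, mul_assoc]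
  have hT : ∀ c {g}, g ∈ (adS chevE6 K).T → dl c * g * (dl c)⁻¹ ∈ (adS chevE6 K).T := fun c => (act_dl c).conj_mem fun _ _ => trivial
  have g1 : ∀ {g}, g ∈ twistedE6 K 2 → g ∈ (adS chevE6 K).T := fun h => (adm6 hφ hK').le h |>.1
  have g2 := hT (e ^ j.1)⁻¹ (g1 g.2)
  rw [show (β y)⁻¹ * x ^ 2 = ((β y)⁻¹ * (dl (e ^ j.1)⁻¹ * g.1 * (dl (e ^ j.1)⁻¹)⁻¹) * (dl ((e ^ j.1)⁻¹ * e ^ i.1) * (dl (e ^ j.1)⁻¹ * g.1 * (dl (e ^ j.1)⁻¹)⁻¹) *
    (dl ((e ^ j.1)⁻¹ * e ^ i.1))⁻¹)) * dl (((e ^ j.1)⁻¹ * e ^ i.1) ^ 2) by simp only [hx', map_mul, map_inv, sq]; group] at hz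
  obtain ⟨a, ha⟩ := cent_dl (mul_mem (mul_mem (inv_mem (g1 (b3 ⟨y, rfl⟩))) g2) (hT _ g2)) (rep_nr _) (hz _) fun k => ⟨_, orth_single k, by simp, hz _⟩
  have := e6_char h3 ha
  simp only [e, n6_inj, Pi.pow_apply, Pi.mul_apply, Pi.inv_apply, Fin.reduceEq, if_true, if_false] at this
  rw [pow_right_comm ω 2, pow_right_comm ω 2, ← inv_pow (ω ^ j.1), ← mul_pow (ω ^ j.1)⁻¹] at this
  have k : ω ^ j.1 = ω ^ i.1 := inv_mul_eq_one.1 (by
    generalize (ω ^ j.1)⁻¹ * ω ^ i.1 = u at this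
    have e : u * (u ^ 3) ^ 3 = 1 := by rw [← this]; simp only [one_pow, inv_one, mul_one]; group
    simpa [h3] using e)
  have : Fact (Nat.Prime 3) := ⟨by decide⟩
  have o := orderOf_eq_prime (h3 ω) fun h => hω (by simp [h])
  exact hij (Fin.ext (pow_injOn_Iio_orderOf (by rw [o]; exact i.2) (by rw [o]; exact j.2) k.symm))

end H12.Fi
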