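import Cfsg.Agent.H12.Perf
import Cfsg.Prelude.Def_ChevAutomorphisms

/-! Generation certificates: subgroups containing `N` and some root subgroups (`StSys.T_le_of_reach`), the centre of the Weyl group
(`center_W`), generation of the Weyl group by a Coxeter element and reflections (`DerT.closure`). -/

set_option autoImplicit false

namespace H12
open Cfsg.Lie H13 StSys

variable {D : ChevalleyDatum} [G : Good D] {F : Type*} [Field F] {Γ : Type*} [Group Γ]

def EdgeT (T : Tab) (m : ℤ) (i j : ℕ) : Prop := T.refl i (T.refl j (T.sim i)) = T.sim j ∨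
  ∃ s ∈ [T.refl j (T.sim i), T.refl i (T.refl j (T.sim i))], s ≠ T.sim i ∧ s ≠ T.ng (T.sim i) ∧
    ∃ n ∈ [m, -m], T.terms (T.sim i) s = [(T.refl i (T.sim j), n, 1, 1)]
instance decEdgeT (T : Tab) (m : ℤ) (i j : ℕ) : Decidable (EdgeT T m i j) := by unfold EdgeT; infer_instance
def reach (T : Tab) (m : ℤ) : ℕ → List ℕ → List ℕ
  | 0, J => J
  | k + 1, J => reach T m k ((List.range T.l).filter fun j => j ∈ J ∨ ∃ i ∈ J, EdgeT T m i j)

namespace StSys
variable {S : StSys D F Γ} {K : Subgroup Γ} (hN : S.N ≤ K)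
include hN
theorem x_mem_smul (w : W D) {r : Φ D} (h : ∀ t, S.x r t ∈ K) (t : F) : S.x (w • r) t ∈ K := by
  obtain ⟨n, hn⟩ := S.exists_rep w
  obtain ⟨c, hc⟩ := hn.act.conj_x r
  simpa [hc] using mul_mem (mul_mem (hN hn.mem_N) (h (↑c⁻¹ * t))) (inv_mem (hN hn.mem_N))

theorem x_mem_of_edge {m : ℤ} (hm : (m : F) ≠ 0) {i j : I D} (e : EdgeT (tab D) m i j) (h : ∀ t, S.x (sim i) t ∈ K) (t : F) : S.x (sim j) t ∈ K := by
  have h1 := x_mem_smul hN (sW j) h
  have h2 := x_mem_smul hN (sW i) h1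
  simp only [sW_smul] at h1 h2
  rcases e with e | ⟨s, hs, e1, e2, n, hn, e⟩
  · exact (Fin.ext e : sref i (sref j (sim i)) = sim j) ▸ h2 t
  obtain ⟨s, rfl, h3⟩ : ∃ s' : Φ D, s'.1 = s ∧ ∀ t, S.x s' t ∈ K := by
    rcases List.mem_pair.1 hs with rfl | rfl
    exacts [⟨_, rfl, h1⟩, ⟨_, rfl, h2⟩]
  have e : cterms (sim i) s = [(sref i (sim j), n, 1, 1)] := by
    rw [cterms, show D.commTerms (sim i) s = [((sref i (sim j) : ℕ), n, 1, 1)] from e, toΦ_cons, toΦ_nil]
  have hn : (n : F) ≠ 0 := by rcases List.mem_pair.1 hn with rfl | rfl <;> simpa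
  simpa using x_mem_smul hN (sW i) (fun t => x_mem_of_cword (a := sim i) (b := s) (r := sref i (sim j)) (v := t) (fun h => e1 (congrArg Fin.val h))
    (fun h => e2 (congrArg Fin.val h)) (t := -((n : F)⁻¹ * t)) (u := 1) (by rw [cword, e]; simp [hn])
    (mul_mem (mul_mem (mul_mem (inv_mem (h3 _)) (inv_mem (h _))) (h3 _)) (h _)) (by rw [e]; simp)) t

theorem T_le_of_reach {m : ℤ} (hm : (m : F) ≠ 0) {k : ℕ} {J : List ℕ} (hJ : ∀ i ∈ J, ∃ i' : I D, i'.1 = i ∧ ∀ t, S.x (sim i') t ∈ K)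
    (h : ∀ j < D.rank, j ∈ reach (tab D) m k J) : S.T ≤ K := by
  induction k generalizing J with
  | zero =>
    refine S.gen_le.2 fun r _ => ?_
    obtain ⟨w, i, rfl⟩ := exists_smul_sim r
    obtain ⟨i', e, h⟩ := hJ _ (h i i.2)
    exact x_mem_smul hN w (Fin.ext e ▸ h)
  | succ k ih =>
    refine ih (fun j hj => ?_) h
    simp only [List.mem_filter, List.mem_range, decide_eq_true_eq] at hj
    obtain ⟨h1, h2 | ⟨i, hi, e⟩⟩ := hj
    · exact hJ j h2
    · obtain ⟨i, rfl, hi'⟩ := hJ i hi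
      exact ⟨⟨j, h1⟩, rfl, x_mem_of_edge hN hm e hi'⟩
end StSys

theorem le_of_reach₁ {m : ℤ} (hm : (m : F) ≠ 0) {k : ℕ} (i : I D) (h : ∀ j < D.rank, j ∈ reach (tab D) m k [i]) :
    D.group F ≤ D.monomialSubgroup F ⊔ D.rootSubgroup F (D.simple i) := by
  rw [group_eq, monomialSubgroup_eq, ← sim_val, rootSubgroup_eq]
  refine StSys.T_le_of_reach le_sup_left hm (List.forall_mem_singleton.2 ⟨i, rfl, fun t => ?_⟩) h
  exact Subgroup.mem_sup_right ((adS D F).x_mem (Set.mem_singleton _) t)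
theorem le_of_reach₂ {k : ℕ} (i j : I D) (h : ∀ l < D.rank, l ∈ reach (tab D) 1 k [i, j]) :
    D.group F ≤ D.monomialSubgroup F ⊔ D.rootSubgroup F (D.simple i) ⊔ D.rootSubgroup F (D.simple j) := by
  rw [group_eq, monomialSubgroup_eq, ← sim_val, ← sim_val, rootSubgroup_eq, rootSubgroup_eq]
  refine StSys.T_le_of_reach (le_sup_left.trans le_sup_left) (by simp) (List.forall_mem_cons.2 ⟨⟨i, rfl, fun t => ?_⟩,
    List.forall_mem_singleton.2 ⟨j, rfl, fun t => ?_⟩⟩) h
  exacts [Subgroup.mem_sup_left (Subgroup.mem_sup_right ((adS D F).x_mem (Set.mem_singleton _) t)),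
    Subgroup.mem_sup_right ((adS D F).x_mem (Set.mem_singleton _) t)]

theorem reachG2 : ∀ i < chevG2.rank, chevG2.isLong (chevG2.simple i) = false → (∀ j < chevG2.rank, j ∈ reach (tab chevG2) 3 2 [i]) ∧
    ∀ j < chevG2.rank, chevG2.isLong (chevG2.simple j) = true → ∀ k < chevG2.rank, k ∈ reach (tab chevG2) 1 2 [i, j] := by
  rw [tabG2_eq]; decide +kernel
theorem reachB2 : ∀ i < chevB2.rank, chevB2.isLong (chevB2.simple i) = false → (∀ j < chevB2.rank, j ∈ reach (tab chevB2) 2 2 [i]) ∧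
    ∀ j < chevB2.rank, chevB2.isLong (chevB2.simple j) = true → ∀ k < chevB2.rank, k ∈ reach (tab chevB2) 1 2 [i, j] := by
  rw [tabB2_eq]; decide +kernel
theorem reachF4 : ∀ i < chevF4.rank, chevF4.isLong (chevF4.simple i) = false → (∀ j < chevF4.rank, j ∈ reach (tab chevF4) 2 4 [i]) ∧
    ∀ j < chevF4.rank, chevF4.isLong (chevF4.simple j) = true → ∀ k < chevF4.rank, k ∈ reach (tab chevF4) 1 4 [i, j] := by
  rw [tabF4_eq]; decide +kernel
theorem reachD4 : ∀ i < chevD4.rank, ∀ j < chevD4.rank, j ∈ reach (tab chevD4) 1 4 [i] := by rw [tabD4_eq]; decide +kernel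
theorem reachE6 : ∀ i < chevE6.rank, ∀ j < chevE6.rank, j ∈ reach (tab chevE6) 1 6 [i] := by rw [tabE6_eq]; decide +kernel
theorem reachE7 : ∀ i < chevE7.rank, ∀ j < chevE7.rank, j ∈ reach (tab chevE7) 1 7 [i] := by rw [tabE7_eq]; decide +kernel
theorem reachE8 : ∀ i < chevE8.rank, ∀ j < chevE8.rank, j ∈ reach (tab chevE8) 1 8 [i] := by rw [tabE8_eq]; decide +kernel

theorem eq_of_rW_eq {a b : Φ D} (h : rW a = rW b) : a = b ∨ a = ng b := by
  by_contra! c
  have e := congrArg (fun w : W D => pr a (w • a)) h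
  simp only [rW_smul, rf_self, pr_ng_right, pr_self, pr_rf_right] at e
  have := pr_mul_pr_lt_four c.1 c.2
  omega

theorem mem_center_W {z : W D} : z ∈ Subgroup.center (W D) ↔ z = 1 ∨ ∀ i : I D, z • sim i = ng (sim i) := by
  refine ⟨fun h => ?_, fun h => h.elim (· ▸ one_mem _) fun h => Subgroup.mem_center_iff.2 fun w => W_ext fun r => ?_⟩
  · have h1 : ∀ r : Φ D, z • r = r ∨ z • r = ng r := fun r => eq_of_rW_eq (by
      rw [← conj_rW, ← Subgroup.mem_center_iff.1 h, mul_inv_cancel_right])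
    by_contra! c
    obtain ⟨j, hj⟩ := exists_neg_of_ne_one c.1
    obtain ⟨i, hi, j, hj, e⟩ := exists_edge (J := {i | z • sim i = sim i}) (c.2.imp fun i h => (h1 _).resolve_right h)
      ⟨j, fun e => hj (e.symm ▸ isPos_sim j)⟩
    have := pr_smul z (sim i) (sim j)
    rw [show z • sim i = sim i from hi, (h1 _).resolve_left hj, pr_ng_right, pr_sim] at this
    omega
  · have : ∀ r : Φ D, z • r = ng r := root_induction h fun i r e => by rw [← rf_sim, smul_rf, h, e, rf_ng_left, rf_ng]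
    rw [mul_smul, mul_smul, this, this, smul_ng]

theorem center_W {z : W D} (h : ∀ i : I D, z • sim i = ng (sim i)) : Nat.card (Subgroup.center (W D)) = 2 ∧ Subgroup.center (W D) ≤ Subgroup.zpowers z := by
  have h1 : ∀ y, y ∈ Subgroup.center (W D) ↔ y = 1 ∨ y = z := fun y => mem_center_W.trans (or_congr_right ⟨fun e =>
    (inv_mul_eq_one.1 (eq_one_of_pos fun i => by rw [mul_smul, e, ← h, inv_smul_smul]; exact isPos_sim i)).symm, (· ▸ h)⟩)
  refine ⟨?_, fun y hy => ((h1 y).1 hy).elim (· ▸ one_mem _) (· ▸ Subgroup.mem_zpowers _)⟩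
  have i : I D := ⟨0, two_pos.trans_le two_le_rank⟩
  exact (Nat.card_congr (Equiv.setCongr (Set.ext h1 : _ = ({1, z} : Set (W D))))).trans
    (Set.ncard_pair fun e => ne_ng (sim i) (by rw [← h, ← e, one_smul]))

theorem wp_finRange : wp (List.finRange D.rank) = ((List.finRange D.rank).map sW).prod := rfl
theorem runW_range (r : Φ D) : runW (tab D) (List.range D.rank) r = ((((List.finRange D.rank).map sW).prod)⁻¹ • r : Φ D) := by
  rw [← wp_finRange, ← runW_eq, List.map_coe_finRange_eq_range]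

theorem cox_pow_neg {k : ℕ} (h : ∀ i < D.rank, (runW (tab D) (List.range D.rank))^[k] ((tab D).sim i) = (tab D).ng ((tab D).sim i)) (i : I D) :
    (((List.finRange D.rank).map sW).prod)⁻¹ ^ k • sim i = ng (sim i) := by
  have : ∀ r : Φ D, (runW (tab D) (List.range D.rank))^[k] r = ((((List.finRange D.rank).map sW).prod)⁻¹ ^ k • r : Φ D) := by
    clear h; induction k with
    | zero => simp
    | succ k ih => exact fun r => by rw [Function.iterate_succ_apply, runW_range, ih, pow_succ, mul_smul]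
  exact Fin.ext ((this _).symm.trans (h i i.2))

theorem center_cox (M : CoxeterMatrix (I D)) (hM : ∀ i j, M i j = (tab D).cm i j) {k : ℕ}
    (h : ∀ i < D.rank, (runW (tab D) (List.range D.rank))^[k] ((tab D).sim i) = (tab D).ng ((tab D).sim i)) :
    Nat.card (Subgroup.center M.Group) = 2 ∧ Subgroup.center M.Group ≤ Subgroup.zpowers ((List.finRange D.rank).map M.simple).prod := by
  obtain ⟨e, he⟩ := exists_equiv_cox M hM
  obtain ⟨h1, h2⟩ := center_W (cox_pow_neg h)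
  refine ⟨h1 ▸ (Nat.card_congr (Subgroup.centerCongr e).toEquiv).symm, fun y hy => ?_⟩
  obtain ⟨n, hn⟩ := h2 ((Subgroup.centerCongr e).symm ⟨y, hy⟩).2
  refine ⟨-(k * n), ?_⟩
  have := congrArg e hn
  rw [map_zpow, map_pow, map_inv, map_list_prod, List.map_map, show e ∘ sW = M.simple from funext he] at this
  exact .trans (by simp [zpow_mul]) (this.trans (e.apply_symm_apply y))

theorem center_cox_bot (M : CoxeterMatrix (I D)) (hM : ∀ i j, M i j = (tab D).cm i j) (h : Subgroup.center (W D) = ⊥) (K : Subgroup M.Group) :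
    Nat.card (Subgroup.center M.Group) = 1 ∧ Subgroup.center M.Group ≤ K := by
  obtain ⟨e, -⟩ := exists_equiv_cox M hM
  have h := (Nat.card_congr (Subgroup.centerCongr e).toEquiv).symm.trans (Subgroup.card_eq_one.2 h)
  exact ⟨h, (Subgroup.card_eq_one.1 h).trans_le bot_le⟩

def DerT (T : Tab) : List ℕ → List (ℕ × ℕ × ℕ) → Prop
  | L, [] => ∀ i < T.l, T.sim i ∈ L ∨ T.ng (T.sim i) ∈ L
  | L, c :: cs => (c.2.1 ∈ L ∧ c.2.2 < T.n ∧ (c.2.2 = runW T (List.range T.l) c.2.1 ∨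
      c.1 ∈ L ∧ ∀ i < T.l, T.ca i c.2.2 = T.ca i c.2.1 - T.pr c.1 c.2.1 * T.ca i c.1)) ∧ DerT T (c.2.2 :: L) cs
noncomputable instance decDerT (T : Tab) : ∀ L cs, Decidable (DerT T L cs)
  | _, [] => by unfold DerT; infer_instance
  | _, _ :: cs => @instDecidableAnd _ _ inferInstance (decDerT T _ cs)

theorem eq_top_of_sW {K : Subgroup (W D)} (h : ∀ i, sW i ∈ K) : K = ⊤ :=
  (Subgroup.eq_top_iff' K).2 (W_induction (one_mem K) fun i _ hw => mul_mem (h i) hw)

theorem DerT.eq_top {K : Subgroup (W D)} (hc : ((List.finRange D.rank).map sW).prod ∈ K) {L : List ℕ} {cs : List (ℕ × ℕ × ℕ)}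
    (h : DerT (tab D) L cs) (hL : ∀ r ∈ L, ∃ r' : Φ D, r'.1 = r ∧ rW r' ∈ K) : K = ⊤ := by
  induction cs generalizing L with
  | nil =>
    refine eq_top_of_sW fun i => (h i i.2).elim (fun h => ?_) fun h => ?_ <;> obtain ⟨r, e, h⟩ := hL _ h
    · rwa [show r = sim i from Fin.ext e] at h
    · rwa [show r = ng (sim i) from Fin.ext e, rW_ng] at h
  | cons c cs ih =>
    obtain ⟨a, b, c⟩ := c
    obtain ⟨⟨h1, h2, h3⟩, h4⟩ := h
    refine ih h4 (List.forall_mem_cons.2 ⟨⟨⟨c, h2⟩, rfl, ?_⟩, hL⟩)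
    obtain ⟨b, rfl, hb⟩ := hL _ h1
    have k : ∀ w ∈ K, w • b = ⟨c, h2⟩ → rW ⟨c, h2⟩ ∈ K := fun w hw e => by
      rw [← e, ← conj_rW]; exact mul_mem (mul_mem hw hb) (inv_mem hw)
    rcases h3 with h3 | ⟨h3, h5⟩
    · exact k _ (inv_mem hc) (Fin.ext ((runW_range b).symm.trans h3.symm))
    · obtain ⟨a, rfl, ha⟩ := hL _ h3
      exact k _ ha (wt_injective (funext fun i => by rw [rW_smul, wt_rf, ← pr_tab]; exact (h5 i i.2).symm))

theorem closure_cox (M : CoxeterMatrix (I D)) (hM : ∀ i j, M i j = (tab D).cm i j) (L : List (Φ D)) (hL : L.Pairwise fun a b => a ≠ b ∧ a ≠ ng b)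
    (h : ∀ K : Subgroup (W D), ((List.finRange D.rank).map sW).prod ∈ K → (∀ r ∈ L, rW r ∈ K) → K = ⊤) :
    ∃ T : Finset M.Group, T.card = L.length ∧ (∀ t ∈ T, ∃ (g : M.Group) (i : Fin D.rank), t = g * M.simple i * g⁻¹) ∧
      Subgroup.closure (({((List.finRange D.rank).map M.simple).prod} : Set M.Group) ∪ ↑T) = ⊤ := by
  classical
  obtain ⟨e, he⟩ := exists_equiv_cox M hM
  refine ⟨(L.map fun r => e (rW r)).toFinset, (List.toFinset_card_of_nodup ?_).trans (by simp), fun t ht => ?_, ?_⟩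
  · exact List.pairwise_map.2 (hL.imp fun h e' => (eq_of_rW_eq (e.injective e')).elim h.1 h.2)
  · obtain ⟨r, -, rfl⟩ := List.mem_map.1 (List.mem_toFinset.1 ht)
    obtain ⟨w, i, rfl⟩ := exists_smul_sim r
    exact ⟨e w, i, by rw [← conj_rW, map_mul, map_mul, map_inv, ← he]; rfl⟩
  · refine (Subgroup.eq_top_iff' _).2 fun x => ?_
    obtain ⟨x, rfl⟩ := e.surjective x
    refine Subgroup.mem_comap.1 ((Subgroup.eq_top_iff' _).1 (h (Subgroup.comap e.toMonoidHom _) ?_ fun r hr => ?_) x) <;>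
      refine Subgroup.mem_comap.2 (Subgroup.subset_closure ?_)
    · left; rw [map_list_prod, List.map_map]; exact congrArg List.prod (List.map_congr_left fun i _ => he i)
    · right; simpa using ⟨r, hr, rfl⟩

theorem DerT.closure (M : CoxeterMatrix (I D)) (hM : ∀ i j, M i j = (tab D).cm i j) (L : List (Φ D)) (hL : L.Pairwise fun a b => a ≠ b ∧ a ≠ ng b)
    {cs : List (ℕ × ℕ × ℕ)} (h : DerT (tab D) (L.map Fin.val) cs) :
    ∃ T : Finset M.Group, T.card = L.length ∧ (∀ t ∈ T, ∃ (g : M.Group) (i : Fin D.rank), t = g * M.simple i * g⁻¹) ∧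
      Subgroup.closure (({((List.finRange D.rank).map M.simple).prod} : Set M.Group) ∪ ↑T) = ⊤ :=
  closure_cox M hM L hL fun _ h1 h2 => h.eq_top h1 fun _ hr => by obtain ⟨r, hr', rfl⟩ := List.mem_map.1 hr; exact ⟨r, rfl, h2 r hr'⟩

end H12
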