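import Cfsg.Agent.H12.InvB
/-! Involution classes of E6 in characteristic two: `invE6`, `ncjE6`. -/

set_option autoImplicit false
set_option Elab.async false

namespace H12
open Cfsg.Lie

def clsE6 : List (List ℕ × List ℕ × List ℤ × ℤ) := [([71], [], [1, 2, 2, 3, 2, 1], 2), ([68, 66], [69, 70, 71], [2, 2, 3, 4, 3, 2], 2), ([55, 65, 67],
    [66, 68, 69, 70, 71], [2, 3, 4, 6, 4, 2], 3)]
def stdE6 : List (List ℕ × List (List ℕ × List ℕ × List ℕ) × List ℕ) := [([39, 44, 60, 71], [([1, 3], [39, 44, 60], [46, 47, 51, 63, 71]), ([3], [51,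
    39], [46, 53, 65]), ([2, 0, 4, 3, 2, 5, 4, 3, 0, 2, 0], [], [55, 65, 67])], [55, 65, 67]), ([55, 65, 67], [], [55, 65, 67]), ([68, 66], [], [68,
    66]), ([71], [], [71]), ([], [], [])]
def enE6 : List (ℕ × ℕ × List ℕ) := [(2, 0, []), (1, 5, [5]), (1, 4, [4]), (1, 4, [4, 5, 4]), (2, 1, [1, 3, 0, 2, 0]), (1, 5, [5, 3]), (1, 3, [3, 4,
    3]), (1, 3, [3, 4, 5, 3, 4, 3]), (1, 2, [2]), (1, 2, [5, 2]), (1, 2, [4, 2]), (1, 2, [4, 5, 4, 2]), (1, 2, [2, 3, 2]), (1, 2, [5, 2, 3, 2]), (2,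
    2, [1, 3, 2]), (1, 2, [2, 3, 4, 5, 2, 3, 4, 2, 3, 2]), (2, 1, [0, 2, 0]), (1, 5, [5, 1]), (1, 4, [4, 1]), (1, 4, [4, 5, 4, 1]), (1, 1, [1, 3, 1]),
    (1, 1, [5, 1, 3, 1]), (1, 1, [1, 3, 4, 1, 3, 1]), (1, 1, [1, 3, 4, 5, 1, 3, 4, 1, 3, 1]), (1, 2, [2, 1]), (1, 2, [5, 2, 1]), (1, 2, [4, 2, 1]),
    (1, 2, [4, 5, 4, 2, 1]), (1, 1, [3, 2, 1, 3, 2, 1]), (1, 1, [5, 3, 2, 1, 3, 2, 1]), (1, 2, [4, 3, 2, 1, 3, 4, 3, 2, 1, 3, 2, 1]), (1, 1, [5, 4, 3,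
    2, 1, 3, 4, 5, 4, 3, 2, 1, 3, 4, 3, 2, 1, 3, 2, 1]), (1, 0, [0]), (1, 0, [5, 0]), (1, 0, [4, 0]), (1, 0, [4, 5, 4, 0]), (1, 0, [3, 0]), (1, 0, [5,
    3, 0]), (1, 0, [3, 4, 3, 0]), (1, 0, [3, 4, 5, 3, 4, 3, 0]), (1, 0, [0, 2, 0]), (1, 0, [5, 0, 2, 0]), (1, 0, [4, 0, 2, 0]), (1, 0, [4, 5, 4, 0, 2,
    0]), (1, 0, [0, 2, 3, 0, 2, 0]), (1, 0, [5, 0, 2, 3, 0, 2, 0]), (1, 0, [0, 2, 3, 4, 0, 2, 3, 0, 2, 0]), (2, 3, []), (1, 0, [1, 0]), (1, 0, [5, 1,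
    0]), (1, 0, [4, 1, 0]), (1, 0, [4, 5, 4, 1, 0]), (1, 0, [1, 3, 1, 0]), (1, 0, [5, 1, 3, 1, 0]), (1, 0, [1, 3, 4, 1, 3, 1, 0]), (1, 0, [1, 3, 4, 5,
    1, 3, 4, 1, 3, 1, 0]), (1, 0, [0, 2, 1, 0]), (1, 0, [5, 0, 2, 1, 0]), (1, 0, [4, 0, 2, 1, 0]), (1, 0, [4, 5, 4, 0, 2, 1, 0]), (1, 0, [2, 3, 0, 2,
    1, 3, 0, 2, 1, 0]), (1, 0, [5, 2, 3, 0, 2, 1, 3, 0, 2, 1, 0]), (1, 0, [1, 3, 4, 2, 3, 0, 2, 1, 3, 4, 2, 3, 0, 2, 1, 3, 0, 2, 1, 0]), (2, 4, [])]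
theorem ncjE6 : NcjT (tab chevE6) auxE6.len [] clsE6 := by rw [tabE6_eq]; decide +kernel
theorem stdE6_ok : StdT (tab chevE6) id ([] :: [[71], [68, 66], [55, 65, 67]]) stdE6 := by rw [tabE6_eq]; decide +kernel
theorem allE6 : AllT (tab chevE6) id (fun i => [i]) [0, 2, 3, 4, 5, 1, 3, 4, 2, 3, 0, 2, 1, 3, 4, 5, 1, 3, 4, 2, 3, 0, 2, 1, 3, 4, 2, 3, 0, 2, 1, 3,
    0, 2, 1, 0] (fun k r => (stdE6.getD k default).1.foldr (tab chevE6).rfC r) stdE6.length enE6 := by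
  rw [tabE6_eq]; decide +kernel
theorem invE6 {F : Type*} [Field F] [Finite F] [CharP F 2] : ∀ g ∈ (adS chevE6 F).T, orderOf g = 2 →
    ∃ O ∈ clsE6.map Prod.fst, Cj (adS chevE6 F).T g (xs chevE6 F O) := ch2_refl.classes orb_refl stdE6_ok allE6

end H12
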