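import Cfsg.Agent.H12.InvB
/-! Involution classes of E7 in characteristic two: `invE7`, `ncjE7`. -/

set_option autoImplicit false
set_option Elab.async false

namespace H12
open Cfsg.Lie

def clsE7 : List (List ℕ × List ℕ × List ℤ × ℤ) := [([125], [], [2, 2, 3, 4, 3, 2, 1], 2), ([118, 121], [122, 123, 124, 125], [2, 3, 4, 6, 5, 4, 2],
    2), ([92, 107, 111], [108, 113, 114, 116, 117, 118, 120, 121, 122, 123, 124, 125], [2, 3, 4, 6, 5, 4, 3], 2), ([114, 116, 119], [117, 118, 120,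
    121, 122, 123, 124, 125], [3, 4, 6, 8, 6, 4, 2], 3), ([92, 107, 111, 119], [108, 113, 114, 116, 117, 118, 120, 121, 122, 123, 124, 125], [3, 5, 6,
    9, 7, 5, 3], 3)]
def stdE7 : List (List ℕ × List (List ℕ × List ℕ × List ℕ) × List ℕ) := [([63, 66, 73, 78, 87, 92, 125], [([0, 3, 1, 2, 5, 4, 3, 1, 6, 5, 4], [66, 77,
    97], [79, 80, 85, 89, 102, 104, 109, 123]), ([4], [89, 66], [79, 85, 91, 102, 106, 109]), ([3, 2, 0, 5, 4, 6, 5, 4, 3, 2], [96, 67, 72], [83, 85,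
    89, 102, 104, 109, 124]), ([0, 4, 3, 2], [104, 73], [89, 90, 103, 110, 113]), ([0, 5, 6, 5, 4, 3, 1], [81, 65, 83], [91, 96, 98, 106, 109, 125]),
    ([5, 4, 3, 1], [98, 78], [92, 97, 102, 119]), ([3, 2, 4, 3, 1, 6, 3, 2], [], [92, 107, 111, 119])], [92, 107, 111, 119]), ([66, 73, 78, 87, 92,
    125], [([0, 3, 2, 4, 3, 5, 4, 3, 1, 6, 5, 4, 3, 2], [65, 94, 67], [87, 89, 90, 104, 107, 109, 124]), ([6, 5], [91, 64], [87, 92, 105, 106, 110]),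
    ([2, 0, 4, 3, 1, 6], [81, 65, 83], [91, 96, 98, 106, 109, 125]), ([5, 4, 3, 1], [98, 78], [92, 97, 102, 119]), ([3, 2, 4, 3, 1, 6, 3, 2], [], [92,
    107, 111, 119])], [92, 107, 111, 119]), ([73, 78, 87, 92, 125], [([0, 2, 3, 4, 5, 6], [77, 83, 90], [82, 93, 98, 99, 106, 125]), ([2, 3, 4, 5, 6],
    [101, 63], [92, 97, 102, 116]), ([1, 3, 2, 4, 3, 1, 3, 2], [], [92, 107, 111, 119])], [92, 107, 111, 119]), ([92, 107, 111, 119], [], [92, 107,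
    111, 119]), ([73, 87, 92, 125], [([0, 2], [73, 87, 92], [93, 94, 103, 108, 125]), ([2], [103, 73], [93, 109, 114]), ([3, 1, 4, 3, 2, 5, 4, 3, 1,
    6, 5, 4, 3, 2, 3, 1, 5, 4, 3, 1], [], [114, 116, 119])], [114, 116, 119]), ([114, 116, 119], [], [114, 116, 119]), ([92, 107, 111], [], [92, 107,
    111]), ([118, 121], [], [118, 121]), ([125], [], [125]), ([], [], [])]
def enE7 : List (ℕ × ℕ × List ℕ) := [(2, 0, []), (2, 1, []), (2, 1, [6, 5]), (1, 5, [5, 6, 5]), (2, 1, [5, 6, 4, 5]), (2, 2, []), (1, 4, [4, 5, 4]),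
    (1, 4, [4, 5, 6, 4, 5, 4]), (2, 1, [4, 5, 6, 3, 4, 5]), (2, 2, [4, 3]), (2, 2, [6, 5, 4, 3]), (1, 5, [5, 6, 5, 3]), (1, 3, [3, 4, 3]), (1, 3, [6,
    3, 4, 3]), (1, 3, [3, 4, 5, 3, 4, 3]), (1, 3, [3, 4, 5, 6, 3, 4, 5, 3, 4, 3]), (2, 1, [3, 4, 5, 6, 2, 3, 4, 5]), (2, 2, [3, 4, 2, 3]), (2, 2, [6,
    5, 3, 4, 2, 3]), (1, 5, [5, 6, 5, 2]), (2, 2, [5, 6, 4, 5, 3, 4, 2, 3]), (2, 3, [0, 2, 3, 4, 5, 6, 4, 2, 3, 0, 2, 0]), (1, 4, [4, 5, 4, 2]), (1,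
    4, [4, 5, 6, 4, 5, 4, 2]), (1, 2, [2, 3, 2]), (1, 2, [6, 2, 3, 2]), (1, 2, [5, 2, 3, 2]), (1, 2, [5, 6, 5, 2, 3, 2]), (1, 2, [2, 3, 4, 2, 3, 2]),
    (1, 2, [6, 2, 3, 4, 2, 3, 2]), (1, 2, [2, 3, 4, 5, 2, 3, 4, 2, 3, 2]), (1, 2, [2, 3, 4, 5, 6, 2, 3, 4, 5, 2, 3, 4, 2, 3, 2]), (2, 1, [3, 4, 5, 6,
    1, 3, 4, 5]), (2, 2, [3, 4, 1, 3]), (2, 2, [6, 5, 3, 4, 1, 3]), (1, 5, [5, 6, 5, 1]), (2, 2, [5, 6, 4, 5, 3, 4, 1, 3]), (2, 4, []), (1, 4, [4, 5,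
    4, 1]), (1, 4, [4, 5, 6, 4, 5, 4, 1]), (1, 1, [1, 3, 1]), (1, 1, [6, 1, 3, 1]), (1, 1, [5, 1, 3, 1]), (1, 1, [5, 6, 5, 1, 3, 1]), (1, 1, [1, 3, 4,
    1, 3, 1]), (1, 1, [6, 1, 3, 4, 1, 3, 1]), (1, 1, [1, 3, 4, 5, 1, 3, 4, 1, 3, 1]), (1, 1, [1, 3, 4, 5, 6, 1, 3, 4, 5, 1, 3, 4, 1, 3, 1]), (2, 2,
    [0, 2, 3, 4, 5, 6, 1, 3, 4, 5, 2, 3, 4, 0, 2, 3]), (2, 3, [5, 6, 0, 2, 3, 4, 2, 1, 3, 0, 2, 0]), (2, 3, [0, 2, 3, 4, 2, 1, 3, 0, 2, 0]), (1, 5,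
    [5, 6, 5, 2, 1]), (2, 3, [5, 0, 2, 3, 4, 3, 2, 1, 3, 0, 2, 0]), (2, 5, [5, 0, 2, 3, 4, 1, 3, 1]), (1, 4, [4, 5, 4, 2, 1]), (1, 4, [4, 5, 6, 4, 5,
    4, 2, 1]), (1, 1, [3, 2, 1, 3, 2, 1]), (1, 1, [6, 3, 2, 1, 3, 2, 1]), (1, 1, [5, 3, 2, 1, 3, 2, 1]), (1, 1, [5, 6, 5, 3, 2, 1, 3, 2, 1]), (2, 6,
    [5, 0, 2, 3, 4, 3, 2, 1, 3, 0, 2, 0]), (2, 7, [0, 2, 3, 1]), (1, 1, [5, 4, 3, 2, 1, 3, 4, 5, 4, 3, 2, 1, 3, 4, 3, 2, 1, 3, 2, 1]), (2, 8, []), (2,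
    1, [2, 3, 4, 5, 6, 0, 2, 3, 4, 5]), (2, 2, [2, 3, 4, 0, 2, 3]), (2, 2, [6, 5, 2, 3, 4, 0, 2, 3]), (1, 5, [5, 6, 5, 0]), (2, 2, [5, 6, 4, 5, 2, 3,
    4, 0, 2, 3]), (2, 3, [3, 4, 5, 6, 4, 2, 3, 0, 2, 0]), (1, 4, [4, 5, 4, 0]), (1, 4, [4, 5, 6, 4, 5, 4, 0]), (2, 2, [4, 5, 6, 3, 4, 5, 2, 3, 4, 0,
    2, 3]), (2, 3, [5, 6, 4, 2, 3, 0, 2, 0]), (2, 3, [4, 2, 3, 0, 2, 0]), (1, 5, [5, 6, 5, 3, 0]), (1, 3, [3, 4, 3, 0]), (1, 3, [6, 3, 4, 3, 0]), (1,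
    3, [3, 4, 5, 3, 4, 3, 0]), (1, 3, [3, 4, 5, 6, 3, 4, 5, 3, 4, 3, 0]), (1, 0, [0, 2, 0]), (1, 0, [6, 0, 2, 0]), (1, 0, [5, 0, 2, 0]), (1, 0, [5, 6,
    5, 0, 2, 0]), (1, 0, [4, 0, 2, 0]), (1, 0, [6, 4, 0, 2, 0]), (1, 0, [4, 5, 4, 0, 2, 0]), (1, 0, [4, 5, 6, 4, 5, 4, 0, 2, 0]), (1, 0, [0, 2, 3, 0,
    2, 0]), (1, 0, [6, 0, 2, 3, 0, 2, 0]), (1, 0, [5, 0, 2, 3, 0, 2, 0]), (1, 0, [5, 6, 5, 0, 2, 3, 0, 2, 0]), (1, 0, [0, 2, 3, 4, 0, 2, 3, 0, 2, 0]),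
    (1, 0, [6, 0, 2, 3, 4, 0, 2, 3, 0, 2, 0]), (1, 0, [0, 2, 3, 4, 5, 0, 2, 3, 4, 0, 2, 3, 0, 2, 0]), (1, 0, [0, 2, 3, 4, 5, 6, 0, 2, 3, 4, 5, 0, 2,
    3, 4, 0, 2, 3, 0, 2, 0]), (2, 2, [3, 4, 5, 6, 1, 3, 4, 5, 2, 3, 4, 0, 2, 3]), (2, 3, [5, 6, 3, 4, 2, 1, 3, 0, 2, 0]), (2, 3, [3, 4, 2, 1, 3, 0, 2,
    0]), (1, 5, [5, 6, 5, 1, 0]), (2, 3, [5, 3, 4, 3, 2, 1, 3, 0, 2, 0]), (2, 5, [5, 3, 4, 1, 3, 1]), (1, 4, [4, 5, 4, 1, 0]), (1, 4, [4, 5, 6, 4, 5,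
    4, 1, 0]), (1, 1, [1, 3, 1, 0]), (1, 1, [6, 1, 3, 1, 0]), (1, 1, [5, 1, 3, 1, 0]), (1, 1, [5, 6, 5, 1, 3, 1, 0]), (1, 1, [1, 3, 4, 1, 3, 1, 0]),
    (1, 1, [6, 1, 3, 4, 1, 3, 1, 0]), (1, 1, [1, 3, 4, 5, 1, 3, 4, 1, 3, 1, 0]), (1, 1, [1, 3, 4, 5, 6, 1, 3, 4, 5, 1, 3, 4, 1, 3, 1, 0]), (1, 0, [0,
    2, 1, 0]), (1, 0, [6, 0, 2, 1, 0]), (1, 0, [5, 0, 2, 1, 0]), (1, 0, [5, 6, 5, 0, 2, 1, 0]), (1, 0, [4, 0, 2, 1, 0]), (1, 0, [6, 4, 0, 2, 1, 0]),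
    (1, 0, [4, 5, 4, 0, 2, 1, 0]), (1, 0, [4, 5, 6, 4, 5, 4, 0, 2, 1, 0]), (1, 0, [2, 3, 0, 2, 1, 3, 0, 2, 1, 0]), (1, 0, [6, 2, 3, 0, 2, 1, 3, 0, 2,
    1, 0]), (1, 0, [5, 2, 3, 0, 2, 1, 3, 0, 2, 1, 0]), (1, 0, [5, 6, 5, 2, 3, 0, 2, 1, 3, 0, 2, 1, 0]), (1, 1, [1, 3, 4, 2, 3, 0, 2, 1, 3, 4, 2, 3, 0,
    2, 1, 3, 0, 2, 1, 0]), (1, 1, [6, 1, 3, 4, 2, 3, 0, 2, 1, 3, 4, 2, 3, 0, 2, 1, 3, 0, 2, 1, 0]), (1, 0, [0, 2, 3, 4, 5, 1, 3, 4, 2, 3, 0, 2, 1, 3,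
    4, 5, 1, 3, 4, 2, 3, 0, 2, 1, 3, 4, 2, 3, 0, 2, 1, 3, 0, 2, 1, 0]), (2, 9, [])]
theorem ncjE7 : NcjT (tab chevE7) auxE7.len [73] clsE7 := by rw [tabE7_eq]; decide +kernel
theorem stdE7_ok : StdT (tab chevE7) id ([] :: [[125], [118, 121], [92, 107, 111], [114, 116, 119], [92, 107, 111, 119]]) stdE7 := by rw [tabE7_eq]; decide +kernel
theorem allE7 : AllT (tab chevE7) id (fun i => [i]) [6, 5, 4, 3, 2, 1, 3, 4, 5, 6, 0, 2, 3, 4, 5, 1, 3, 4, 2, 3, 0, 2, 1, 3, 4, 5, 6, 0, 2, 3, 4, 5,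
    1, 3, 4, 2, 3, 0, 2, 1, 3, 4, 5, 1, 3, 4, 2, 3, 0, 2, 1, 3, 4, 2, 3, 0, 2, 1, 3, 0, 2, 1, 0] (fun k r => (stdE7.getD k default).1.foldr (tab
    chevE7).rfC r) stdE7.length enE7 := by
  rw [tabE7_eq]; decide +kernel
theorem invE7 {F : Type*} [Field F] [Finite F] [CharP F 2] : ∀ g ∈ (adS chevE7 F).T, orderOf g = 2 →
    ∃ O ∈ clsE7.map Prod.fst, Cj (adS chevE7 F).T g (xs chevE7 F O) := ch2_refl.classes orb_refl stdE7_ok allE7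

end H12
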