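import Cfsg.Agent.H12.InvB
/-! Involution classes of E8 in characteristic two: `invE8`, `ncjE8`. -/

set_option autoImplicit false
set_option Elab.async false

namespace H12
open Cfsg.Lie

def clsE8 : List (List ℕ × List ℕ × List ℤ × ℤ) := [([239], [], [2, 3, 4, 6, 5, 4, 3, 2], 2), ([232, 233], [234, 235, 236, 237, 238, 239], [4, 5, 7,
    10, 8, 6, 4, 2], 2), ([228, 222, 218], [223, 224, 225, 229, 230, 231, 232, 233, 234, 235, 236, 237, 238, 239], [4, 6, 8, 12, 10, 8, 6, 3], 3),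
    ([226, 220, 213, 216], [217, 218, 221, 222, 223, 224, 225, 227, 228, 229, 230, 231, 232, 233, 234, 235, 236, 237, 238, 239], [5, 8, 10, 15, 12, 9,
    6, 3], 3)]
def stdE8 : List (List ℕ × List (List ℕ × List ℕ × List ℕ) × List ℕ) := [([120, 123, 130, 147, 156, 161, 232, 233], [([0, 1, 2, 4, 3, 1, 2, 0, 6, 5,
    4, 3, 2, 0, 7, 6, 5, 4, 3, 1], [142, 158, 159], [163, 169, 179, 182, 190, 191, 194, 199, 234]), ([3, 1], [196, 141], [164, 179, 182, 188, 193,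
    206, 207]), ([3, 2, 4, 3, 1, 5, 4, 3, 6, 5, 4, 7, 6, 5, 4, 3, 1, 2, 3, 4], [144, 154, 151], [165, 178, 183, 190, 191, 195, 198, 236]), ([1, 3, 5,
    4], [198, 126], [175, 183, 195, 201, 206, 210]), ([1, 2, 3, 1, 5, 4, 3, 2, 0, 6, 5, 7, 6], [165, 171, 129], [154, 161, 195, 198, 206, 207, 238]),
    ([4, 3, 2, 0], [161, 162], [157, 183, 201, 206, 226]), ([2, 3, 1, 5, 4, 3, 2, 6, 5, 4, 3, 1, 7], [145, 174, 171], [140, 161, 192, 196, 219, 239]),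
    ([6, 5, 4, 3, 1], [199, 141], [140, 209, 211, 219]), ([0, 3, 2, 4, 3, 1, 5, 4, 3, 2, 6, 5, 4, 3, 1, 5, 4, 3, 2], [], [226, 220, 213, 216])], [226,
    220, 213, 216]), ([123, 130, 147, 156, 161, 232, 233], [([0, 2, 4, 3, 1, 5, 4, 3, 6, 5, 4, 3, 2, 0, 7, 6, 5, 4, 3, 1, 2, 3, 4], [129, 132, 145],
    [184, 190, 191, 194, 199, 205, 208, 236]), ([7, 6, 5, 4], [197, 126], [185, 193, 196, 200, 205, 211]), ([1, 3, 1, 5, 4, 3, 2, 0, 6, 5, 7, 6],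
    [166, 170, 129], [154, 161, 196, 197, 205, 208, 238]), ([5, 4, 3, 2, 0], [161, 162], [157, 183, 201, 206, 226]), ([2, 3, 1, 5, 4, 3, 2, 6, 5, 4,
    3, 1, 7], [145, 174, 171], [140, 161, 192, 196, 219, 239]), ([6, 5, 4, 3, 1], [199, 141], [140, 209, 211, 219]), ([0, 3, 2, 4, 3, 1, 5, 4, 3, 2,
    6, 5, 4, 3, 1, 5, 4, 3, 2], [], [226, 220, 213, 216])], [226, 220, 213, 216]), ([130, 147, 156, 161, 232, 233], [([0, 2, 4, 3, 5, 4, 6, 5, 7, 6],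
    [162, 145, 204], [140, 161, 168, 186, 200, 220, 239]), ([0], [161, 162], [140, 183, 186, 200, 227]), ([1, 3, 2, 4, 3, 1, 5, 4, 3, 2, 6, 7, 6, 5,
    4, 3, 1], [145, 169, 178], [140, 161, 187, 201, 219, 239]), ([6, 5, 4, 3, 1], [196, 141], [140, 206, 213, 219]), ([0, 3, 2, 4, 3, 1, 5, 4, 3, 2,
    6, 5, 4, 3, 1, 3, 2, 5, 4, 3, 2], [], [226, 220, 213, 216])], [226, 220, 213, 216]), ([147, 156, 161, 232, 233], [([0, 2, 3, 1, 4, 5, 6, 7], [141,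
    152, 159], [168, 173, 196, 203, 226, 239]), ([1], [196, 141], [168, 206, 213, 226]), ([3, 2, 4, 3, 1, 5, 4, 3, 2, 6, 5, 4, 3, 1, 3, 2, 5, 4, 3,
    2], [], [226, 220, 213, 216])], [226, 220, 213, 216]), ([226, 220, 213, 216], [], [226, 220, 213, 216]), ([120, 161, 228, 237], [([], [121, 159,
    226], [120, 122, 160, 227, 239]), ([6], [160, 121], [120, 161, 228]), ([5, 4, 3, 1, 2, 0, 3, 2, 4, 3, 1, 5, 4, 3, 2, 0, 6, 5, 4, 3, 1, 2, 3, 4, 5,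
    6, 0, 2, 3, 1, 5, 4, 3, 1, 2, 0, 3, 2], [], [228, 222, 218])], [228, 222, 218]), ([228, 222, 218], [], [228, 222, 218]), ([232, 233], [], [232,
    233]), ([239], [], [239]), ([], [], [])]
def enE8 : List (ℕ × ℕ × List ℕ) := [(2, 0, []), (2, 1, []), (2, 1, [7, 6]), (1, 6, [6, 7, 6]), (2, 1, [6, 7, 5, 6]), (2, 2, []), (1, 5, [5, 6, 5]),
    (1, 5, [5, 6, 7, 5, 6, 5]), (2, 1, [5, 6, 7, 4, 5, 6]), (2, 2, [5, 4]), (2, 2, [7, 6, 5, 4]), (1, 6, [6, 7, 6, 4]), (1, 4, [4, 5, 4]), (1, 4, [7,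
    4, 5, 4]), (1, 4, [4, 5, 6, 4, 5, 4]), (1, 4, [4, 5, 6, 7, 4, 5, 6, 4, 5, 4]), (2, 1, [4, 5, 6, 7, 3, 4, 5, 6]), (2, 2, [4, 5, 3, 4]), (2, 2, [7,
    6, 4, 5, 3, 4]), (1, 6, [6, 7, 6, 3]), (2, 2, [6, 7, 5, 6, 4, 5, 3, 4]), (2, 3, []), (1, 5, [5, 6, 5, 3]), (1, 5, [5, 6, 7, 5, 6, 5, 3]), (1, 3,
    [3, 4, 3]), (1, 3, [7, 3, 4, 3]), (1, 3, [6, 3, 4, 3]), (1, 3, [6, 7, 6, 3, 4, 3]), (1, 3, [3, 4, 5, 3, 4, 3]), (1, 3, [7, 3, 4, 5, 3, 4, 3]), (1,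
    3, [3, 4, 5, 6, 3, 4, 5, 3, 4, 3]), (1, 3, [3, 4, 5, 6, 7, 3, 4, 5, 6, 3, 4, 5, 3, 4, 3]), (2, 1, [3, 4, 5, 6, 7, 2, 3, 4, 5, 6]), (2, 2, [3, 4,
    5, 2, 3, 4]), (2, 2, [7, 6, 3, 4, 5, 2, 3, 4]), (1, 6, [6, 7, 6, 2]), (2, 2, [6, 7, 5, 6, 3, 4, 5, 2, 3, 4]), (2, 3, [3, 2]), (1, 5, [5, 6, 5,
    2]), (1, 5, [5, 6, 7, 5, 6, 5, 2]), (2, 2, [5, 6, 7, 4, 5, 6, 3, 4, 5, 2, 3, 4]), (2, 3, [5, 4, 3, 2]), (2, 3, [7, 6, 5, 4, 3, 2]), (1, 6, [6, 7,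
    6, 4, 2]), (1, 4, [4, 5, 4, 2]), (1, 4, [7, 4, 5, 4, 2]), (1, 4, [4, 5, 6, 4, 5, 4, 2]), (1, 4, [4, 5, 6, 7, 4, 5, 6, 4, 5, 4, 2]), (1, 2, [2, 3,
    2]), (1, 2, [7, 2, 3, 2]), (1, 2, [6, 2, 3, 2]), (1, 2, [6, 7, 6, 2, 3, 2]), (1, 2, [5, 2, 3, 2]), (1, 2, [7, 5, 2, 3, 2]), (1, 2, [5, 6, 5, 2, 3,
    2]), (1, 2, [5, 6, 7, 5, 6, 5, 2, 3, 2]), (1, 2, [2, 3, 4, 2, 3, 2]), (1, 2, [7, 2, 3, 4, 2, 3, 2]), (1, 2, [6, 2, 3, 4, 2, 3, 2]), (1, 2, [6, 7,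
    6, 2, 3, 4, 2, 3, 2]), (1, 2, [2, 3, 4, 5, 2, 3, 4, 2, 3, 2]), (1, 2, [7, 2, 3, 4, 5, 2, 3, 4, 2, 3, 2]), (1, 2, [2, 3, 4, 5, 6, 2, 3, 4, 5, 2, 3,
    4, 2, 3, 2]), (1, 2, [2, 3, 4, 5, 6, 7, 2, 3, 4, 5, 6, 2, 3, 4, 5, 2, 3, 4, 2, 3, 2]), (2, 1, [3, 4, 5, 6, 7, 1, 3, 4, 5, 6]), (2, 2, [3, 4, 5, 1,
    3, 4]), (2, 2, [7, 6, 3, 4, 5, 1, 3, 4]), (1, 6, [6, 7, 6, 1]), (2, 2, [6, 7, 5, 6, 3, 4, 5, 1, 3, 4]), (2, 3, [3, 1]), (1, 5, [5, 6, 5, 1]), (1,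
    5, [5, 6, 7, 5, 6, 5, 1]), (2, 2, [5, 6, 7, 4, 5, 6, 3, 4, 5, 1, 3, 4]), (2, 3, [5, 4, 3, 1]), (2, 3, [7, 6, 5, 4, 3, 1]), (1, 6, [6, 7, 6, 4,
    1]), (1, 4, [4, 5, 4, 1]), (1, 4, [7, 4, 5, 4, 1]), (1, 4, [4, 5, 6, 4, 5, 4, 1]), (1, 4, [4, 5, 6, 7, 4, 5, 6, 4, 5, 4, 1]), (1, 1, [1, 3, 1]),
    (1, 1, [7, 1, 3, 1]), (1, 1, [6, 1, 3, 1]), (1, 1, [6, 7, 6, 1, 3, 1]), (1, 1, [5, 1, 3, 1]), (1, 1, [7, 5, 1, 3, 1]), (1, 1, [5, 6, 5, 1, 3, 1]),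
    (1, 1, [5, 6, 7, 5, 6, 5, 1, 3, 1]), (1, 1, [1, 3, 4, 1, 3, 1]), (1, 1, [7, 1, 3, 4, 1, 3, 1]), (1, 1, [6, 1, 3, 4, 1, 3, 1]), (1, 1, [6, 7, 6, 1,
    3, 4, 1, 3, 1]), (1, 1, [1, 3, 4, 5, 1, 3, 4, 1, 3, 1]), (1, 1, [7, 1, 3, 4, 5, 1, 3, 4, 1, 3, 1]), (1, 1, [1, 3, 4, 5, 6, 1, 3, 4, 5, 1, 3, 4, 1,
    3, 1]), (1, 1, [1, 3, 4, 5, 6, 7, 1, 3, 4, 5, 6, 1, 3, 4, 5, 1, 3, 4, 1, 3, 1]), (2, 2, [0, 2, 3, 4, 5, 6, 7, 1, 3, 4, 5, 6, 2, 3, 4, 5, 0, 2, 3,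
    4]), (2, 3, [0, 2, 3, 4, 5, 1, 3, 4, 2, 3, 0, 2]), (2, 3, [7, 6, 0, 2, 3, 4, 5, 1, 3, 4, 2, 3, 0, 2]), (1, 6, [6, 7, 6, 2, 1]), (2, 3, [6, 7, 5,
    6, 0, 2, 3, 4, 5, 1, 3, 4, 2, 3, 0, 2]), (2, 4, [6, 0, 2, 3, 4, 5, 2, 1, 3, 4, 0, 2, 3, 0, 2, 0]), (1, 5, [5, 6, 5, 2, 1]), (1, 5, [5, 6, 7, 5, 6,
    5, 2, 1]), (2, 3, [5, 6, 7, 4, 5, 6, 0, 2, 3, 4, 5, 1, 3, 4, 2, 3, 0, 2]), (2, 4, [5, 6, 0, 2, 3, 4, 5, 3, 2, 1, 3, 4, 0, 2, 3, 0, 2, 0]), (2, 4,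
    [7, 5, 6, 0, 2, 3, 4, 5, 4, 3, 2, 1, 3, 4, 0, 2, 3, 0, 2, 0]), (1, 6, [6, 7, 6, 4, 2, 1]), (1, 4, [4, 5, 4, 2, 1]), (1, 4, [7, 4, 5, 4, 2, 1]),
    (1, 4, [4, 5, 6, 4, 5, 4, 2, 1]), (1, 4, [4, 5, 6, 7, 4, 5, 6, 4, 5, 4, 2, 1]), (1, 1, [3, 2, 1, 3, 2, 1]), (1, 1, [7, 3, 2, 1, 3, 2, 1]), (1, 1,
    [6, 3, 2, 1, 3, 2, 1]), (1, 1, [6, 7, 6, 3, 2, 1, 3, 2, 1]), (1, 1, [5, 3, 2, 1, 3, 2, 1]), (1, 1, [7, 5, 3, 2, 1, 3, 2, 1]), (1, 1, [5, 6, 5, 3,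
    2, 1, 3, 2, 1]), (1, 1, [5, 6, 7, 5, 6, 5, 3, 2, 1, 3, 2, 1]), (2, 5, []), (2, 6, [5, 0, 2, 3, 4, 3, 2, 1, 3, 0, 2, 0]), (2, 6, [7, 6, 5, 0, 2, 3,
    4, 3, 2, 1, 3, 0, 2, 0]), (1, 6, [6, 7, 6, 4, 3, 2, 1, 3, 4, 3, 2, 1, 3, 2, 1]), (1, 1, [5, 4, 3, 2, 1, 3, 4, 5, 4, 3, 2, 1, 3, 4, 3, 2, 1, 3, 2,
    1]), (1, 1, [7, 5, 4, 3, 2, 1, 3, 4, 5, 4, 3, 2, 1, 3, 4, 3, 2, 1, 3, 2, 1]), (2, 7, [7, 6, 5, 4, 3, 1]), (1, 1, [7, 6, 5, 4, 3, 2, 1, 3, 4, 5, 6,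
    7, 6, 5, 4, 3, 2, 1, 3, 4, 5, 6, 5, 4, 3, 2, 1, 3, 4, 5, 4, 3, 2, 1, 3, 4, 3, 2, 1, 3, 2, 1]), (2, 1, [2, 3, 4, 5, 6, 7, 0, 2, 3, 4, 5, 6]), (2,
    2, [2, 3, 4, 5, 0, 2, 3, 4]), (2, 2, [7, 6, 2, 3, 4, 5, 0, 2, 3, 4]), (1, 6, [6, 7, 6, 0]), (2, 2, [6, 7, 5, 6, 2, 3, 4, 5, 0, 2, 3, 4]), (2, 3,
    [2, 3, 0, 2]), (1, 5, [5, 6, 5, 0]), (1, 5, [5, 6, 7, 5, 6, 5, 0]), (2, 2, [5, 6, 7, 4, 5, 6, 2, 3, 4, 5, 0, 2, 3, 4]), (2, 3, [5, 4, 2, 3, 0,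
    2]), (2, 3, [7, 6, 5, 4, 2, 3, 0, 2]), (1, 6, [6, 7, 6, 4, 0]), (1, 4, [4, 5, 4, 0]), (1, 4, [7, 4, 5, 4, 0]), (1, 4, [4, 5, 6, 4, 5, 4, 0]), (1,
    4, [4, 5, 6, 7, 4, 5, 6, 4, 5, 4, 0]), (2, 2, [4, 5, 6, 7, 3, 4, 5, 6, 2, 3, 4, 5, 0, 2, 3, 4]), (2, 3, [4, 5, 3, 4, 2, 3, 0, 2]), (2, 3, [7, 6,
    4, 5, 3, 4, 2, 3, 0, 2]), (1, 6, [6, 7, 6, 3, 0]), (2, 3, [6, 7, 5, 6, 4, 5, 3, 4, 2, 3, 0, 2]), (2, 4, [6, 4, 5, 2, 3, 4, 0, 2, 3, 0, 2, 0]), (1,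
    5, [5, 6, 5, 3, 0]), (1, 5, [5, 6, 7, 5, 6, 5, 3, 0]), (1, 3, [3, 4, 3, 0]), (1, 3, [7, 3, 4, 3, 0]), (1, 3, [6, 3, 4, 3, 0]), (1, 3, [6, 7, 6, 3,
    4, 3, 0]), (1, 3, [3, 4, 5, 3, 4, 3, 0]), (1, 3, [7, 3, 4, 5, 3, 4, 3, 0]), (1, 3, [3, 4, 5, 6, 3, 4, 5, 3, 4, 3, 0]), (1, 3, [3, 4, 5, 6, 7, 3,
    4, 5, 6, 3, 4, 5, 3, 4, 3, 0]), (1, 0, [0, 2, 0]), (1, 0, [7, 0, 2, 0]), (1, 0, [6, 0, 2, 0]), (1, 0, [6, 7, 6, 0, 2, 0]), (1, 0, [5, 0, 2, 0]),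
    (1, 0, [7, 5, 0, 2, 0]), (1, 0, [5, 6, 5, 0, 2, 0]), (1, 0, [5, 6, 7, 5, 6, 5, 0, 2, 0]), (1, 0, [4, 0, 2, 0]), (1, 0, [7, 4, 0, 2, 0]), (1, 0,
    [6, 4, 0, 2, 0]), (1, 0, [6, 7, 6, 4, 0, 2, 0]), (1, 0, [4, 5, 4, 0, 2, 0]), (1, 0, [7, 4, 5, 4, 0, 2, 0]), (1, 0, [4, 5, 6, 4, 5, 4, 0, 2, 0]),
    (1, 0, [4, 5, 6, 7, 4, 5, 6, 4, 5, 4, 0, 2, 0]), (1, 0, [0, 2, 3, 0, 2, 0]), (1, 0, [7, 0, 2, 3, 0, 2, 0]), (1, 0, [6, 0, 2, 3, 0, 2, 0]), (1, 0,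
    [6, 7, 6, 0, 2, 3, 0, 2, 0]), (1, 0, [5, 0, 2, 3, 0, 2, 0]), (1, 0, [7, 5, 0, 2, 3, 0, 2, 0]), (1, 0, [5, 6, 5, 0, 2, 3, 0, 2, 0]), (1, 0, [5, 6,
    7, 5, 6, 5, 0, 2, 3, 0, 2, 0]), (1, 0, [0, 2, 3, 4, 0, 2, 3, 0, 2, 0]), (1, 0, [7, 0, 2, 3, 4, 0, 2, 3, 0, 2, 0]), (1, 0, [6, 0, 2, 3, 4, 0, 2, 3,
    0, 2, 0]), (1, 0, [6, 7, 6, 0, 2, 3, 4, 0, 2, 3, 0, 2, 0]), (1, 0, [0, 2, 3, 4, 5, 0, 2, 3, 4, 0, 2, 3, 0, 2, 0]), (1, 0, [7, 0, 2, 3, 4, 5, 0, 2,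
    3, 4, 0, 2, 3, 0, 2, 0]), (1, 0, [0, 2, 3, 4, 5, 6, 0, 2, 3, 4, 5, 0, 2, 3, 4, 0, 2, 3, 0, 2, 0]), (1, 0, [0, 2, 3, 4, 5, 6, 7, 0, 2, 3, 4, 5, 6,
    0, 2, 3, 4, 5, 0, 2, 3, 4, 0, 2, 3, 0, 2, 0]), (2, 2, [3, 4, 5, 6, 7, 1, 3, 4, 5, 6, 2, 3, 4, 5, 0, 2, 3, 4]), (2, 3, [3, 4, 5, 1, 3, 4, 2, 3, 0,
    2]), (2, 3, [7, 6, 3, 4, 5, 1, 3, 4, 2, 3, 0, 2]), (1, 6, [6, 7, 6, 1, 0]), (2, 3, [6, 7, 5, 6, 3, 4, 5, 1, 3, 4, 2, 3, 0, 2]), (2, 4, [6, 3, 4,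
    5, 2, 1, 3, 4, 0, 2, 3, 0, 2, 0]), (1, 5, [5, 6, 5, 1, 0]), (1, 5, [5, 6, 7, 5, 6, 5, 1, 0]), (2, 3, [5, 6, 7, 4, 5, 6, 3, 4, 5, 1, 3, 4, 2, 3, 0,
    2]), (2, 4, [5, 6, 3, 4, 5, 3, 2, 1, 3, 4, 0, 2, 3, 0, 2, 0]), (2, 4, [7, 5, 6, 3, 4, 5, 4, 3, 2, 1, 3, 4, 0, 2, 3, 0, 2, 0]), (1, 6, [6, 7, 6, 4,
    1, 0]), (1, 4, [4, 5, 4, 1, 0]), (1, 4, [7, 4, 5, 4, 1, 0]), (1, 4, [4, 5, 6, 4, 5, 4, 1, 0]), (1, 4, [4, 5, 6, 7, 4, 5, 6, 4, 5, 4, 1, 0]), (1,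
    1, [1, 3, 1, 0]), (1, 1, [7, 1, 3, 1, 0]), (1, 1, [6, 1, 3, 1, 0]), (1, 1, [6, 7, 6, 1, 3, 1, 0]), (1, 1, [5, 1, 3, 1, 0]), (1, 1, [7, 5, 1, 3, 1,
    0]), (1, 1, [5, 6, 5, 1, 3, 1, 0]), (1, 1, [5, 6, 7, 5, 6, 5, 1, 3, 1, 0]), (1, 1, [1, 3, 4, 1, 3, 1, 0]), (1, 1, [7, 1, 3, 4, 1, 3, 1, 0]), (1,
    1, [6, 1, 3, 4, 1, 3, 1, 0]), (1, 1, [6, 7, 6, 1, 3, 4, 1, 3, 1, 0]), (1, 1, [1, 3, 4, 5, 1, 3, 4, 1, 3, 1, 0]), (1, 1, [7, 1, 3, 4, 5, 1, 3, 4,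
    1, 3, 1, 0]), (1, 1, [1, 3, 4, 5, 6, 1, 3, 4, 5, 1, 3, 4, 1, 3, 1, 0]), (1, 1, [1, 3, 4, 5, 6, 7, 1, 3, 4, 5, 6, 1, 3, 4, 5, 1, 3, 4, 1, 3, 1,
    0]), (1, 0, [0, 2, 1, 0]), (1, 0, [7, 0, 2, 1, 0]), (1, 0, [6, 0, 2, 1, 0]), (1, 0, [6, 7, 6, 0, 2, 1, 0]), (1, 0, [5, 0, 2, 1, 0]), (1, 0, [7, 5,
    0, 2, 1, 0]), (1, 0, [5, 6, 5, 0, 2, 1, 0]), (1, 0, [5, 6, 7, 5, 6, 5, 0, 2, 1, 0]), (1, 0, [4, 0, 2, 1, 0]), (1, 0, [7, 4, 0, 2, 1, 0]), (1, 0,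
    [6, 4, 0, 2, 1, 0]), (1, 0, [6, 7, 6, 4, 0, 2, 1, 0]), (1, 0, [4, 5, 4, 0, 2, 1, 0]), (1, 0, [7, 4, 5, 4, 0, 2, 1, 0]), (1, 0, [4, 5, 6, 4, 5, 4,
    0, 2, 1, 0]), (1, 0, [4, 5, 6, 7, 4, 5, 6, 4, 5, 4, 0, 2, 1, 0]), (1, 0, [2, 3, 0, 2, 1, 3, 0, 2, 1, 0]), (1, 0, [7, 2, 3, 0, 2, 1, 3, 0, 2, 1,
    0]), (1, 0, [6, 2, 3, 0, 2, 1, 3, 0, 2, 1, 0]), (1, 0, [6, 7, 6, 2, 3, 0, 2, 1, 3, 0, 2, 1, 0]), (1, 0, [5, 2, 3, 0, 2, 1, 3, 0, 2, 1, 0]), (1, 0,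
    [7, 5, 2, 3, 0, 2, 1, 3, 0, 2, 1, 0]), (1, 0, [5, 6, 5, 2, 3, 0, 2, 1, 3, 0, 2, 1, 0]), (1, 0, [5, 6, 7, 5, 6, 5, 2, 3, 0, 2, 1, 3, 0, 2, 1, 0]),
    (1, 1, [1, 3, 4, 2, 3, 0, 2, 1, 3, 4, 2, 3, 0, 2, 1, 3, 0, 2, 1, 0]), (1, 1, [7, 1, 3, 4, 2, 3, 0, 2, 1, 3, 4, 2, 3, 0, 2, 1, 3, 0, 2, 1, 0]), (1,
    1, [6, 1, 3, 4, 2, 3, 0, 2, 1, 3, 4, 2, 3, 0, 2, 1, 3, 0, 2, 1, 0]), (1, 1, [6, 7, 6, 1, 3, 4, 2, 3, 0, 2, 1, 3, 4, 2, 3, 0, 2, 1, 3, 0, 2, 1,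
    0]), (1, 0, [0, 2, 3, 4, 5, 1, 3, 4, 2, 3, 0, 2, 1, 3, 4, 5, 1, 3, 4, 2, 3, 0, 2, 1, 3, 4, 2, 3, 0, 2, 1, 3, 0, 2, 1, 0]), (1, 0, [7, 0, 2, 3, 4,
    5, 1, 3, 4, 2, 3, 0, 2, 1, 3, 4, 5, 1, 3, 4, 2, 3, 0, 2, 1, 3, 4, 2, 3, 0, 2, 1, 3, 0, 2, 1, 0]), (2, 8, []), (2, 9, [])]
theorem ncjE8 : NcjT (tab chevE8) auxE8.len [] clsE8 := by rw [tabE8_eq]; decide +kernel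
theorem stdE8_ok : StdT (tab chevE8) id ([] :: [[239], [232, 233], [228, 222, 218], [226, 220, 213, 216]]) stdE8 := by rw [tabE8_eq]; decide +kernel
theorem allE8 : AllT (tab chevE8) id (fun i => [i]) [7, 6, 5, 4, 3, 2, 1, 3, 4, 5, 6, 0, 2, 3, 4, 5, 1, 3, 4, 2, 3, 0, 2, 1, 3, 4, 5, 6, 7, 6, 5, 4,
    3, 2, 1, 3, 4, 5, 6, 0, 2, 3, 4, 5, 1, 3, 4, 2, 3, 0, 2, 1, 3, 4, 5, 6, 7, 6, 5, 4, 3, 2, 1, 3, 4, 5, 6, 0, 2, 3, 4, 5, 1, 3, 4, 2, 3, 0, 2, 1, 3,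
    4, 5, 6, 0, 2, 3, 4, 5, 1, 3, 4, 2, 3, 0, 2, 1, 3, 4, 5, 1, 3, 4, 2, 3, 0, 2, 1, 3, 4, 2, 3, 0, 2, 1, 3, 0, 2, 1, 0] (fun k r => (stdE8.getD k
    default).1.foldr (tab chevE8).rfC r) stdE8.length enE8 := by
  rw [tabE8_eq]; decide +kernel
theorem invE8 {F : Type*} [Field F] [Finite F] [CharP F 2] : ∀ g ∈ (adS chevE8 F).T, orderOf g = 2 →
    ∃ O ∈ clsE8.map Prod.fst, Cj (adS chevE8 F).T g (xs chevE8 F O) := ch2_refl.classes orb_refl stdE8_ok allE8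

end H12
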