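import Cfsg.Agent.H15.Kl0
/-! S4606, piece PE. -/

set_option autoImplicit false

namespace H12.KlE
open Subgroup Cfsg H15.Kl
open scoped commutatorElement
universe u

/-- `p`-part and `p'`-part as powers -/
theorem parts {G : Type u} [Group G] [Finite G] (p : ℕ) [hp : Fact p.Prime] (g : G) :
    ∃ a b k : ℕ, g ^ a * g ^ b = g ∧ (g ^ a) ^ p ^ k = 1 ∧ ¬ p ∣ orderOf (g ^ b) ∧ p ∣ b := by
  obtain ⟨k, m, hm, e⟩ := Nat.exists_eq_pow_mul_and_not_dvd (orderOf_pos g).ne' p hp.out.ne_one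
  have c : Nat.Coprime (p ^ (k + 1)) m := (Nat.Coprime.pow_left _ ((hp.out.coprime_iff_not_dvd).2 hm))
  obtain ⟨b, h1, h2⟩ := Nat.chineseRemainder c 0 1
  obtain ⟨a, h3, h4⟩ := Nat.chineseRemainder c 1 0
  have d1 : p ^ (k + 1) ∣ b := Nat.modEq_zero_iff_dvd.1 h1
  refine ⟨a, b, k, ?_, ?_, fun h => hm (h.trans ?_), (dvd_pow_self p k.succ_ne_zero).trans d1⟩
  · rw [← pow_add]
    conv_rhs => rw [← pow_one g]
    rw [pow_eq_pow_iff_modEq, e]
    refine ((Nat.modEq_and_modEq_iff_modEq_mul c).1 ⟨by simpa using h3.add h1, by simpa using h4.add h2⟩).of_dvd ?_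
    exact Nat.mul_dvd_mul_right (pow_dvd_pow p k.le_succ) m
  · rw [← pow_mul, ← orderOf_dvd_iff_pow_eq_one, e, mul_comm a]
    exact Nat.mul_dvd_mul_left _ (Nat.modEq_zero_iff_dvd.1 h4)
  · rw [orderOf_dvd_iff_pow_eq_one, ← pow_mul, ← orderOf_dvd_iff_pow_eq_one, e]
    exact Nat.mul_dvd_mul_right ((pow_dvd_pow p k.le_succ).trans d1) m

theorem pE : PE.{u} := fun G _ _ p hp D p2 hC hF hD D0 h2 h3 => by
  classical
  let N := normalizer (D : Set G)
  let C := (centralizer (D : Set G)).subgroupOf N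
  have : C.Normal := inferInstance
  have mC : ∀ n : N, (n : N ⧸ C) = 1 ↔ ∀ x ∈ D, x * n = n * x := fun n => by
    rw [QuotientGroup.eq_one_iff, mem_subgroupOf, mem_centralizer_iff]; rfl
  have po : Odd p := hp.out.odd_of_ne_two p2
  have cj : ∀ n : N, ∀ x ∈ D, (n : G) * x * (n : G)⁻¹ ∈ D := fun n x hx => (mem_normalizer_iff.1 n.2 x).1 hx
  have sq : ∀ x ∈ D, x * x = 1 → x = 1 := fun x hx h => by
    obtain ⟨k, hk⟩ := hD ⟨x, hx⟩
    obtain ⟨j, hj⟩ := po.pow (n := k)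
    have : x ^ p ^ k = 1 := congrArg Subtype.val hk
    rwa [hj, pow_succ, pow_mul, sq, h, one_pow, one_mul] at this
  -- a `p'`-element with image an involution inverts `D`
  have inv : ∀ t : N, ¬ p ∣ orderOf t → (t : N ⧸ C) ≠ 1 → (t : N ⧸ C) ^ 2 = 1 → ∀ x ∈ D, (t : G) * x * (t : G)⁻¹ = x⁻¹ := by
    intro t h1 h4 h5
    have f : ∀ x ∈ D, (t : G) * x * (t : G)⁻¹ = x → x = 1 := fun x hx e => by_contra fun x1 => h4 ((mC t).2
      (hF D t x hD t.2 (by rwa [Subgroup.orderOf_coe]) hx x1 (mul_inv_eq_iff_eq_mul.1 e).symm))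
    have t2 : ∀ x ∈ D, (t : G) * (t * x * (t : G)⁻¹) * (t : G)⁻¹ = x := fun x hx => by
      have := (mC (t ^ 2)).1 h5 x hx
      rw [Subgroup.coe_pow, pow_two] at this
      calc _ = (t * t * x) * ((t : G) * t)⁻¹ := by group
        _ = x := by rw [← this]; group
    have s : Function.Surjective fun y : D => (⟨y⁻¹ * (t * y * (t : G)⁻¹), mul_mem (inv_mem y.2) (cj t y y.2)⟩ : D) :=
      Finite.injective_iff_surjective.1 fun y z e => by
        have e' : (y : G)⁻¹ * (t * y * (t : G)⁻¹) = (z : G)⁻¹ * (t * z * (t : G)⁻¹) := congrArg Subtype.val e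
        have := f (z * (y : G)⁻¹) (mul_mem z.2 (inv_mem y.2)) (by
          calc _ = (z : G) * ((z : G)⁻¹ * (t * z * (t : G)⁻¹)) * ((t : G) * y * (t : G)⁻¹)⁻¹ := by group
            _ = _ := by rw [← e']; group)
        exact Subtype.ext (mul_inv_eq_one.1 this).symm
    intro x hx
    obtain ⟨y, hy⟩ := s ⟨x, hx⟩
    have hy' : (y : G)⁻¹ * (t * y * (t : G)⁻¹) = x := congrArg Subtype.val hy
    rw [← hy', ← conj_mul, t2 y y.2]; group
  have := Fact.mk Nat.prime_two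
  obtain ⟨n, hn⟩ := exists_prime_orderOf_dvd_card' (G := N ⧸ C) 2 h2
  obtain ⟨r, hr⟩ := exists_prime_orderOf_dvd_card' (G := N ⧸ C) p h3
  -- the `p'`-part of an element whose `p`-th power has order two
  have key : ∀ g : N, orderOf ((g : N ⧸ C) ^ p) = 2 → ∃ a b k : ℕ, g ^ a * g ^ b = g ∧ (g ^ a) ^ p ^ k = 1 ∧
      ¬ p ∣ orderOf (g ^ b) ∧ ((g ^ b : N) : N ⧸ C) = (g : N ⧸ C) ^ p ∧ ∀ x ∈ D, ((g ^ b : N) : G) * x * ((g ^ b : N) : G)⁻¹ = x⁻¹ := by
    intro g hg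
    obtain ⟨a, b, k, e1, e2, e3, c, rfl⟩ := parts p g
    have o2 : ((g : N ⧸ C) ^ p) ^ 2 = 1 := hg ▸ pow_orderOf_eq_one _
    have e4 : ((g ^ (p * c) : N) : N ⧸ C) = (g : N ⧸ C) ^ p := by
      rw [QuotientGroup.mk_pow, pow_mul]
      rcases Nat.even_or_odd' c with ⟨j, rfl | rfl⟩
      · exfalso
        have h1 : ((g ^ a : N) : N ⧸ C) = g := by
          conv_rhs => rw [← e1]
          rw [QuotientGroup.mk_mul, QuotientGroup.mk_pow _ g (p * _), pow_mul, pow_mul, o2, one_pow, mul_one]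
        have h2 : ((g : N ⧸ C) ^ p) ^ p ^ k = 1 := by
          rw [← pow_mul, mul_comm, pow_mul, ← h1, ← QuotientGroup.mk_pow, e2]; simp
        exact (Nat.not_even_iff_odd.2 (po.pow (n := k))) (even_iff_two_dvd.2 (hg ▸ orderOf_dvd_of_pow_eq_one h2))
      · rw [pow_succ, pow_mul, o2, one_pow, one_mul]
    exact ⟨a, _, k, e1, e2, e3, e4, inv _ e3 (by rw [e4]; intro h; rw [h, orderOf_one] at hg; omega) (by rw [e4, o2])⟩
  have np : n ^ p = n := by
    obtain ⟨j, hj⟩ := po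
    rw [hj, pow_succ, pow_mul, ← hn, pow_orderOf_eq_one, one_pow, one_mul]
  obtain ⟨n0, rfl⟩ := QuotientGroup.mk_surjective n
  obtain ⟨r0, rfl⟩ := QuotientGroup.mk_surjective r
  obtain ⟨-, b, -, -, -, -, e4, e5⟩ := key n0 (by rw [np, hn])
  rw [np] at e4
  have cm : Commute (n0 : N ⧸ C) r0 := by
    rw [← e4, ← commutatorElement_eq_one_iff_commute]
    refine (mC ⁅n0 ^ b, r0⁆).2 fun x hx => ?_
    have h1 := e5 _ (inv_mem hx)
    have h2 := e5 _ (inv_mem (cj r0⁻¹ _ hx))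
    generalize n0 ^ b = t at *
    simp only [commutatorElement_def, coe_mul, coe_inv, inv_inv] at *
    have h3 : (t : G)⁻¹ * ((r0 : G)⁻¹ * x * r0) * t = ((r0 : G)⁻¹ * x * r0)⁻¹ := by
      conv_lhs => rw [← h2]
      group
    refine (mul_inv_eq_iff_eq_mul.1 ?_).symm
    calc _ = (t : G) * (r0 * ((t : G)⁻¹ * ((r0 : G)⁻¹ * x * r0) * t) * (r0 : G)⁻¹) * (t : G)⁻¹ := by group
      _ = (t : G) * x⁻¹ * (t : G)⁻¹ := by rw [h3]; group
      _ = x := h1
  have gp : ((n0 * r0 : N) : N ⧸ C) ^ p = n0 := by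
    rw [QuotientGroup.mk_mul, cm.mul_pow, np, ← hr, pow_orderOf_eq_one, mul_one]
  obtain ⟨a, b, k, e1, e2, e3, e4, e5⟩ := key (n0 * r0) (by rw [gp, hn])
  have a1 : (n0 * r0) ^ a ≠ 1 := fun h => by
    rw [h, one_mul] at e1
    rw [e1, gp, QuotientGroup.mk_mul, mul_eq_left] at e4
    exact hp.out.one_lt.ne (by rw [← hr, e4, orderOf_one])
  generalize n0 * r0 = g at *
  obtain ⟨x, hx, x1, xc⟩ : ∃ x ∈ D, x ≠ 1 ∧ Commute ((g ^ a : N) : G) x := by
    have := Fintype.ofFinite D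
    obtain ⟨j, hj⟩ := hD.exists_card_eq
    obtain ⟨y, h1, h2⟩ := Equiv.Perm.exists_fixed_point_of_prime' (p := p) (n := k) (α := D) (by
      rw [← Nat.card_eq_fintype_card, hj]
      exact dvd_pow_self p fun h => D0 (card_eq_one.1 (by rw [hj, h, pow_zero])))
      (σ := ((MulAut.toPerm D).comp D.normalizerMonoidHom) (g ^ a)) (by rw [← map_pow, e2, map_one]) (a := 1) (map_one (D.normalizerMonoidHom (g ^ a)))
    exact ⟨y, y.2, fun h => h2 (Subtype.ext h), mul_inv_eq_iff_eq_mul.1 (congrArg Subtype.val h1)⟩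
  have h := hC _ ((g ^ b : N) : G) x (fun h => a1 (Subtype.ext h)) ⟨k, congrArg Subtype.val e2⟩
    (((Commute.refl g).pow_pow a b).map N.subtype) xc (by rwa [Subgroup.orderOf_coe])
  rw [commutatorElement_def, e5 x hx] at h
  obtain ⟨j, hj⟩ := (IsPGroup.iff_orderOf.1 hD) ⟨_, mul_mem (inv_mem hx) (inv_mem hx)⟩
  rw [← Subgroup.orderOf_coe] at hj
  rcases j with _ | j
  · exact x1 (inv_eq_one.1 (sq _ (inv_mem hx) (orderOf_eq_one_iff.1 hj)))
  · exact h (hj ▸ dvd_pow_self p j.succ_ne_zero)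

end H12.KlE
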