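import Cfsg.Agent.H5.Kernel
import Cfsg.Prelude.Def_Blocks

/-! Assembly step for S4591: the two inclusions give the set equality. -/
set_option autoImplicit false
namespace H12.KpA
open Cfsg H5

theorem asm {G : Type*} [Group G] [Finite G] (p : ℕ) (L : Subgroup G)
    (hX : ∀ χ : G → ℂ, IsIrrCharacter G χ → ¬ p ∣ charDegree χ → L.normalCore ≤ charKer χ)
    (hY : ∀ (K : Subgroup G) [K.Normal],
      (∀ χ : G → ℂ, IsIrrCharacter G χ → ¬ p ∣ charDegree χ → K ≤ charKer χ) → K ≤ L) :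
    {g : G | ∀ χ : IrrCharacter G, ¬ p ∣ charDegree (χ : G → ℂ) → (χ : G → ℂ) g = (χ : G → ℂ) 1} =
      (L.normalCore : Set G) := by
  ext g
  constructor
  · intro hg
    let K : Subgroup G := ⨅ (χ : IrrCharacter G) (_ : ¬ p ∣ charDegree (χ : G → ℂ)), charKer (χ : G → ℂ)
    have hm : ∀ x, x ∈ K ↔ ∀ χ : IrrCharacter G, ¬ p ∣ charDegree (χ : G → ℂ) → x ∈ charKer (χ : G → ℂ) :=
      fun x => by simp only [K, Subgroup.mem_iInf]
    haveI hK : K.Normal := ⟨fun n hn y => (hm _).2 fun χ hd =>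
      (χ.2.isCharacter.normal_charKer).conj_mem n ((hm n).1 hn χ hd) y⟩
    have h1 : K ≤ L := hY K fun χ hχ hd x hx => (hm x).1 hx ⟨χ, hχ⟩ hd
    exact (Subgroup.normal_le_normalCore.2 h1) ((hm g).2 fun χ hd => χ.2.mem_charKer.2 (hg χ hd))
  · intro hg χ hd
    exact apply_eq_of_mem_charKer (hX χ χ.2 hd hg)

end H12.KpA
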