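import Cfsg.Agent.H12.O5b

/-! Tools for local subgroups: a criterion for non-maximality of a normaliser (`Loc.not_coatom`), four-groups normalising a small abelian group (`Loc.four`),
Sylow arguments, centralisers of torus elements (`CA_le`, `CA_mono`) and twisting of finite models (`FM.tw`). -/

set_option autoImplicit false

namespace H12
open Cfsg.Lie StSys Subgroup

namespace Loc
variable {G X : Type*} [Group G] [Group X]
theorem not_coatom [IsSimpleGroup G] (j : G →* X) {P : Subgroup G} (hP : P ≠ ⊥) {Y : Set X} (h1 : ∀ n ∈ normalizer (P : Set G), ∀ y ∈ Y, j n * y * (j n)⁻¹ ∈ Y)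
    (h2 : ∀ x ∈ P, ∀ y ∈ Y, Commute (j x) y) (h3 : ∃ y ∈ Y, ∃ a, ¬ Commute (j a) y) (h4 : ∃ v, (∀ y ∈ Y, Commute (j v) y) ∧ v ∉ normalizer (P : Set G)) :
    ¬ IsCoatom (normalizer (P : Set G)) := fun h => by
  obtain ⟨v, h5, h6⟩ := h4
  obtain ⟨y, hy, a, ha⟩ := h3
  have k : ∀ n ∈ normalizer (P : Set G), ∀ c ∈ (centralizer Y).comap j, n * c * n⁻¹ ∈ (centralizer Y).comap j := fun n hn c hc y hy => by
    have := hc _ (h1 _ (inv_mem hn) y hy)
    rw [map_inv, inv_inv] at this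
    rw [map_mul, map_mul, map_inv, ← mul_left_inj (j n), ← mul_right_inj (j n)⁻¹]; simpa [mul_assoc] using this
  have e := h.2 (normalizer ((centralizer Y).comap j : Set G)) (lt_of_le_of_ne (fun n hn => mem_normalizer_of_conj (k n hn) (by simpa using k _ (inv_mem hn)))
    fun e => h6 (e ▸ le_normalizer (fun y hy => (h5 y hy).eq.symm)))
  rcases (normalizer_eq_top_iff.1 e).eq_bot_or_eq_top with e | e
  · exact hP (eq_bot_iff.2 fun x hx => e.le fun y hy => (h2 x hx y hy).eq.symm)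
  · exact ha (e.ge (mem_top a) y hy).symm

section four
variable {P : Subgroup G} {x1 x2 : G} {p : ℕ} (hp : p.Prime) (h2 : p ≠ 2) (m2 : x2 ∈ P) (hP : ∀ y ∈ P, ∃ i j : ℤ, y = x1 ^ i * x2 ^ j) (hc : Commute x1 x2)
  (o1 : x1 ^ p = 1) (o2 : x2 ^ p = 1) (hi : x2 ∉ zpowers x1)
include hp o2 hi
theorem dvd_of_mem {n : ℤ} (h : x2 ^ n ∈ zpowers x1) : (p : ℤ) ∣ n := by
  by_contra e
  obtain ⟨a, b, e⟩ := ((Nat.prime_iff_prime_int.1 hp).coprime_iff_not_dvd).2 e
  refine hi ?_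
  rw [← zpow_one x2, ← e, zpow_add, mul_comm a, zpow_mul, zpow_natCast, o2, one_zpow, one_mul, mul_comm, zpow_mul]
  exact zpow_mem h b
include h2 m2 hP hc o1
theorem dich {u : G} (hu : u ∈ normalizer (P : Set G)) (c1 : Commute u x1) (uu : u * u = 1) : Commute u x2 ∨ ∃ z ∈ zpowers x1, u * x2 * u⁻¹ = z * x2⁻¹ := by
  obtain ⟨i, j, e⟩ := hP _ (conj_mem_of_normalizer hu m2)
  have e1 : MulAut.conj u x1 = x1 := by simp [c1.eq]
  have e2 : MulAut.conj u (MulAut.conj u x2) = x2 := by rw [← MulAut.mul_apply, ← map_mul, uu, map_one, MulAut.one_apply]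
  have k : ∀ n : ℤ, (p : ℤ) ∣ n → x2 ^ n = 1 := by rintro _ ⟨t, rfl⟩; rw [zpow_mul, zpow_natCast, o2, one_zpow]
  have e3 := e2
  rw [MulAut.conj_apply u x2, e, map_mul, map_zpow, map_zpow, e1, MulAut.conj_apply, e, (hc.zpow_zpow i j).mul_zpow, ← zpow_mul, ← zpow_mul, ← mul_assoc, ← zpow_add,
    ← mul_inv_eq_one, mul_assoc, ← zpow_sub_one, mul_eq_one_iff_inv_eq, ← zpow_neg] at e3
  rcases (Nat.prime_iff_prime_int.1 hp).dvd_or_dvd (show (p : ℤ) ∣ (j - 1) * (j + 1) by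
    rw [show (j - 1) * (j + 1) = j * j - 1 by ring]; exact dvd_of_mem hp o2 hi (e3 ▸ zpow_mem_zpowers _ _)) with h | h
  · rw [← sub_add_cancel j 1, zpow_add_one, k _ h, one_mul] at e
    rw [MulAut.conj_apply u x2, e, map_mul, map_zpow, e1, MulAut.conj_apply, e, ← mul_assoc, mul_eq_right, ← sq] at e2
    have : x1 ^ i = 1 := by
      rw [← pow_one (x1 ^ i), ← (Nat.coprime_primes hp Nat.prime_two).2 h2]
      exact pow_gcd_eq_one.2 ⟨by rw [← zpow_natCast, ← zpow_mul, mul_comm, zpow_mul, zpow_natCast, o1, one_zpow], e2⟩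
    exact .inl (by rwa [this, one_mul, mul_inv_eq_iff_eq_mul] at e)
  · exact .inr ⟨_, zpow_mem_zpowers x1 i, by rw [e, ← add_sub_cancel_right j 1, zpow_sub_one, k _ h, one_mul]⟩
theorem four {u v : G} (hu : u ∈ normalizer (P : Set G)) (hv : v ∈ normalizer (P : Set G)) (cu : Commute u x1) (cv : Commute v x1) (uu : u * u = 1) (vv : v * v = 1)
    (uv : u * v * (u * v) = 1) : Commute u x2 ∨ Commute v x2 ∨ Commute (u * v) x2 := by
  refine (dich hp h2 m2 hP hc o1 o2 hi hu cu uu).imp_right fun ⟨z1, a1, e1⟩ => (dich hp h2 m2 hP hc o1 o2 hi hv cv vv).imp_right fun ⟨z2, a2, e2⟩ =>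
    (dich hp h2 m2 hP hc o1 o2 hi (mul_mem hu hv) (cu.mul_left cv) uv).resolve_right fun ⟨z3, a3, e3⟩ => h2 ?_
  obtain ⟨i, rfl⟩ := mem_zpowers_iff.1 a2
  have e4 : u * v * x2 * (u * v)⁻¹ = x1 ^ i * (x2 * z1⁻¹) := by
    rw [show u * v * x2 * (u * v)⁻¹ = u * (v * x2 * v⁻¹) * u⁻¹ by group, e2, show u * (x1 ^ i * x2⁻¹) * u⁻¹ = u * x1 ^ i * u⁻¹ * (u * x2 * u⁻¹)⁻¹ by group, e1,
      (cu.zpow_right i).eq]; group
  obtain ⟨n, rfl⟩ := mem_zpowers_iff.1 a1
  have e5 : x2 ^ (2 : ℤ) = (x1 ^ i * (x1 ^ n)⁻¹)⁻¹ * z3 := by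
    rw [← eq_mul_inv_iff_mul_eq.1 (e3.symm.trans e4).symm, ← (hc.zpow_left n).inv_left.eq, zpow_two]; group
  exact (Nat.prime_dvd_prime_iff_eq hp Nat.prime_two).1 (Int.natCast_dvd_natCast.1 (dvd_of_mem hp o2 hi
    (e5 ▸ mul_mem (inv_mem (mul_mem a2 (inv_mem a1))) a3)))
end four

variable [Finite G] {p : ℕ} [hp : Fact p.Prime]
theorem mul_dvd_of_lt {A B : Subgroup G} (hB : IsPGroup p B) (h : A < B) : p * Nat.card A ∣ Nat.card B := by
  obtain ⟨n, hn⟩ := hB.index (A.subgroupOf B)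
  rw [← (A.subgroupOf B).index_mul_card, Nat.card_congr (subgroupOfEquivOfLe h.le).toEquiv, hn]
  exact Nat.mul_dvd_mul_right (dvd_pow_self p fun e => h.not_ge (subgroupOf_eq_top.1 (index_eq_one.1 (by simp [hn, e])))) _
theorem exists_conj_le {P Q : Subgroup G} (hP : IsPGroup p P) (hQ : IsPGroup p Q) (h : ¬ p * Nat.card Q ∣ Nat.card G) :
    ∃ g : G, P.map (MulAut.conj g).toMonoidHom ≤ Q := by
  obtain ⟨S, hS⟩ := hP.exists_le_sylow
  obtain ⟨T, hT⟩ := hQ.exists_le_sylow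
  obtain ⟨g, rfl⟩ := MulAction.exists_smul_eq G S T
  exact ⟨g, (map_mono hS).trans (hT.eq_or_lt.resolve_right fun l => h ((mul_dvd_of_lt (g • S).isPGroup' l).trans (card_subgroup_dvd_card _))).ge⟩
omit [Finite G] in
theorem coatom_conj (g : G) (P : Subgroup G) : IsCoatom (normalizer (P.map (MulAut.conj g).toMonoidHom : Set G)) ↔ IsCoatom (normalizer (P : Set G)) := by
  rw [← map_equiv_normalizer_eq]; exact (MulAut.conj g).mapSubgroup.isCoatom_iff _
end Loc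

variable {D : ChevalleyDatum} [Good D] [SC D] {k : Type*} [Field k]
theorem CA_le {c : I D → kˣ} (hc : IsOfFinOrder c) : (stS D k).CA {c} ≤ (stS D k).gen (Psi {c}) ⊔ (stS D k).H := fun y hy => by
  obtain ⟨w, hw, u, hu, n, hn, u', hu', rfl⟩ := cov_st.exists_unu_CA r3_st (hi_st k) hy
  obtain ⟨n', h1, h2⟩ : ∃ n' ∈ (stS D k).gen (Psi {c}), (stS D k).Rep n' w := (refS_of_conn (conn_units hc)).ind (P := fun v => ∃ n' ∈ (stS D k).gen (Psi {c}), (stS D k).Rep n' v)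
    ⟨1, one_mem _, rep_of_mem_H (one_mem _)⟩ (fun v _ r hr _ ⟨n', h1, h2⟩ => ⟨_, mul_mem h1 ((stS D k).n_mem_gen hr (ng_mem_Psi.2 hr) 1), h2.mul (rep_n r 1)⟩) hw
  exact mul_mem (mul_mem (mem_sup_left ((stS D k).gen_mono Set.inter_subset_right hu)) (mul_inv_cancel_left n' n ▸ mul_mem (mem_sup_left h1) (mem_sup_right (h2.inv_mul_mem hn))))
    (mem_sup_left ((stS D k).gen_mono Set.inter_subset_right hu'))
theorem CA_mono {c c' : I D → kˣ} (hc : IsOfFinOrder c) (h : Psi {c} ⊆ Psi {c'}) : (stS D k).CA {c} ≤ (stS D k).CA {c'} :=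
  (CA_le hc).trans (sup_le (((stS D k).gen_mono h).trans gen_le_CA) (r3_st.H_le_CA _))
omit [SC D] in
theorem mem_CA_one {c : I D → kˣ} {y : D.SteinbergGroup k} : y ∈ (stS D k).CA {c} ↔ Commute y ((stS D k).hl c) := by
  rw [mem_stCA, show (∀ c' ∈ ({c} : Set _), _) ↔ _ from forall_eq, mul_inv_eq_iff_eq_mul, eq_comm]; rfl
omit [Good D] [SC D] in
theorem mem_Psi_one {A : Type*} [CommGroup A] {c : I D → A} {r : Φ D} : r ∈ Psi {c} ↔ tch c (wt r) = 1 := forall_eq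
omit [SC D] in
theorem tch_of_comm {c : I D → kˣ} {r : Φ D} (h : Commute (r3_ad.lift ((stS D k).hl c)) (r3_ad.lift ((stS D k).x r 1))) : tch c (wt r) = 1 := by
  have := congrArg r3_ad.lift (hl_conj_x' (S := stS D k) c r 1)
  rw [map_mul, map_mul, map_inv, h.eq, mul_inv_cancel_right, R3.lift_x, R3.lift_x, mul_one] at this
  exact Units.ext (xR_inj (r := r) (congrArg Units.val this)).symm

/-- the same finite group in coordinates twisted by a representative of `w` -/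
noncomputable def FM.tw {p : ℕ} [Fact p.Prime] [CharP k p] {G₀ : Type*} [Group G₀] (m : FM D k p G₀) {g n : D.SteinbergGroup k} {w : W D}
    (hn : (stS D k).Rep n w) (h : n = g⁻¹ * m.σ g) : FM D k p G₀ where
  σ := twE n m.σ
  fr := m.fr.twE m.lf n
  lf := m.lf
  q := m.q
  P := m.P ∘ₗ wL w⁻¹
  hl c := by rw [twE_apply, m.σ_hl, r3_st.rep_conj_hl hn]; exact congrArg _ (funext fun i => m.tch_φ _ _)
  j := (MulAut.conj (r3_ad.lift g)⁻¹).toMonoidHom.comp m.j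
  inj := (MulAut.conj (r3_ad.lift g)⁻¹).injective.comp m.inj
  range y := ⟨fun ⟨a, e⟩ => by
    obtain ⟨x, h1, h2⟩ := (m.range _).1 ⟨a, rfl⟩
    exact ⟨g⁻¹ * x * g, by rw [twE_apply, h, map_mul, map_mul, map_inv, h1]; group, by simp [← e, h2]⟩, fun ⟨x, h1, h2⟩ => by
    obtain ⟨a, e⟩ := (m.range _).2 ⟨g * x * g⁻¹, by
      rw [map_mul, map_mul, map_inv]; conv_rhs => rw [← h1, twE_apply, h]
      group, rfl⟩
    exact ⟨a, by simp [e, ← h2, mul_assoc]⟩⟩

end H12
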