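import Cfsg.Agent.H12.Loc1
import Cfsg.Agent.H12.Fi9
import Cfsg.Agent.H12.Spec

/-! Models `Loc.Md` of `²E₆(2)` in twisted coordinates, four-groups in centralisers of semisimple elements (`Md.exists_four`) and the non-maximality
criterion `Md.core` for normalisers of toral `p`-subgroups. -/

set_option autoImplicit false

namespace H12.Loc
open Cfsg.Lie StSys Subgroup

structure Md (k : Type*) [Field k] [CharP k 2] (G : Type*) [Group G] (τ : ℕ → ℕ) extends FM chevE6 k 2 G where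
  lt : ∀ r < 72, τ r < chevE6.nroots
  σx : ∀ r < 72, ∀ t, σ ((stS chevE6 k).xN r t) = (stS chevE6 k).xN (τ r) (t ^ 2)
  sc : ∀ y, (∀ a, Commute (j a) y) → ∀ z, Commute y z

theorem exists_md {K : Type*} [Field K] [Fintype K] [CharP K 2] (hK : Fintype.card K = 4) : Nonempty (Md (AlgebraicClosure K) (twistedE6 K 2) gE6.ρ) := by
  have hK' : Fintype.card K = 2 ^ 2 := hK
  obtain ⟨φ, hφ⟩ := exists_frob (F := K) Nat.prime_two.isPrimePow two_ne_zero hK'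
  obtain ⟨ω, h1⟩ := exists_sq_ne_one hK.ge
  have hω : (ω : K) ^ 2 = ω + 1 := by
    have h2 : (ω : K) ^ 3 = 1 := by simpa [hK] using FiniteField.pow_card_sub_one_eq_one (ω : K) ω.ne_zero
    have h3 : (ω : K) - 1 ≠ 0 := fun h => h1 (by simp [sub_eq_zero.1 h])
    have := CharTwo.two_eq_zero (R := K)
    exact mul_left_cancel₀ h3 (by linear_combination h2 - (ω : K) ^ 2 * this + this)
  obtain ⟨m, e1, e2⟩ : ∃ m : FM chevE6 (AlgebraicClosure K) 2 (twistedE6 K 2), m.j = (glMap chevE6 (algebraMap _ _)).comp (Subgroup.subtype _) ∧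
      m.σ = stσ chk_gE6 (Or.inl rfl) (iterateFrobenius _ 2 1) := by
    suffices h : ∀ q, q = 2 ^ 1 → ∃ m : FM chevE6 (AlgebraicClosure K) 2 (twistedE6 K q), m.j = (glMap chevE6 (algebraMap _ _)).comp (Subgroup.subtype _) ∧
      m.σ = stσ chk_gE6 (Or.inl rfl) (iterateFrobenius _ 2 1) from h 2 rfl
    rintro _ rfl
    obtain ⟨m, -, -, h⟩ := exists_fm6 (n := 1) (locFin_of_algebraic (F := K) (k := AlgebraicClosure K) 2) (algebraMap _ _) hK
    exact ⟨m, h⟩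
  refine ⟨⟨m, fun r hr => (chk_gE6.emb ⟨r, hr⟩).2, fun r (hr : r < chevE6.nroots) t => ?_, fun y hy z => ?_⟩⟩
  · rw [e2, xN_lt _ hr]
    refine (stσ_x _ _ _ _ _).trans ((xN_val _ _ _).symm.trans ?_)
    rcases chk_gE6.ε_pm ⟨r, hr⟩ with h | h <;> simp [show gE6.ε r = _ from h, CharTwo.neg_eq, (O5.tf_spec.1 r hr).1, frobenius_def]
  obtain ⟨t, ht⟩ := Fi.scalar (ω := algebraMap K (AlgebraicClosure K) ω) (by rw [← map_pow, hω, map_add, map_one]) (M := y) fun s _ => by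
    have h2 : Fi.wd (ω : K) (Fi.gw s) ∈ twistedE6 K 2 := by
      rw [eq6 hφ hK', Fi.gw, Fi.wd_append, Fi.wd_append]
      have := Fi.blk_spec s (Fi.mem_gens s)
      exact mul_mem (mul_mem (Fi.mem_G1 hω hφ this.1) (Fi.mem_G1 hω hφ this.2)) (Fi.mem_G1 hω hφ this.1)
    have h3 : m.j ⟨_, h2⟩ = Fi.wd (algebraMap K (AlgebraicClosure K) ω) (Fi.gw s) := by
      rw [e1]
      refine (map_list_prod (glMap chevE6 _) _).trans (congrArg _ ((List.map_map ..).trans (List.map_congr_left fun c _ => ?_)))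
      by_cases h : c.1 < chevE6.nroots <;> simp [xN, h]
    exact h3 ▸ (hy _).symm.map (Units.coeHom _)
  exact Units.ext (by simp [ht])

variable {k : Type*} [Field k]
theorem tch_rc {D : ChevalleyDatum} [Good D] {A : Type*} [CommGroup A] (c : I D → A) (r : Φ D) : tch c (wt r) = tch (fun j => tch c (wt (sim j))) (rc r) := by
  have := tch_lin c (∑ j, LinearMap.smulRight (LinearMap.proj j) (wt (sim j))) (rc r)
  simp only [LinearMap.sum_apply, LinearMap.smulRight_apply, LinearMap.proj_apply, ← wt_eq_sum] at this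
  rw [← this]; congr 1; funext i; simp [Pi.single_apply]
theorem zpow_tch {D : ChevalleyDatum} {A : Type*} [CommGroup A] (c : I D → A) (n : ℤ) (μ : Λ D) : tch (c ^ n) μ = tch c μ ^ n := by
  simp [tch, ← Finset.prod_zpow, ← zpow_mul, mul_comm]
theorem hl_zpow {D : ChevalleyDatum} [Good D] (c : I D → kˣ) (n : ℤ) : (stS D k).hl (c ^ n) = (stS D k).hl c ^ n := map_zpow r3_st.hprod c n
/-- a torus element given by an integer vector -/
def cz (ζ : kˣ) (a : List ℤ) : I chevE6 → kˣ := fun i => ζ ^ lfun chevE6 a (Pi.single i 1)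
theorem tch_cz (ζ : kˣ) (a : List ℤ) (r : Φ chevE6) : tch (cz ζ a) (wt r) = ζ ^ (tab chevE6).lf a r := by rw [← lfun_wt]; exact tch_zpow_lin _ _ _
theorem zpow_iff {ζ : kˣ} {n : ℕ} (hζ : orderOf ζ = n) {a b : ℤ} : ζ ^ a = ζ ^ b ↔ a % n = b % n := by rw [zpow_eq_zpow_iff_modEq, hζ]; rfl
theorem mem_cz {ζ : kˣ} {n : ℕ} (hζ : orderOf ζ = n) {a : List ℤ} {r : Φ chevE6} : r ∈ Psi {cz ζ a} ↔ (tab chevE6).lf a r % n = 0 := by
  rw [mem_Psi_one, tch_cz, ← zpow_zero ζ, zpow_iff hζ, Int.zero_emod]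
theorem cz_pow {ζ : kˣ} {n : ℕ} (hζ : orderOf ζ = n) (a : List ℤ) : cz ζ a ^ n = 1 := funext fun i => by
  rw [Pi.pow_apply, cz, ← zpow_natCast, ← zpow_mul, Pi.one_apply, ← zpow_zero ζ, zpow_iff hζ]; simp
theorem ker3 {c : I chevE6 → kˣ} (h : c ∈ (actM (CA chevE6)).ker) : c ^ 3 = 1 := smithE6.pow_eq_one (e := 3) (by decide) h
theorem θ_hl_eq {c c' : I chevE6 → kˣ} : r3_ad.lift ((stS chevE6 k).hl c) = r3_ad.lift ((stS chevE6 k).hl c') ↔ ∀ j, tch c (wt (sim j)) = tch c' (wt (sim j)) := by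
  rw [← mul_inv_eq_one, ← map_inv, ← map_mul, ← r3_st.hl_inv, ← r3_st.hl_mul, cov_st.hl_mem_ker, mem_ker_iff]
  simp only [mul_tch, inv_tch, mul_inv_eq_one]
theorem eq_of_θ {c c' : I chevE6 → kˣ} {n : ℕ} (hn : Nat.Coprime 3 n) (h : c ^ n = 1) (h' : c' ^ n = 1) (e : ∀ j, tch c (wt (sim j)) = tch c' (wt (sim j))) : c = c' := by
  rw [← mul_inv_eq_one, ← pow_one (c * c'⁻¹), ← hn]
  exact pow_gcd_eq_one.2 ⟨ker3 (mem_ker_iff.2 fun j => by rw [mul_tch, inv_tch, e, mul_inv_cancel]), by rw [mul_pow, inv_pow, h, h', inv_one, mul_one]⟩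
theorem mem_CA_of_comm {c : I chevE6 → kˣ} {n : ℕ} (hn : Nat.Coprime 3 n) (h : c ^ n = 1) {y : chevE6.SteinbergGroup k}
    (hy : Commute (r3_ad.lift y) (r3_ad.lift ((stS chevE6 k).hl c))) : y ∈ (stS chevE6 k).CA {c} := by
  obtain ⟨s, hs⟩ := exists_pow_eq_self_of_coprime (x := c) (hn.coprime_dvd_right (orderOf_dvd_of_pow_eq_one h))
  rw [mem_CA_one, ← hs, r3_st.hl_pow]
  exact (mem_CA_one.1 (mem_CA_pow (fun _ => ker3) hy)).pow_right s

noncomputable def dotL (μ a : List ℤ) : ℤ := sumLt 6 fun i => μ.getD i 0 * a.getD i 0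
/-- the common part of the certificates -/
def Cm (T : Tab) (τ : ℕ → ℕ) (p : ℕ) (a1 a2 a' a'' : List ℤ) (l1 L L' : List ℕ) : Prop :=
  (∀ j < 6, ∃ r < 72, τ r = T.sim j) ∧ (∃ r < 72, T.lf a1 r % p = 0 ∧ T.lf a2 r % p ≠ 0) ∧
  (∀ r < 72, T.lf a1 (τ r) % p = T.lf a1 r * 2 % p ∧ T.lf a2 (τ r) % p = T.lf a2 r * 2 % p ∧
    (T.lf a' r % 1143 = 0 → T.lf a' (τ r) % 1143 = 0 ∧ T.lf a1 r % p = 0) ∧ (T.lf a2 r % p = 0 → T.lf a'' r % 1143 = 0) ∧ (T.lf a'' r + T.lf a' r) * 3 % 1143 ≠ 0) ∧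
  (∀ i ∈ l1, i < 6) ∧ (∀ i < 6, dotL (runL caE6L l1 (eL 6 i)) a' % 1143 = dotL (eL 6 i) a' % 1143) ∧
  L.Nodup ∧ (∀ r ∈ L, r < 72 ∧ 72 ≤ 2 * r ∧ T.lf a' r % 1143 = 0 ∧ ∀ s ∈ L, s ≠ T.ng r ∧ T.terms r s = []) ∧ L.map (fun r => runW T l1 (τ r)) = L' ∧ L'.Perm L
noncomputable instance decCm (T : Tab) (τ : ℕ → ℕ) (p : ℕ) (a1 a2 a' a'' : List ℤ) (l1 L L' : List ℕ) : Decidable (Cm T τ p a1 a2 a' a'' l1 L L') := by
  unfold Cm; infer_instance
theorem comm_xN {r s : ℕ} (hr : r < chevE6.nroots) (hs : s < chevE6.nroots) (h : s ≠ (tab chevE6).ng r ∧ (tab chevE6).terms r s = []) (t u : k) :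
    Commute ((stS chevE6 k).xN r t) ((stS chevE6 k).xN s u) := by
  rw [xN_lt _ hr, xN_lt _ hs]
  exact (stS _ k).commute_of_emod (p := 0) (.inl rfl) (fun e => h.1 (congrArg Fin.val e)) (by simp [show chevE6.commTerms r s = [] from h.2]) _ _

namespace Md
variable [CharP k 2] {G : Type*} [Group G] {τ : ℕ → ℕ} (m : Md k G τ)
theorem tφ (b : I chevE6 → kˣ) (r : Φ chevE6) : tch (m.φ b) (wt ⟨τ r, m.lt r r.2⟩) = tch b (wt r) ^ 2 := by
  have h := fun t => (congrArg m.σ (xN_val _ r t)).symm.trans ((m.σx r r.2 t).trans (xN_lt _ (m.lt r r.2) _))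
  have := congrArg m.σ (hl_conj_x' (S := stS chevE6 k) b r 1)
  rw [map_mul, map_mul, map_inv, m.σ_hl, h, h, hl_conj_x', one_pow, mul_one, mul_one] at this
  exact Units.ext (xR_inj (by simpa [cov_st _] using congrArg (fun g => (r3_ad.lift g).1) this))
theorem φ_cz (h : ∀ j < 6, ∃ r < 72, τ r = (tab chevE6).sim j) {ζ : kˣ} {n : ℕ} (hζ : orderOf ζ = n) {a : List ℤ}
    (ha : ∀ r < 72, (tab chevE6).lf a (τ r) % n = (tab chevE6).lf a r * 2 % n) (j : I chevE6) : tch (m.φ (cz ζ a)) (wt (sim j)) = tch (cz ζ a) (wt (sim j)) := by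
  obtain ⟨r, hr, e⟩ := h j j.2
  rw [show sim j = ⟨τ r, m.lt r hr⟩ from Fin.ext e.symm, m.tφ _ ⟨r, hr⟩, tch_cz, tch_cz, ← zpow_natCast, ← zpow_mul, zpow_iff hζ]; exact (ha r hr).symm
theorem exists_el {c : I chevE6 → kˣ} (h : m.φ c = c) : ∃ x, m.j x = r3_ad.lift ((stS chevE6 k).hl c) := (m.range _).2 ⟨_, by rw [m.σ_hl, h], rfl⟩
variable [IsAlgClosed k]
theorem isConj {c c' : I chevE6 → kˣ} (h : m.φ c = c) (h' : m.φ c' = c') {u : W chevE6} (e : wT u c = c') {x x' : G} (hx : m.j x = r3_ad.lift ((stS chevE6 k).hl c))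
    (hx' : m.j x' = r3_ad.lift ((stS chevE6 k).hl c')) : IsConj x x' := by
  have k : ∀ {c}, m.φ c = c → (stS chevE6 k).hl c ∈ m.Fix := fun h => m.mem_Fix.2 (by rw [m.σ_hl, h])
  rw [m.inj (hx.trans (m.j_π ⟨_, k h⟩).symm), m.inj (hx'.trans (m.j_π ⟨_, k h'⟩).symm)]
  exact m.π.map_isConj (m.isConj_of_conj (x := ⟨_, k h⟩) (y := ⟨_, k h'⟩) (g := 1) (c := c) (by rw [one_mul, inv_one, mul_one])
    ((r3_st.rep_conj_hl (rep_nr u) c).trans (congrArg _ e)))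
include m in
theorem exists_tw {l : List ℕ} {τ' : ℕ → ℕ} (h : (∀ i ∈ l, i < 6) ∧ ∀ r < 72, runW (tab chevE6) l (τ r) = τ' r) : Nonempty (Md k G τ') := by
  obtain ⟨l, rfl⟩ := exists_map_val (n := chevE6.rank) h.1
  obtain ⟨g, hg⟩ := m.exists_lang ((stS chevE6 k).nw l)⁻¹
  refine ⟨⟨m.tw (rep_nw l).inv hg, fun r hr => ?_, fun r hr t => ?_, fun y hy z => ?_⟩⟩
  · rw [← h.2 r hr, runW_eq l ⟨_, m.lt r hr⟩]; exact Fin.is_lt _
  · change twE _ m.σ _ = _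
    rw [twE_apply, m.σx r hr, inv_inv, nw_conj_xN _ _ (m.lt r hr), h.2 r hr]
  · simpa [mul_assoc] using (m.sc (r3_ad.lift g * y * (r3_ad.lift g)⁻¹) (fun a => by simpa [FM.tw, mul_assoc] using (hy a).conj (r3_ad.lift g)) (r3_ad.lift g * z * (r3_ad.lift g)⁻¹)).conj (r3_ad.lift g)⁻¹

variable {p : ℕ} {a1 a2 a' a'' : List ℤ} {l1 L L' : List ℕ} (h : Cm (tab chevE6) τ p a1 a2 a' a'' l1 L L') {ζ η : kˣ} (hζ : orderOf ζ = p) (hη : orderOf η = 1143)
include h hη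
theorem exists_four {a : ℕ → k} (ha : L'.map a = L.map (a · ^ 2)) (h0 : ∃ r ∈ L, a r ≠ 0) (h1 : ∃ r ∈ L, a r ≠ 1) :
    ∃ u v : m.Fix, u.1 ∈ (stS chevE6 k).gen (Psi {cz η a'}) ∧ v.1 ∈ (stS chevE6 k).gen (Psi {cz η a'}) ∧ u * u = 1 ∧ v * v = 1 ∧ u * v * (u * v) = 1 ∧
      u ≠ 1 ∧ v ≠ 1 ∧ u * v ≠ 1 := by
  obtain ⟨-, -, s1, s2, s3, s4, s5, s6, s7⟩ := h
  obtain ⟨l, rfl⟩ := exists_map_val (n := chevE6.rank) s2
  have hd := m.lf.isOfFinOrder (cz η a')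
  obtain ⟨g, hg, e⟩ := lang m.lf m.fr (conn_units hd) (Set.finite_singleton _) (fun x hx => (sup_le (b := (stS _ k).H) ((stS _ k).gen_le.2 fun r hr t => by
      change m.σ _ ∈ (stS chevE6 k).CA {cz η a'}
      rw [← xN_val, m.σx r r.2]
      exact gen_le_CA ((stS _ k).xN_mem (fun _ => (mem_cz hη).2 ((s1 r r.2).2.2.1 ((mem_cz hη).1 hr)).1) _)) (fun y hy => by
      obtain ⟨b, rfl⟩ := r3_st.exists_hl hy
      change m.σ _ ∈ (stS chevE6 k).CA {cz η a'}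
      rw [m.σ_hl]; exact r3_st.H_le_CA _ (r3_st.range_hprod.le ⟨_, rfl⟩)) : _ ≤ ((stS _ k).CA _).comap m.σ) (CA_le hd hx))
    (r3_st.rep_mem_CA (rep_nw l).inv fun c hc => funext fun i => by
      have k1 : ∀ μ, lfun chevE6 a' (toΛ _ μ) = dotL μ a' := fun μ => by
        rw [dotL, sumLt_eq, lfun, Fintype.linearCombination_apply]; rfl
      rw [show c = _ from hc]
      change tch _ (wL (wp l)⁻¹⁻¹ _) = _
      rw [inv_inv, cz, ← toΛ_eL, ← (toΛ_runL hAE6 (length_eL _ _) l).2, show tch (cz η a') _ = _ from tch_zpow_lin _ _ _, zpow_iff hη, k1, k1]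
      exact s3 i i.2)
  let F (L : List ℕ) (b : ℕ → k) := (L.map fun r => (stS chevE6 k).xN r (b r)).prod
  have c1 : ∀ r ∈ L, ∀ s ∈ L, ∀ t u, Commute ((stS chevE6 k).xN r t) ((stS chevE6 k).xN s u) := fun r hr s hs =>
    comm_xN (s5 r hr).1 (s5 s hs).1 ((s5 r hr).2.2.2 s hs)
  have f1 : ∀ b b', F L b * F L b' = F L (b + b') := fun b b' => by
    clear s4 s5 s6 s7 ha h0 h1
    induction L with
    | nil => simp [F]
    | cons r L ih =>
      have := ih fun r hr s hs => c1 r (by simp [hr]) s (by simp [hs])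
      simp only [F, List.map_cons, List.prod_cons, Pi.add_apply, xN_add] at this ⊢
      rw [← this, mul_assoc, mul_assoc, ← mul_assoc _ ((stS _ k).xN r (b' r)), ← (Commute.list_prod_right _ _ (List.forall_mem_map.2 fun s hs =>
        c1 r (by simp) s (by simp [hs]) _ _)).eq, mul_assoc]
  have f2 : ∀ b, F L b = 1 → ∀ r ∈ L, b r = 0 := fun b hb => by
    obtain ⟨L, rfl⟩ := exists_lift (D := chevE6) fun r hr => (s5 r hr).1
    refine List.forall_mem_map.2 (cov_st.prod_inj (f := fl) (t' := 0) (.of_map _ s4) (fun r hr => pos_fl r (s5 r (List.mem_map_of_mem hr)).2.1) ?_)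
    rw [prod_zero, ← hb, ← pN_map]; simp [F, pN, Function.comp_def]
  have f3 : ∀ b, L'.map b = L.map (b · ^ 2) → g * F L b * g⁻¹ ∈ m.Fix := fun b hb => by
    have : twE ((stS chevE6 k).nw l)⁻¹ m.σ (F L b) = F L' b := by
      rw [← s6, List.map_map, List.map_inj_left] at hb
      rw [map_list_prod, ← s6, List.map_map]
      refine congrArg _ (.trans (List.map_congr_left fun r hr => ?_) (List.map_map ..).symm)
      rw [Function.comp, twE_apply, m.σx r (s5 r hr).1, inv_inv, nw_conj_xN _ _ (m.lt r (s5 r hr).1), ← hb r hr]; rfl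
    rw [show F L' b = F L b from (s7.map _).prod_eq' (List.pairwise_map.2 (List.pairwise_of_forall_mem_list fun r hr s hs =>
      c1 r (s7.subset hr) s (s7.subset hs) _ _)), twE_apply, e] at this
    rw [m.mem_Fix, map_mul, map_mul, map_inv]; conv_rhs => rw [← this]
    group
  have f4 : ∀ b, g * F L b * g⁻¹ ∈ (stS chevE6 k).gen (Psi {cz η a'}) := fun b => conj_mem_of_normalizer (sup_le le_normalizer (H_le_normalizer (S := stS chevE6 k) _) (CA_le hd hg))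
    (Subgroup.list_prod_mem _ (List.forall_mem_map.2 fun r hr => (stS _ k).xN_mem (fun _ => (mem_cz hη).2 (s5 r hr).2.2.1) _))
  have f5 : ∀ b b', g * F L b * g⁻¹ * (g * F L b' * g⁻¹) = g * F L (b + b') * g⁻¹ := fun b b' => by rw [← f1]; group
  have f6 : ∀ b, g * F L (b + b) * g⁻¹ = 1 := fun b => by simp [F, CharTwo.add_self_eq_zero]
  have f7 : ∀ b, g * F L b * g⁻¹ = 1 → ∀ r ∈ L, b r = 0 := fun b hb => f2 b (by simpa using hb)
  obtain ⟨r, hr, h0⟩ := h0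
  obtain ⟨s, hs, h1⟩ := h1
  refine ⟨⟨_, f3 a ha⟩, ⟨_, f3 (fun _ => 1) (by simpa using s7.length_eq)⟩, f4 _, f4 _, Subtype.ext ((f5 _ _).trans (f6 _)), Subtype.ext ((f5 _ _).trans (f6 _)),
    Subtype.ext (by simp only [coe_mul, f5]; exact f6 _), fun e => h0 (f7 _ (congrArg Subtype.val e) r hr), fun e => one_ne_zero (f7 _ (congrArg Subtype.val e) r hr),
    fun e => h1 (CharTwo.add_eq_zero.1 (f7 _ ((f5 _ _).symm.trans (congrArg Subtype.val e)) s hs))⟩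
omit [IsAlgClosed k] in
include m in
theorem mem_H {y : chevE6.SteinbergGroup k} (hy : Commute (r3_ad.lift y) (r3_ad.lift ((stS chevE6 k).hl (cz η a'' * cz η a')))) : y ∈ (stS chevE6 k).H :=
  mem_H_of_reg (m.lf.isOfFinOrder _) (fun r e => (h.2.2.1 r r.2).2.2.2.2 (by
    rwa [pow_tch, mul_tch, tch_cz, tch_cz, ← zpow_add, ← zpow_natCast, ← zpow_mul, ← zpow_zero η, zpow_iff hη] at e)) (mem_CA_pow (fun _ => ker3) hy)
include hζ
omit [IsAlgClosed k] in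
theorem eq_one (hp : p.Coprime 3) {x : G} (e : m.j x = r3_ad.lift ((stS chevE6 k).hl (cz ζ a2))) {w : m.Fix} (hw : w.1 ∈ (stS chevE6 k).gen (Psi {cz η a'}))
    (ww : w * w = 1) (hc : Commute (m.π w) x) : w = 1 := by
  have b1 := hc.map m.j
  rw [m.j_π, e] at b1
  have b2 := mem_CA_one.1 (CA_mono (c' := cz η a'') (m.lf.isOfFinOrder _) (fun r hr => (mem_cz hη).2 ((h.2.2.1 r r.2).2.2.2.1 ((mem_cz hζ).1 hr)))
    (mem_CA_of_comm hp.symm (cz_pow hζ _) b1))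
  obtain ⟨b, hb⟩ := r3_st.exists_hl (m.mem_H h hη (y := w) (.map (by rw [r3_st.hl_mul]; exact b2.mul_right (mem_CA_one.1 (gen_le_CA hw))) _))
  have b3 : b * b = 1 := hi_st k (by rw [map_mul, map_one, r3_st.hprod_apply, ← hb]; exact congrArg Subtype.val ww)
  rw [show b = 1 from funext fun i => Units.ext (by simpa [mul_self_eq_one_iff, CharTwo.neg_eq] using congrArg Units.val (congrFun b3 i)), r3_st.hl_one] at hb
  exact Subtype.ext hb
omit [IsAlgClosed k] hη in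
theorem not_mem {x1 x2 : G} (e1 : m.j x1 = r3_ad.lift ((stS chevE6 k).hl (cz ζ a1))) (e2 : m.j x2 = r3_ad.lift ((stS chevE6 k).hl (cz ζ a2))) : x2 ∉ zpowers x1 := by
  rintro ⟨i, e⟩
  obtain ⟨r, hr, b1, b2⟩ := h.2.1
  have := congrArg m.j e
  rw [map_zpow, e1, e2, ← map_zpow, ← hl_zpow, ← mul_inv_eq_one, ← map_inv, ← map_mul, ← r3_st.hl_inv, ← r3_st.hl_mul, cov_st.hl_mem_ker] at this
  lift r to Φ chevE6 using hr
  have := tch_wt_of_ker this r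
  rw [mul_tch, inv_tch, zpow_tch, mem_Psi_one.1 ((mem_cz (r := r) hζ).2 b1), one_zpow, one_mul, inv_eq_one] at this
  exact b2 ((mem_cz (r := r) hζ).1 (mem_Psi_one.2 this))
omit [IsAlgClosed k] hη h in
theorem pow_eq_one {x : G} {a : List ℤ} (e : m.j x = r3_ad.lift ((stS chevE6 k).hl (cz ζ a))) : x ^ p = 1 :=
  m.inj (by rw [map_pow, e, ← map_pow, ← r3_st.hl_pow, cz_pow hζ, r3_st.hl_one, map_one, map_one])
omit [IsAlgClosed k] hη h hζ in
theorem comm {x y : G} {c d : I chevE6 → kˣ} (e1 : m.j x = r3_ad.lift ((stS chevE6 k).hl c)) (e2 : m.j y = r3_ad.lift ((stS chevE6 k).hl d)) : Commute x y :=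
  m.inj (by rw [map_mul, map_mul, e1, e2, ← map_mul, ← map_mul, ← r3_st.hl_mul, ← r3_st.hl_mul, mul_comm c])
theorem core [IsSimpleGroup G] (hp : p.Prime) (h3 : 3 < p) {a : ℕ → k} (ha : L'.map a = L.map (a · ^ 2)) (h0 : ∃ r ∈ L, a r ≠ 0) (h1 : ∃ r ∈ L, a r ≠ 1) {x1 x2 : G}
    (e1 : m.j x1 = r3_ad.lift ((stS chevE6 k).hl (cz ζ a1))) (e2 : m.j x2 = r3_ad.lift ((stS chevE6 k).hl (cz ζ a2))) {P : Subgroup G} (m2 : x2 ∈ P)
    (hP : ∀ y ∈ P, ∃ i j : ℤ, y = x1 ^ i * x2 ^ j) {Y : Set (GL chevE6.Idx k)} (y1 : ∀ n ∈ normalizer (P : Set G), ∀ y ∈ Y, m.j n * y * (m.j n)⁻¹ ∈ Y)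
    (y2 : ∀ x ∈ P, ∀ y ∈ Y, Commute (m.j x) y) (y3 : ∃ y ∈ Y, ∃ z, ¬ Commute y z)
    (y4 : ∀ v ∈ (stS chevE6 k).gen (Psi {cz η a'}), ∀ y ∈ Y, Commute (r3_ad.lift v) y) : ¬ IsCoatom (normalizer (P : Set G)) := by
  obtain ⟨u, v, k1, k2, k3, k4, k5, k6, k7, k8⟩ := m.exists_four h hη ha h0 h1
  have hi := m.not_mem h hζ e1 e2
  have c1 : ∀ w : m.Fix, w.1 ∈ (stS chevE6 k).gen (Psi {cz η a'}) → Commute (m.π w) x1 := fun w hw => m.inj (by
    have := (mem_CA_one.1 (gen_le_CA ((stS _ k).gen_mono (Q := Psi {cz ζ a1}) (fun r hr => (mem_cz hζ).2 ((h.2.2.1 r r.2).2.2.1 ((mem_cz hη).1 hr)).2) hw))).map r3_ad.lift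
    rw [map_mul, map_mul, m.j_π, e1, this.eq])
  have c2 := fun w => m.eq_one h hζ hη ((Nat.coprime_primes hp Nat.prime_three).2 h3.ne') e2 (w := w)
  obtain ⟨y, hy, z, hz⟩ := y3
  refine not_coatom m.j (fun e => hi (by rw [mem_bot.1 (e.le m2)]; exact one_mem _)) y1 y2 ⟨y, hy, not_forall.1 fun e => hz (m.sc y e z)⟩ ?_
  by_contra e
  have n : ∀ w : m.Fix, w.1 ∈ (stS chevE6 k).gen (Psi {cz η a'}) → m.π w ∈ normalizer (P : Set G) := fun w hw => by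
    by_contra e'; exact e ⟨_, fun y hy => by rw [m.j_π]; exact y4 _ hw y hy, e'⟩
  rcases four hp (by omega) m2 hP (m.comm e1 e2) (m.pow_eq_one hζ e1) (m.pow_eq_one hζ e2) hi (n u k1) (n v k2)
    (c1 u k1) (c1 v k2) (by rw [← map_mul, k3, map_one]) (by rw [← map_mul, k4, map_one]) (by rw [← map_mul, ← map_mul, k5, map_one]) with b | b | b
  exacts [k6 (c2 u k1 k3 b), k7 (c2 v k2 k4 b), k8 (c2 _ (mul_mem k1 k2) k5 (by rwa [map_mul]))]
end Md

end H12.Loc
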