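import Cfsg.Agent.H12.Loc2

/-! Normalisers of toral `p`-subgroups of `²E₆(2)` which normalise a diagonal subgroup of order `3` (`Md.caseD`) or a subsystem subgroup (`Md.caseA`). -/

set_option autoImplicit false

namespace H12.Loc
open Cfsg.Lie StSys Subgroup O5

def Dl1 (T : Tab) (τ : ℕ → ℕ) (p : ℕ) (a1 a2 a' β : List ℤ) : Prop := (∀ j < 6, val β (τ (T.sim j)) % 3 = β.getD j 0 * 2 % 3) →
  (∀ r < 72, T.lf a1 r % p = 0 → T.lf a2 r % p = 0 → val β r % 3 = 0) → ∀ r < 72, T.lf a' r % 1143 = 0 → val β r % 3 = 0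
noncomputable instance decDl1 (T : Tab) (τ : ℕ → ℕ) (p : ℕ) (a1 a2 a' β : List ℤ) : Decidable (Dl1 T τ p a1 a2 a' β) := by unfold Dl1; infer_instance
def Dl (T : Tab) (τ : ℕ → ℕ) (p : ℕ) (a1 a2 a' ad : List ℤ) : Prop := (∃ r < 72, T.lf ad r % 9 ≠ 0) ∧
  (∀ r < 72, T.lf ad r * 3 % 9 = 0 ∧ T.lf ad (τ r) % 9 = T.lf ad r * 2 % 9 ∧ (T.lf a2 r % p = 0 → T.lf ad r % 9 = 0)) ∧
  ∀ a < 3, ∀ b < 3, ∀ c < 3, ∀ d < 3, ∀ e < 3, ∀ f < 3, Dl1 T τ p a1 a2 a' [(a : ℕ), (b : ℕ), (c : ℕ), (d : ℕ), (e : ℕ), (f : ℕ)]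
noncomputable instance decDl (T : Tab) (τ : ℕ → ℕ) (p : ℕ) (a1 a2 a' ad : List ℤ) : Decidable (Dl T τ p a1 a2 a' ad) := by unfold Dl; infer_instance

variable {k : Type*} [Field k]
theorem Dl.psi [IsAlgClosed k] [CharP k 2] {τ : ℕ → ℕ} (lt : ∀ r < 72, τ r < chevE6.nroots) {p : ℕ} {a1 a2 a' ad : List ℤ} (h : Dl (tab chevE6) τ p a1 a2 a' ad)
    {b : I chevE6 → kˣ} (h1 : ∀ r, tch b (wt r) ^ 3 = 1) (h2 : ∀ r : Φ chevE6, tch b (wt ⟨τ r, lt r r.2⟩) = tch b (wt r) ^ 2)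
    (h3 : ∀ r : Φ chevE6, (tab chevE6).lf a1 r % p = 0 → (tab chevE6).lf a2 r % p = 0 → tch b (wt r) = 1) {r : Φ chevE6} (hr : (tab chevE6).lf a' r % 1143 = 0) :
    tch b (wt r) = 1 := by
  obtain ⟨ω, hω, hω'⟩ := exists_prim (k := k) 2 (N := 3) (by decide)
  choose s hs using fun j : Fin 6 => hω' _ (h1 (sim (D := chevE6) j))
  have t1 : ∀ j : Fin 6, ([((s 0 % 3 : ℕ) : ℤ), (s 1 % 3 : ℕ), (s 2 % 3 : ℕ), (s 3 % 3 : ℕ), (s 4 % 3 : ℕ), (s 5 % 3 : ℕ)] : List ℤ).getD j 0 = (s j % 3 : ℕ) :=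
    fun j => by fin_cases j <;> rfl
  have t2 := h.2.2 _ (Nat.mod_lt (s 0) three_pos) _ (Nat.mod_lt (s 1) three_pos) _ (Nat.mod_lt (s 2) three_pos) _ (Nat.mod_lt (s 3) three_pos) _
    (Nat.mod_lt (s 4) three_pos) _ (Nat.mod_lt (s 5) three_pos)
  generalize ([((s 0 % 3 : ℕ) : ℤ), (s 1 % 3 : ℕ), (s 2 % 3 : ℕ), (s 3 % 3 : ℕ), (s 4 % 3 : ℕ), (s 5 % 3 : ℕ)] : List ℤ) = β at t1 t2
  have t3 : ∀ j : I chevE6, tch b (wt (sim j)) = ω ^ β.getD j 0 := fun j => by rw [t1 j, zpow_natCast, ← hω, pow_mod_orderOf, hs j]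
  have t4 : ∀ r : Φ chevE6, tch b (wt r) = ω ^ val β r := fun r => by
    rw [tch_rc, funext t3, tch, val, sumLt_eq, zpow_sum']
    exact Finset.prod_congr rfl fun j _ => by rw [← zpow_mul, mul_comm]; rfl
  have t5 : ∀ r : Φ chevE6, tch b (wt r) = 1 ↔ val β r % 3 = 0 := fun r => by rw [t4, ← zpow_zero ω, zpow_iff hω]; rfl
  refine (t5 r).2 (t2 (fun j hj => ?_) (fun r hr a b => (t5 ⟨r, hr⟩).1 (h3 _ a b)) r r.2 hr)
  have := h2 (sim ⟨j, hj⟩)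
  rwa [t3, t4, ← zpow_natCast, ← zpow_mul, zpow_iff hω] at this

namespace Md
variable [CharP k 2] {G : Type*} [Group G] {τ : ℕ → ℕ} (m : Md k G τ) {P : Subgroup G}
theorem conj_comm {n : G} (hn : n ∈ normalizer (P : Set G)) {z : GL chevE6.Idx k} (h : ∀ x ∈ P, Commute (m.j x) z) : ∀ x ∈ P, Commute (m.j x) (m.j n * z * (m.j n)⁻¹) :=
  fun x hx => by simpa [mul_assoc] using (h _ (conj_mem_of_normalizer' hn hx)).conj (m.j n)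
variable {p : ℕ} {a1 a2 a' a'' : List ℤ} {l1 L L' : List ℕ} {ζ η : kˣ} {x1 x2 : G} (e1 : m.j x1 = r3_ad.lift ((stS chevE6 k).hl (cz ζ a1)))
  (e2 : m.j x2 = r3_ad.lift ((stS chevE6 k).hl (cz ζ a2))) (hP : ∀ y ∈ P, ∃ i j : ℤ, y = x1 ^ i * x2 ^ j)
include e1 e2
theorem j_zpow (i j : ℤ) : m.j (x1 ^ i * x2 ^ j) = r3_ad.lift ((stS chevE6 k).hl (cz ζ a1 ^ i * cz ζ a2 ^ j)) := by
  rw [map_mul, map_zpow, map_zpow, e1, e2, r3_st.hl_mul, hl_zpow, hl_zpow, map_mul, map_zpow, map_zpow]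
include hP
theorem comm_hl (c : I chevE6 → kˣ) : ∀ x ∈ P, Commute (m.j x) (r3_ad.lift ((stS chevE6 k).hl c)) := fun x hx => by
  obtain ⟨i, j, rfl⟩ := hP x hx
  rw [m.j_zpow e1 e2]
  exact .map (by rw [Commute, SemiconjBy, ← r3_st.hl_mul, ← r3_st.hl_mul, mul_comm c]) _
theorem comm_x (hζ : orderOf ζ = p) {r : Φ chevE6} (h1 : (tab chevE6).lf a1 r % p = 0) (h2 : (tab chevE6).lf a2 r % p = 0) :
    ∀ x ∈ P, Commute (m.j x) (r3_ad.lift ((stS chevE6 k).x r 1)) := fun x hx => by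
  obtain ⟨i, j, rfl⟩ := hP x hx
  rw [m.j_zpow e1 e2]
  refine (mem_CA_one.1 (gen_le_CA ((stS _ k).x_mem (mem_Psi_one.2 ?_) 1))).symm.map _
  rw [mul_tch, zpow_tch, zpow_tch, mem_Psi_one.1 ((mem_cz hζ).2 h1), mem_Psi_one.1 ((mem_cz hζ).2 h2), one_zpow, one_zpow, one_mul]

variable [IsAlgClosed k] [IsSimpleGroup G] (h : Cm (tab chevE6) τ p a1 a2 a' a'' l1 L L') (hζ : orderOf ζ = p) (hp : p.Prime) (h3 : 3 < p) {a : ℕ → k}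
  (ha : L'.map a = L.map (a · ^ 2)) (h0 : ∃ r ∈ L, a r ≠ 0) (h1 : ∃ r ∈ L, a r ≠ 1) (m2 : x2 ∈ P)
include h hζ hp h3 ha h0 h1 m2
theorem caseD {ad : List ℤ} (hD : Dl (tab chevE6) τ p a1 a2 a' ad) : ¬ IsCoatom (normalizer (P : Set G)) := by
  obtain ⟨η, hη, -⟩ := exists_prim (k := k) 2 (N := 1143) (by decide)
  obtain ⟨ν, hν, -⟩ := exists_prim (k := k) 2 (N := 9) (by decide)
  refine m.core h hζ hη hp h3 ha h0 h1 e1 e2 m2 hP (Y := {y | (∃ b, r3_ad.lift (m.σ b) = r3_ad.lift b ∧ r3_ad.lift b = y) ∧ y ^ 3 = 1 ∧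
    ∀ c, (∀ x ∈ P, Commute (m.j x) (r3_ad.lift c)) → Commute (r3_ad.lift c) y}) ?_ ?_ ?_ ?_
  · rintro n hn _ ⟨⟨b, b1, rfl⟩, b2, b3⟩
    obtain ⟨g, g1, g2⟩ := (m.range _).1 ⟨n, rfl⟩
    refine ⟨⟨g * b * g⁻¹, by simp only [map_mul, map_inv, g1, b1], by simp only [map_mul, map_inv, g2]⟩, by rw [conj_pow, b2, mul_one, mul_inv_cancel], fun c hc => ?_⟩
    have := (b3 (g⁻¹ * c * g) (by simpa [g2] using m.conj_comm (inv_mem hn) hc)).conj (m.j n)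
    simpa [g2, mul_assoc] using this
  · rintro x hx y ⟨-, -, b3⟩
    obtain ⟨i, j, rfl⟩ := hP x hx
    rw [m.j_zpow e1 e2]; exact b3 _ (m.comm_hl e1 e2 hP _)
  · obtain ⟨r, hr, b1⟩ := hD.1
    lift r to Φ chevE6 using hr
    refine ⟨r3_ad.lift ((stS chevE6 k).hl (cz ν ad)), ⟨⟨_, by rw [m.σ_hl]; exact θ_hl_eq.2 (m.φ_cz h.1 hν fun r hr => (hD.2.1 r hr).2.1), rfl⟩, ?_, fun c hc => ?_⟩, _,
      fun e => b1 ((mem_cz hν).1 (mem_Psi_one.2 (tch_of_comm (r := r) e)))⟩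
    · rw [← map_pow, ← r3_st.hl_pow, cov_st.hl_mem_ker, mem_ker_iff]
      intro j; rw [pow_tch, tch_cz, ← zpow_natCast, ← zpow_mul, ← zpow_zero ν, zpow_iff hν]; exact (hD.2.1 _ (sim j).2).1
    · exact (mem_CA_one.1 (CA_mono (m.lf.isOfFinOrder _) (fun r hr => (mem_cz hν).2 ((hD.2.1 r r.2).2.2 ((mem_cz hζ).1 hr)))
        (mem_CA_of_comm ((Nat.coprime_primes Nat.prime_three hp).2 h3.ne) (cz_pow hζ _) (e2 ▸ (hc _ m2).symm)))).map _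
  rintro v hv _ ⟨⟨b, b1, rfl⟩, b2, b3⟩
  obtain ⟨b, rfl⟩ := r3_st.exists_hl (m.mem_H h hη (b3 _ (m.comm_hl e1 e2 hP _)).symm)
  rw [← map_pow, ← r3_st.hl_pow, cov_st.hl_mem_ker] at b2
  rw [m.σ_hl, θ_hl_eq] at b1
  exact (mem_CA_one.1 (gen_le_CA ((stS _ k).gen_mono (fun r hr => mem_Psi_one.2 (hD.psi m.lt (fun r => pow_tch b 3 _ ▸ tch_wt_of_ker b2 r)
    (fun r => by rw [← m.tφ, tch_rc (m.φ b), funext b1, ← tch_rc]) (fun r c1 c2 => tch_of_comm (b3 _ (m.comm_x e1 e2 hP hζ c1 c2)).symm) ((mem_cz hη).1 hr))) hv))).map _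
theorem caseA (hA : (∃ r < 72, (tab chevE6).lf a1 r % p = 0 ∧ (tab chevE6).lf a2 r % p = 0) ∧ ∀ r < 72, (tab chevE6).lf a2 r % p = 0 →
    ∀ s < 72, (tab chevE6).lf a' s % 1143 = 0 → s ≠ (tab chevE6).ng r ∧ (tab chevE6).terms r s = []) : ¬ IsCoatom (normalizer (P : Set G)) := by
  obtain ⟨η, hη, -⟩ := exists_prim (k := k) 2 (N := 1143) (by decide)
  refine m.core h hζ hη hp h3 ha h0 h1 e1 e2 m2 hP (Y := {y | (∃ b : chevE6.SteinbergGroup k, r3_ad.lift b = y) ∧ y * y = 1 ∧ ∀ x ∈ P, Commute (m.j x) y}) ?_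
    (fun x hx y hy => hy.2.2 x hx) ?_ ?_
  · rintro n hn _ ⟨⟨b, rfl⟩, b2, b3⟩
    obtain ⟨g, -, g2⟩ := (m.range _).1 ⟨n, rfl⟩
    exact ⟨⟨g * b * g⁻¹, by simp only [map_mul, map_inv, g2]⟩, by rw [← sq, conj_pow, sq, b2, mul_one, mul_inv_cancel], m.conj_comm hn b3⟩
  · obtain ⟨r, hr, b1, b2⟩ := hA.1
    lift r to Φ chevE6 using hr
    refine ⟨r3_ad.lift ((stS chevE6 k).x r 1), ⟨⟨_, rfl⟩, by rw [← map_mul, ← (stS _ k).add, CharTwo.add_self_eq_zero, x_zero, map_one], m.comm_x e1 e2 hP hζ b1 b2⟩,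
      r3_ad.lift ((stS chevE6 k).hl ((cz η a'' * cz η a') ^ 3)), fun e => (h.2.2.1 r r.2).2.2.2.2 ?_⟩
    have := tch_of_comm e.symm
    rwa [pow_tch, mul_tch, tch_cz, tch_cz, ← zpow_add, ← zpow_natCast, ← zpow_mul, ← zpow_zero η, zpow_iff hη] at this
  rintro v hv _ ⟨⟨b, rfl⟩, b2, b3⟩
  have k1 : ∀ y ∈ (stS chevE6 k).gen (Psi {cz ζ a2}), Commute v y := fun y hy => ((stS _ k).gen_le (K := centralizer {v})).2 (fun r hr t => mem_centralizer_singleton_iff.2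
    (((stS _ k).gen_le (K := centralizer {(stS _ k).x r t})).2 (fun s hs u => mem_centralizer_singleton_iff.2 (by
      simpa using (comm_xN r.2 s.2 (hA.2 r r.2 ((mem_cz hζ).1 hr) s s.2 ((mem_cz hη).1 hs)) t u).symm.eq)) hv _ rfl)) hy _ rfl
  obtain ⟨y, hy, z, hz, rfl⟩ := mem_gen_sup_H.1 (CA_le (m.lf.isOfFinOrder _) (mem_CA_of_comm ((Nat.coprime_primes Nat.prime_three hp).2 h3.ne) (cz_pow hζ _)
    (e2 ▸ (b3 _ m2).symm)))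
  have k2 := (k1 _ (mul_mem hy (conj_mem_of_normalizer (H_le_normalizer _ hz) hy))).inv_right.map r3_ad.lift
  obtain ⟨z, rfl⟩ := r3_st.exists_hl hz
  obtain ⟨s, hs⟩ := exists_pow_eq_self_of_coprime (coprime_orderOf 2 (m.lf.isOfFinOrder z)).symm
  rw [map_inv, inv_eq_of_mul_eq_one_right (b := r3_ad.lift ((stS chevE6 k).hl z) ^ 2) (by simpa [sq, mul_assoc] using b2)] at k2
  rw [map_mul, ← hs, r3_st.hl_pow, r3_st.hl_pow, map_pow, map_pow]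
  exact ((k1 y hy).map _).mul_right (k2.pow_right s)
end Md

end H12.Loc
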