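import Cfsg.Agent.H12.Loc3

/-! Certificates for the `p`-local subgroups of `²E₆(2)` with `p > 5`. -/

set_option autoImplicit false

namespace H12.Loc
open Cfsg.Lie StSys Subgroup O5

/-- the data of a twist `l` with root permutation `τ` -/
def Tw (T : Tab) (l : List ℕ) (τ : ℕ → ℕ) : Prop := (∀ i ∈ l, i < 6) ∧ ∀ r < 72, runW T l (gE6.ρ r) = τ r
noncomputable instance decTw (T : Tab) (l : List ℕ) (τ : ℕ → ℕ) : Decidable (Tw T l τ) := by unfold Tw; infer_instance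
noncomputable def t19 : ℕ → ℕ := fld 0x45474237463f3444263c2d31413629243e3343253b2c20392a18304035282e3d321c380d3a0f2b150a191f1207172f1d0e271b0c22041409231e1106161a0b210313080110050002 8
noncomputable def t17 : ℕ → ℕ := fld 0x45474246373f44343c262d41313629243e43333b252c39202a18403035283d2e32381c3a0d2b0f15190a1f1217072f1d270e1b220c140409231e1116061a210b1303081001050002 8
noncomputable def t13 : ℕ → ℕ := fld 0x4247374546313f4126293c3436442d24303e4025283b1c1d38153335432c2e2f3d0d0e2027393a0a18191b041214320f2a2b0c1f22070917231a0311130b1e210608160102100005 8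
noncomputable def t11 : ℕ → ℕ := fld 0x47454237463f3444314136263c2d29243e33433040352e3d322f253b2c2820392a1c380d3a0f2b1d0e271f1b0c2218150a19120717041409231e1a0b211106160313080110050200 8
noncomputable def t7 : ℕ → ℕ := fld 0x263129374224343f2d3c453641474644040d1c0a1525071220180e1d30280c1b2e09140f38333e192c3b1f172a392f27354022323d2b3a430301000611020b1a08132305101e1621 8
theorem c19 : Tw (tab chevE6) [0, 1, 2, 3] t19 ∧ Cm (tab chevE6) t19 19 [] [10, 8, 3, 12, 6, 1] [0, 381, 762, 0, 0, 381] [99, 63, 36, 99, 27, 81] [3] [55, 64, 68] [64, 68, 55] ∧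
    Dl (tab chevE6) t19 19 [] [10, 8, 3, 12, 6, 1] [0, 381, 762, 0, 0, 381] [0, 3, 6, 0, 0, 3] := by rw [tabE6_eq]; decide +kernel
theorem c17 : Tw (tab chevE6) [1, 2, 3] t17 ∧ Cm (tab chevE6) t17 17 [] [0, 15, 9, 14, 1, 0] [1134, 0, 567, 0, 576, 9] [0, 54, 90, 27, 54, 99] [3, 1, 2] [39, 44] [39, 44] ∧
    Dl (tab chevE6) t17 17 [] [0, 15, 9, 14, 1, 0] [1134, 0, 567, 0, 576, 9] [8, 0, 4, 0, 5, 1] := by rw [tabE6_eq]; decide +kernel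
theorem c13 : Tw (tab chevE6) [0, 1, 2, 0, 3, 2] t13 ∧ Cm (tab chevE6) t13 13 [] [7, 12, 4, 5, 8, 1] [72, 0, 72, 0, 0, 72] [99, 36, 9, 99, 45, 99] [2, 3, 1, 2] [46, 71] [46, 71] ∧
    Dl (tab chevE6) t13 13 [] [7, 12, 4, 5, 8, 1] [72, 0, 72, 0, 0, 72] [6, 0, 0, 0, 3, 0] := by rw [tabE6_eq]; decide +kernel
theorem c11 : Tw (tab chevE6) [0, 2, 3] t11 ∧ Cm (tab chevE6) t11 11 [] [6, 0, 2, 2, 4, 1] [621, 693, 99, 216, 144, 72] [54, 0, 72, 90, 27, 36] [2, 3, 2, 0] [44, 60] [44, 60] ∧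
    Dl (tab chevE6) t11 11 [] [6, 0, 2, 2, 4, 1] [621, 693, 99, 216, 144, 72] [1, 0, 2, 6, 7, 8] := by rw [tabE6_eq]; decide +kernel
theorem c7 : Tw (tab chevE6) [0, 1, 2, 0, 3, 1, 2, 0, 3, 4, 3, 1, 2, 0, 3, 2] t7 ∧
    Cm (tab chevE6) t7 7 [0, 4, 5, 0, 1, 0] [0, 4, 3, 1, 2, 0] [9, 45, 36, 81, 63, 72] [9, 603, 576, 63, 90, 72] [2, 3, 1, 2, 3, 4, 3, 1] [43, 53] [43, 53] ∧
    Dl (tab chevE6) t7 7 [0, 4, 5, 0, 1, 0] [0, 4, 3, 1, 2, 0] [9, 45, 36, 81, 63, 72] [6, 6, 0, 3, 0, 6] := by rw [tabE6_eq]; decide +kernel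
theorem c7A : Cm (tab chevE6) t7 7 [] [0, 3, 0, 1, 0, 0] [9, 9, 1098, 18, 72, 54] [0, 99, 0, 0, 0, 0] [3, 1] [39, 47] [39, 47] ∧
    (∃ r < 72, (tab chevE6).lf [] r % (7 : ℕ) = 0 ∧ (tab chevE6).lf [0, 3, 0, 1, 0, 0] r % (7 : ℕ) = 0) ∧ ∀ r < 72, (tab chevE6).lf [0, 3, 0, 1, 0, 0] r % (7 : ℕ) = 0 →
    ∀ s < 72, (tab chevE6).lf [9, 9, 1098, 18, 72, 54] s % 1143 = 0 → s ≠ (tab chevE6).ng r ∧ (tab chevE6).terms r s = [] := by rw [tabE6_eq]; decide +kernel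
/-- words in the Weyl group fusing the elements of a Sylow `7`-subgroup -/
def ws : List (List ℕ) := [[], [1, 4, 3, 2], [2, 3, 1, 4], [2, 3, 4, 3], [1, 2, 4, 3, 1, 2], [1, 4, 3, 1, 2, 3], [2, 3, 1, 4, 3, 1], [1, 2, 3, 1, 4, 3, 1, 2, 3, 4],
  [3, 2, 5, 4, 3, 1, 2, 0, 3, 2, 4, 3, 1, 5, 4, 3, 2, 0], [0, 1, 2, 3, 1, 2, 0, 4, 3, 1, 2, 0, 5, 4, 3, 1, 2, 3, 4, 5], [0, 1, 2, 3, 1, 2, 4, 3, 1, 2, 0, 3, 5, 4, 3, 1, 2, 3, 4, 5],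
  [0, 2, 0, 3, 1, 2, 0, 3, 4, 3, 2, 0, 5, 4, 3, 1, 2, 3, 4, 5], [2, 3, 2, 4, 5, 4, 3, 1, 2, 0, 3, 2, 4, 3, 1, 5, 4, 3, 2, 0], [3, 2, 4, 3, 5, 4, 3, 1, 2, 0, 3, 2, 4, 3, 1, 5, 4, 3, 2, 0],
  [0, 1, 2, 3, 1, 2, 0, 4, 3, 1, 2, 0, 3, 2, 5, 4, 3, 1, 2, 3, 4, 5], [1, 3, 1, 4, 3, 1, 5, 4, 3, 1, 2, 0, 3, 2, 4, 3, 1, 5, 4, 3, 2, 0],
  [0, 1, 2, 3, 1, 2, 0, 3, 2, 4, 3, 1, 2, 0, 3, 4, 5, 4, 3, 1, 2, 3, 4, 5], [0, 1, 2, 3, 1, 2, 4, 3, 1, 2, 0, 3, 2, 4, 3, 1, 5, 4, 3, 1, 2, 3, 4, 5],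
  [2, 3, 1, 2, 3, 4, 3, 2, 5, 4, 3, 1, 2, 0, 3, 2, 4, 3, 1, 5, 4, 3, 2, 0], [3, 1, 2, 3, 4, 3, 1, 2, 5, 4, 3, 1, 2, 0, 3, 2, 4, 3, 1, 5, 4, 3, 2, 0],
  [3, 1, 2, 4, 3, 1, 2, 3, 5, 4, 3, 1, 2, 0, 3, 2, 4, 3, 1, 5, 4, 3, 2, 0], [0, 1, 2, 0, 3, 1, 2, 0, 3, 2, 4, 3, 1, 2, 0, 3, 2, 4, 5, 4, 3, 1, 2, 3, 4, 5],
  [0, 1, 2, 3, 1, 2, 0, 3, 2, 4, 3, 1, 2, 0, 3, 2, 4, 3, 5, 4, 3, 1, 2, 3, 4, 5], [3, 1, 2, 3, 4, 3, 1, 2, 3, 4, 5, 4, 3, 1, 2, 0, 3, 2, 4, 3, 1, 5, 4, 3, 2, 0]]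
theorem cw : ∀ i < 7, ∀ j < 7, i = 0 ∧ j = 0 ∨ ∃ u ∈ ws, (∀ i ∈ u, i < 6) ∧ ∃ a ∈ ([[0, 4, 3, 1, 2, 0], [0, 3, 0, 1, 0, 0]] : List (List ℤ)), ∀ s < 6,
    ((tab chevE6).lf [0, 4, 5, 0, 1, 0] (runW (tab chevE6) u ((tab chevE6).sim s)) * (i : ℕ) + (tab chevE6).lf [0, 4, 3, 1, 2, 0] (runW (tab chevE6) u ((tab chevE6).sim s)) * (j : ℕ)) % (7 : ℕ) =
      (tab chevE6).lf a ((tab chevE6).sim s) % (7 : ℕ) := by rw [tabE6_eq]; decide +kernel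

end H12.Loc
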