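import Cfsg.Agent.H12.Loc4

/-! The `p`-local subgroups of a model of `²E₆(2)`: cyclic Sylow subgroups (`Md.cyc`) and the prime `7` (`Md.seven`). -/

set_option autoImplicit false

namespace H12.Loc
open Cfsg.Lie StSys Subgroup O5

variable {k : Type*} [Field k] {G : Type*} [Group G]
/-- coefficients for a four-group -/
def Co (k : Type*) [Field k] (L L' : List ℕ) : Prop := ∃ a : ℕ → k, L'.map a = L.map (a · ^ 2) ∧ (∃ r ∈ L, a r ≠ 0) ∧ ∃ r ∈ L, a r ≠ 1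
theorem co2 {r s : ℕ} (h : s ≠ r) : Co k [r, s] [r, s] := ⟨fun x => if x = r then 1 else 0, by simp [h], by simp, by simp [h]⟩
theorem co3 [IsAlgClosed k] [CharP k 2] : Co k [55, 64, 68] [64, 68, 55] := by
  obtain ⟨s, hs, -⟩ := exists_prim (k := k) 2 (N := 7) (by decide)
  have : (s : k) ^ 8 = s := by rw [pow_succ, ← Units.val_pow_eq_pow_val, ← hs, pow_orderOf_eq_one, Units.val_one, one_mul]
  exact ⟨fun x => if x = 55 then s else if x = 64 then s ^ 2 else s ^ 4, by simp [← pow_mul, this], by simp, 55, by simp, by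
    simpa using fun e => by simp [e] at hs⟩
theorem dvd_card [Finite G] {p : ℕ} [Fact p.Prime] {P : Subgroup G} (hP : IsPGroup p P) (h : P ≠ ⊥) : p ∣ Nat.card P := by
  simpa using mul_dvd_of_lt hP (bot_lt_iff_ne_bot.2 h)
theorem zpow_pow_one {x : G} {n : ℕ} (h : x ^ n = 1) (i : ℤ) : (x ^ i) ^ n = 1 := by rw [← zpow_natCast, zpow_comm, zpow_natCast, h, one_zpow]
theorem map_ne {P : Subgroup G} (h : P ≠ ⊥) (g : G) : P.map (MulAut.conj g).toMonoidHom ≠ ⊥ := fun e => h ((map_eq_bot_iff_of_injective _ (MulAut.conj g).injective).1 e)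

namespace Md
variable [CharP k 2] {τ : ℕ → ℕ} (m : Md k G τ) {p : ℕ} {a1 a2 a' a'' : List ℤ} {l1 L L' : List ℕ} (h : Cm (tab chevE6) τ p a1 a2 a' a'' l1 L L') {ζ : kˣ}
include h
theorem fix (hζ : orderOf ζ = p) (h3 : Nat.Coprime 3 p) : m.φ (cz ζ a1) = cz ζ a1 ∧ m.φ (cz ζ a2) = cz ζ a2 :=
  ⟨eq_of_θ h3 (by rw [← map_pow, cz_pow hζ, map_one]) (cz_pow hζ _) (m.φ_cz h.1 hζ fun r hr => (h.2.2.1 r hr).1),
    eq_of_θ h3 (by rw [← map_pow, cz_pow hζ, map_one]) (cz_pow hζ _) (m.φ_cz h.1 hζ fun r hr => (h.2.2.1 r hr).2.1)⟩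
variable [IsAlgClosed k] [IsSimpleGroup G] [Finite G] {P : Subgroup G}
include m
theorem cyc {ad : List ℤ} (hD : Dl (tab chevE6) τ p a1 a2 a' ad) (hp : p.Prime) (h3 : 3 < p) (ha : Co k L L') (hG : ¬ p * p ∣ Nat.card G) (hP : IsPGroup p P) (hP1 : P ≠ ⊥) :
    ¬ IsCoatom (normalizer (P : Set G)) := by
  haveI := Fact.mk hp
  obtain ⟨a, ha, h0, h1⟩ := ha
  obtain ⟨ζ, hζ, -⟩ := exists_prim (k := k) 2 (N := p) fun e => by have := (Nat.prime_dvd_prime_iff_eq Nat.prime_two hp).1 e; omega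
  have f := m.fix h hζ ((Nat.coprime_primes Nat.prime_three hp).2 h3.ne)
  obtain ⟨x1, e1⟩ := m.exists_el f.1
  obtain ⟨x2, e2⟩ := m.exists_el f.2
  have c2 : Nat.card (zpowers x2) = p := by rw [Nat.card_zpowers, orderOf_eq_prime (m.pow_eq_one hζ e2) fun e => m.not_mem h hζ e1 e2 (e ▸ one_mem _)]
  have q2 : IsPGroup p (zpowers x2) := .of_card (c2.trans (pow_one p).symm)
  obtain ⟨g, hg⟩ := exists_conj_le hP q2 (by rwa [c2])
  rw [← coatom_conj g, hg.eq_or_lt.resolve_right fun l => hG (((Nat.mul_dvd_mul_left p (dvd_card (hP.map _) (map_ne hP1 g))).trans (mul_dvd_of_lt q2 l)).trans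
    (card_subgroup_dvd_card _))]
  exact m.caseD e1 e2 (fun y ⟨j, hj⟩ => ⟨0, j, by simp [← hj]⟩) h hζ hp h3 ha h0 h1 (mem_zpowers _) hD
end Md

theorem Md.seven [CharP k 2] [IsAlgClosed k] [IsSimpleGroup G] [Finite G] (m : Md k G t7) (hG : ¬ 7 * (7 * 7) ∣ Nat.card G) {P : Subgroup G} (hP : IsPGroup 7 P) (hP1 : P ≠ ⊥) :
    ¬ IsCoatom (normalizer (P : Set G)) := by
  have hp : Nat.Prime 7 := by norm_num
  haveI := Fact.mk hp
  obtain ⟨-, h, hD⟩ := c7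
  obtain ⟨a, ha, h0, h1⟩ := co2 (k := k) (r := 43) (s := 53) (by decide)
  obtain ⟨ζ, hζ, -⟩ := exists_prim (k := k) 2 (N := 7) (by decide)
  have f := m.fix h hζ (by decide)
  have f' := m.fix c7A.1 hζ (by decide)
  obtain ⟨x1, e1⟩ := m.exists_el f.1
  obtain ⟨x2, e2⟩ := m.exists_el f.2
  have o1 := m.pow_eq_one hζ e1
  have o2 := m.pow_eq_one hζ e2
  have hc := m.comm e1 e2
  obtain ⟨S, hS⟩ : ∃ S : Subgroup G, ∀ y, y ∈ S ↔ ∃ i j : ℤ, y = x1 ^ i * x2 ^ j := ⟨(MonoidHom.noncommCoprod (zpowersHom G x1) (zpowersHom G x2) fun _ _ => hc.zpow_zpow _ _).range,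
    fun y => ⟨fun ⟨c, e⟩ => ⟨_, _, e.symm⟩, fun ⟨i, j, e⟩ => ⟨(.ofAdd i, .ofAdd j), e.symm⟩⟩⟩
  have q : IsPGroup 7 S := fun ⟨y, hy⟩ => ⟨1, Subtype.ext (by
    obtain ⟨i, j, rfl⟩ := (hS y).1 hy
    simp [(hc.zpow_zpow i j).mul_pow, zpow_pow_one o1, zpow_pow_one o2])⟩
  have m2 : x2 ∈ S := (hS _).2 ⟨0, 1, by simp⟩
  have l1 : zpowers x1 ≤ S := zpowers_le_of_mem ((hS _).2 ⟨1, 0, by simp⟩)
  have n1 : x1 ≠ 1 := fun e => by
    rw [e, map_one, eq_comm, cov_st.hl_mem_ker] at e1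
    exact absurd ((mem_cz hζ).1 (mem_Psi_one.2 (tch_wt_of_ker e1 ⟨36, by decide⟩))) (by rw [tabE6_eq]; decide +kernel)
  obtain ⟨g, hg⟩ := exists_conj_le hP q fun e => hG ((Nat.mul_dvd_mul_left 7 ((Nat.mul_dvd_mul_left 7 (dvd_card (q.to_le l1) (zpowers_ne_bot.2 n1))).trans
    (mul_dvd_of_lt q (l1.lt_of_ne fun e => m.not_mem h hζ e1 e2 (e ▸ m2))))).trans e)
  rw [← coatom_conj g]
  replace hP1 := map_ne hP1 g
  replace hP := hP.map (MulAut.conj g).toMonoidHom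
  generalize P.map (MulAut.conj g).toMonoidHom = Q at *
  rcases hg.eq_or_lt with rfl | l
  · exact m.caseD e1 e2 (fun y hy => (hS y).1 hy) h hζ hp (by decide) ha h0 h1 m2 hD
  obtain ⟨y, hy, n⟩ := (bot_or_exists_ne_one Q).resolve_left hP1
  have l2 := zpowers_le_of_mem hy
  rw [← l2.eq_or_lt.resolve_right fun l' => hG ((Nat.mul_dvd_mul_left 7 ((Nat.mul_dvd_mul_left 7 (dvd_card (hP.to_le l2) (zpowers_ne_bot.2 n))).trans
    (mul_dvd_of_lt hP l'))).trans ((mul_dvd_of_lt q l).trans (card_subgroup_dvd_card _)))]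
  obtain ⟨i, j, rfl⟩ := (hS y).1 (hg hy)
  rw [zpow_eq_zpow_emod' i o1, zpow_eq_zpow_emod' j o2] at n ⊢
  have b1 := Int.emod_lt_of_pos i (show (0 : ℤ) < (7 : ℕ) by decide)
  have b2 := Int.emod_lt_of_pos j (show (0 : ℤ) < (7 : ℕ) by decide)
  lift i % (7 : ℕ) to ℕ using Int.emod_nonneg _ (by decide) with i'
  lift j % (7 : ℕ) to ℕ using Int.emod_nonneg _ (by decide) with j'
  obtain ⟨rfl, rfl⟩ | ⟨u, -, hu, b, hb, e⟩ := cw i' (by omega) j' (by omega)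
  · simp at n
  obtain ⟨u, rfl⟩ := exists_map_val (n := chevE6.rank) hu
  have k1 : ∀ x, m.φ (cz ζ b) = cz ζ b → m.j x = r3_ad.lift ((stS chevE6 k).hl (cz ζ b)) → ¬ IsCoatom (normalizer (zpowers x : Set G)) →
      ¬ IsCoatom (normalizer (zpowers (x1 ^ (i' : ℤ) * x2 ^ (j' : ℤ)) : Set G)) := fun x g1 g2 g3 => by
    obtain ⟨c, rfl⟩ := isConj_iff.1 (m.isConj (by rw [map_mul, map_zpow, map_zpow, f.1, f.2]) g1 (u := wp u) (eq_of_θ (n := 7) (by decide)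
      (by rw [← map_pow, mul_pow, zpow_pow_one (cz_pow hζ _), zpow_pow_one (cz_pow hζ _), one_mul, map_one]) (cz_pow hζ _) fun s => by
        rw [tch_wT, wL_wt, mul_tch, zpow_tch, zpow_tch, tch_cz, tch_cz, tch_cz, ← runW_eq, ← zpow_mul, ← zpow_mul, ← zpow_add, zpow_iff hζ]; exact e s s.2) (m.j_zpow e1 e2 i' j') g2)
    rwa [← coatom_conj c, MonoidHom.map_zpowers]
  simp only [List.mem_cons, List.not_mem_nil, or_false] at hb
  rcases hb with rfl | rfl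
  · exact k1 x2 f.2 e2 (m.caseD e1 e2 (fun y ⟨j, hj⟩ => ⟨0, j, by simp [← hj]⟩) h hζ hp (by decide) ha h0 h1 (mem_zpowers _) hD)
  obtain ⟨a, ha, h0, h1⟩ := co2 (k := k) (r := 39) (s := 47) (by decide)
  obtain ⟨z1, d1⟩ := m.exists_el f'.1
  obtain ⟨z2, d2⟩ := m.exists_el f'.2
  exact k1 z2 f'.2 d2 (m.caseA d1 d2 (fun y ⟨j, hj⟩ => ⟨0, j, by simp [← hj]⟩) c7A.1 hζ hp (by decide) ha h0 h1 (mem_zpowers _) c7A.2)

end H12.Loc
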