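import Cfsg.Agent.H12.MP
import Cfsg.Agent.H12.TwG
import Cfsg.Agent.H12.Cent

/-! Layers of the unipotent group: `Lay` (a rank function on positive roots compatible with the commutator formula), the filtration
`Lay.U`, leading coordinates `Lay.ld`, the chain `Lay.chn` in a central extension of a twisted group and the criterion
`Lay.comm_inf` for `[Ũ, Ũ] ∩ Z = 1`. -/

set_option autoImplicit false

namespace H12
open Cfsg.Lie H13 StSys Subgroup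
open scoped commutatorElement

variable {D : ChevalleyDatum} [G : Good D] {F : Type*} [Field F] {Γ : Type*} [Group Γ]

structure Lay (D : ChevalleyDatum) [Good D] (F : Type*) [Field F] where
  κ : Φ D → ℕ
  lt : ∀ r s, IsPos r → IsPos s → s ≠ r → ∀ c ∈ cterms r s, (c.2.1 : F) = 0 ∨ (κ r < κ c.1 ∧ κ s < κ c.1)

theorem StSys.prod_single (S : StSys D F Γ) {O : List (Φ D)} (h : O.Nodup) {s : Φ D} (hs : s ∈ O) (t : F) :
    S.prod O (Pi.single s t) = S.x s t := by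
  induction O with
  | nil => simp at hs
  | cons r O ih =>
    rw [List.nodup_cons] at h
    rcases List.mem_cons.1 hs with rfl | hs
    · rw [prod_cons, S.prod_congr (t' := 0) fun r hr => Pi.single_eq_of_ne (by rintro rfl; exact h.1 hr) _]; simp
    · rw [prod_cons, ih h.2 hs, Pi.single_eq_of_ne (by rintro rfl; exact h.1 hs)]; simp

namespace Lay
variable (L : Lay D F) (S : StSys D F Γ)

def U (i : ℕ) : Subgroup Γ := S.gen {r | IsPos r ∧ i ≤ L.κ r}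
noncomputable def O (i : ℕ) : List (Φ D) := (exists_list {r | IsPos r ∧ L.κ r = i}).choose
theorem nodup_O (i : ℕ) : (L.O i).Nodup := (exists_list _).choose_spec.1
variable {L} in
theorem mem_O {i : ℕ} {r : Φ D} : r ∈ L.O i ↔ IsPos r ∧ L.κ r = i := (exists_list _).choose_spec.2 r
theorem U_zero : L.U S 0 = S.U := by simp [U, StSys.U]
theorem U_mono {i j : ℕ} (h : i ≤ j) : L.U S j ≤ L.U S i := S.gen_mono fun _ hr => ⟨hr.1, h.trans hr.2⟩
theorem U_le (i : ℕ) : L.U S i ≤ S.U := S.gen_mono fun _ hr => hr.1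
theorem x_mem {r : Φ D} {i : ℕ} (h : IsPos r) (hi : i ≤ L.κ r) (t : F) : S.x r t ∈ L.U S i := S.x_mem (And.intro h hi) t
theorem exists_bot : ∃ m, ∀ n, m ≤ n → L.U S n = ⊥ := by
  obtain ⟨m, hm⟩ := (Set.finite_range L.κ).bddAbove
  refine ⟨m + 1, fun n hn => eq_bot_iff.2 (S.gen_le.2 fun r hr => ?_)⟩
  have := hm ⟨r, rfl⟩; have := hr.2; omega

theorem cx {r s : Φ D} (hr : IsPos r) (hs : IsPos s) {k : ℕ} (hk : k ≤ L.κ r + 1 ∨ k ≤ L.κ s + 1) (t u : F) :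
    (S.x s u)⁻¹ * (S.x r t)⁻¹ * S.x s u * S.x r t ∈ L.U S k := by
  by_cases h1 : s = r
  · subst h1; rw [mul_assoc, (S.x_commute_self s u t).eq]; simp
  rw [mul_assoc, S.comm h1 (hr.ne_ng hs)]
  simp only [mul_assoc, inv_mul_cancel_left]
  refine S.wprod_mem fun p hp => ?_
  obtain ⟨c, hc, rfl⟩ := List.mem_map.1 hp
  rcases L.lt r s hr hs h1 c hc with h | h
  · simp [h]
  · exact L.x_mem S (closed_isPos r hr s hs _ ⟨_, _, cterms_spec h1 (hr.ne_ng hs) hc⟩) (by omega) _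

theorem le_norm (i : ℕ) : S.U ≤ normalizer (L.U S i : Set Γ) := by
  have : ∀ r, IsPos r → ∀ t, ∀ k ∈ L.U S i, (S.x r t)⁻¹ * k * S.x r t ∈ L.U S i := fun r hr t k hk => by
    have := conj_closure_mem (g := (S.x r t)⁻¹) (K := L.U S i) (by
      rintro _ ⟨s, hs, u, rfl⟩
      simpa [mul_assoc] using mul_mem (L.x_mem S hs.1 hs.2 u) (L.cx S hr hs.1 (Or.inr (hs.2.trans (Nat.le_succ _))) t u)) hk
    rwa [inv_inv] at this
  exact S.gen_le.2 fun r hr t => mem_normalizer_of_conj (fun k hk => by simpa [x_neg] using this r hr (-t) k hk) (this r hr t)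

variable {L S} in
theorem conj {i : ℕ} {a b : Γ} (ha : a ∈ S.U) (hb : b ∈ L.U S i) : a⁻¹ * b * a ∈ L.U S i :=
  conj_mem_of_normalizer' (L.le_norm S i ha) hb

variable {L S} in
theorem comm {i : ℕ} {a b : Γ} (ha : a ∈ S.U) (hb : b ∈ L.U S i) : a⁻¹ * b⁻¹ * a * b ∈ L.U S (i + 1) :=
  comm_closure_mem (fun _ h => L.le_norm S _ (subset_closure h)) (fun _ h => L.le_norm S _ (L.U_le S i (subset_closure h))) (by
    rintro _ ⟨s, hs, u, rfl⟩ _ ⟨r, hr, t, rfl⟩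
    exact L.cx S hr.1 hs (Or.inl (Nat.succ_le_succ hr.2)) t u) ha hb

theorem prod_add {i : ℕ} {O : List (Φ D)} (h : ∀ r ∈ O, IsPos r ∧ i ≤ L.κ r) (t t' : Φ D → F) :
    (S.prod O (t + t'))⁻¹ * (S.prod O t * S.prod O t') ∈ L.U S (i + 1) := by
  induction O with
  | nil => simp
  | cons r O ih =>
    have h' := fun s hs => h s (List.mem_cons_of_mem r hs)
    have m : ∀ t, S.prod O t ∈ L.U S i := S.prod_mem_gen h'
    have := mul_mem (ih h') (conj (L.U_le S i (m t')) (comm (L.U_le S i (m t)) (S.x_mem (h r (by simp)) (t' r))))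
    simpa [S.add, mul_assoc] using this

def Rel (i : ℕ) (a : Γ) (t : Φ D → F) : Prop := (S.prod (L.O i) t)⁻¹ * a ∈ L.U S (i + 1)
theorem prod_mem (i : ℕ) (t : Φ D → F) : S.prod (L.O i) t ∈ L.U S i := S.prod_mem_gen (fun _ h => And.intro (mem_O.1 h).1 (mem_O.1 h).2.ge) t

variable {L S} {i : ℕ} {a b : Γ} {θ : Γ →* GL D.Idx F}
theorem Rel.mul {t t' : Φ D → F} (h : L.Rel S i a t) (h' : L.Rel S i b t') : L.Rel S i (a * b) (t + t') := by
  have := mul_mem (mul_mem (L.prod_add S (fun _ h => ⟨(mem_O.1 h).1, (mem_O.1 h).2.ge⟩) t t')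
    (conj (L.U_le S i (L.prod_mem S i t')) h)) h'
  simpa [Rel, mul_assoc] using this
theorem rel_x {s : Φ D} (hs : IsPos s) (hi : i ≤ L.κ s) (t : F) : L.Rel S i (S.x s t) (Pi.single s t) := by
  rcases hi.eq_or_lt with e | e
  · simp [Rel, S.prod_single (L.nodup_O i) (mem_O.2 ⟨hs, e.symm⟩)]
  · rw [Rel, S.prod_congr (t' := 0) fun r hr => Pi.single_eq_of_ne (by rintro rfl; exact e.ne' (mem_O.1 hr).2) _]
    simpa using L.x_mem S hs e t
theorem exists_rel (ha : a ∈ L.U S i) : ∃ t, L.Rel S i a t :=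
  S.gen_induction (Q := fun a => ∃ t, L.Rel S i a t) ⟨0, by simp [Rel]⟩ (fun _ _ _ hr _ ⟨_, h⟩ => ⟨_, h.mul (rel_x hr.1 hr.2 _)⟩) ha
theorem nf (n : ℕ) : ∀ i, ∀ a ∈ L.U S i, ∃ O : List (Φ D), O.Nodup ∧ (∀ r ∈ O, IsPos r ∧ i ≤ L.κ r) ∧
    ∃ t, (S.prod O t)⁻¹ * a ∈ L.U S (i + n) := by
  induction n with
  | zero => exact fun i a ha => ⟨[], by simp, by simp, 0, by simpa using ha⟩
  | succ n ih =>
    intro i a ha
    obtain ⟨t, ht⟩ := exists_rel ha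
    obtain ⟨O, h1, h2, t', h3⟩ := ih _ _ ht
    refine ⟨L.O i ++ O, List.nodup_append.2 ⟨L.nodup_O i, h1, fun r hr s hs e => ?_⟩, fun r hr => ?_, fun r => if L.κ r = i then t r else t' r, ?_⟩
    · have := (mem_O.1 hr).2; have := (h2 s hs).2; subst e; omega
    · exact (List.mem_append.1 hr).elim (fun h => ⟨(mem_O.1 h).1, (mem_O.1 h).2.ge⟩) fun h => ⟨(h2 r h).1, by have := (h2 r h).2; omega⟩
    · rw [prod_append, S.prod_congr (t' := t) fun r hr => if_pos (mem_O.1 hr).2,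
        S.prod_congr (L := O) (t' := t') fun r hr => if_neg (by have := (h2 r hr).2; omega)]
      simpa [mul_assoc, add_assoc, add_comm 1] using h3
theorem Rel.unique (hθ : S.Cov θ) {t t' : Φ D → F} (h : L.Rel S i a t) (h' : L.Rel S i a t') {r : Φ D} (hr : r ∈ L.O i) : t r = t' r := by
  obtain ⟨m, hm⟩ := L.exists_bot S
  obtain ⟨O, h1, h2, u, h3⟩ := nf m _ _ (mul_mem h (inv_mem h'))
  rw [hm _ (by omega), mem_bot, inv_mul_eq_one] at h3
  have k : ∀ r ∈ O, L.κ r ≠ i := fun r hr => by have := (h2 r hr).2; omega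
  have := hθ.prod_inj (f := fl) (L := L.O i ++ O) (t := fun r => if L.κ r = i then t r else u r) (t' := fun r => if L.κ r = i then t' r else 0)
    (List.nodup_append.2 ⟨L.nodup_O i, h1, fun r hr s hs e => k s hs (e ▸ (mem_O.1 hr).2)⟩)
    (fun r hr => pos_fl r ((List.mem_append.1 hr).elim (fun h => (mem_O.1 h).1) fun h => (h2 r h).1)) (congrArg θ (by
      rw [prod_append, prod_append, S.prod_congr (t' := t) fun r hr => if_pos (mem_O.1 hr).2, S.prod_congr (L := O) (t' := u) fun r hr => if_neg (k r hr),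
        S.prod_congr (t' := t') fun r hr => if_pos (mem_O.1 hr).2, S.prod_congr (L := O) (t := fun r => if L.κ r = i then t' r else 0) (t' := 0) fun r hr => if_neg (k r hr), h3]
      simp [mul_assoc])) r (List.mem_append_left _ hr)
  simpa [(mem_O.1 hr).2] using this

variable (L S) in
open Classical in
/-- the leading coordinate at the positive root `r` -/
noncomputable def ld (r : Φ D) (a : Γ) : F := if h : a ∈ L.U S (L.κ r) then (exists_rel h).choose r else 0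

variable (hθ : S.Cov θ) {r : Φ D} (hr : IsPos r)
include hθ hr
theorem Rel.ld {t : Φ D → F} (h : L.Rel S (L.κ r) a t) : L.ld S r a = t r := by
  have ha : a ∈ L.U S (L.κ r) := by simpa using mul_mem (L.prod_mem S _ t) (L.U_mono S (Nat.le_succ _) h)
  rw [Lay.ld, dif_pos ha]
  exact (exists_rel ha).choose_spec.unique hθ h (mem_O.2 ⟨hr, rfl⟩)
theorem ld_mul (ha : a ∈ L.U S (L.κ r)) (hb : b ∈ L.U S (L.κ r)) : L.ld S r (a * b) = L.ld S r a + L.ld S r b := by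
  obtain ⟨t, h⟩ := exists_rel ha
  obtain ⟨t', h'⟩ := exists_rel hb
  rw [(h.mul h').ld hθ hr, h.ld hθ hr, h'.ld hθ hr, Pi.add_apply]
theorem ld_x {s : Φ D} (hs : IsPos s) (hi : L.κ r ≤ L.κ s) (t : F) : L.ld S r (S.x s t) = if r = s then t else 0 := by
  rw [(rel_x hs hi t).ld hθ hr, Pi.single_apply]
theorem ld_self (t : F) : L.ld S r (S.x r t) = t := by simpa using ld_x hθ hr hr le_rfl t
theorem ld_succ (ha : a ∈ L.U S (L.κ r + 1)) : L.ld S r a = 0 := Rel.ld hθ hr (t := 0) (by simpa [Rel] using ha)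
theorem ld_one : L.ld S r 1 = 0 := ld_succ hθ hr (one_mem _)
omit hr in
theorem mem_succ (ha : a ∈ L.U S i) (h : ∀ r, IsPos r → L.κ r = i → L.ld S r a = 0) : a ∈ L.U S (i + 1) := by
  obtain ⟨t, ht⟩ := exists_rel ha
  have : S.prod (L.O i) t = S.prod (L.O i) 0 := S.prod_congr fun r hr => by
    obtain ⟨h1, rfl⟩ := mem_O.1 hr
    rw [← ht.ld hθ h1, h r h1 rfl]; rfl
  rwa [Rel, this, prod_zero, inv_one, one_mul] at ht
theorem ld_map {s : Φ D} (hs : IsPos s) (e : L.κ s = L.κ r) {f : Γ → Γ} {g : F →+ F} (f1 : f 1 = 1)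
    (f2 : ∀ a ∈ S.U, ∀ b ∈ S.U, f (a * b) = f a * f b) (f3 : ∀ a ∈ L.U S (L.κ r), f a ∈ L.U S (L.κ r))
    (f4 : ∀ k, IsPos k → L.κ r ≤ L.κ k → ∀ t, L.ld S s (f (S.x k t)) = if r = k then g t else 0) (ha : a ∈ L.U S (L.κ r)) :
    L.ld S s (f a) = g (L.ld S r a) :=
  S.gen_induction (Q := fun a => L.ld S s (f a) = g (L.ld S r a)) (by simp [f1, ld_one hθ hr, ld_one hθ hs]) (fun a ha k hk t h => by
    rw [f2 _ (L.U_le S _ ha) _ (S.x_mem_U hk.1 t), ld_mul hθ hs (e ▸ f3 a ha) (e ▸ f3 _ (S.x_mem hk t)), h, f4 k hk.1 hk.2,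
      ld_mul hθ hr ha (S.x_mem hk t), ld_x hθ hr hk.1 hk.2, map_add]
    split_ifs <;> simp) ha

end Lay

/-- `h` acts on the root subgroups through the scalars `χ` -/
def StSys.Wt (S : StSys D F Γ) (h : Γ) (χ : Φ D → F) : Prop := ∀ s u, h * S.x s u * h⁻¹ = S.x s (χ s * u)
theorem StSys.wt_hl (S : StSys D F Γ) (c : I D → Fˣ) : S.Wt (S.hl c) fun r => (∏ i, c i ^ wt r i : Fˣ) := hl_conj_x c

namespace Lay
variable {L : Lay D F} {S : StSys D F Γ} {θ : Γ →* GL D.Idx F} {h a : Γ} {χ : Φ D → F} {r s : Φ D}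

theorem conj_wt (hχ : S.Wt h χ) {P : Set (Φ D)} (ha : a ∈ S.gen P) : h * a * h⁻¹ ∈ S.gen P :=
  conj_closure_mem (by rintro _ ⟨r, hr, t, rfl⟩; exact hχ r t ▸ S.x_mem hr _) ha
theorem ld_wt (hθ : S.Cov θ) (hr : IsPos r) (hχ : S.Wt h χ) (ha : a ∈ L.U S (L.κ r)) : L.ld S r (h * a * h⁻¹) = χ r * L.ld S r a :=
  ld_map hθ hr hr rfl (f := fun a => h * a * h⁻¹) (g := AddMonoidHom.mulLeft (χ r)) (by simp) (fun _ _ _ _ => by group)
    (fun _ => conj_wt hχ) (fun k hk hi t => by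
      rw [hχ, ld_x hθ hr hk hi]; split_ifs with e <;> simp [e]) ha
theorem ld_comm (hθ : S.Cov θ) (hr : IsPos r) (hχ : S.Wt h χ) (ha : a ∈ L.U S (L.κ r)) : L.ld S r ⁅h, a⁆ = (χ r - 1) * L.ld S r a := by
  have := ld_mul hθ hr (mul_mem (conj_wt hχ ha) (inv_mem ha)) ha
  rw [inv_mul_cancel_right, ld_wt hθ hr hχ ha] at this
  rw [commutatorElement_def, sub_mul, this]; ring

variable {R : RSym D} {τ : TwF S R}

/-- the layers are the orbits of the symmetry -/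
structure Orb (L : Lay D F) (R : RSym D) : Prop where
  inv : ∀ r, IsPos r → L.κ (R.ρ r) = L.κ r
  orb : ∀ r s, IsPos r → IsPos s → L.κ s = L.κ r → s = r ∨ s = R.ρ r ∨ s = R.ρ (R.ρ r)

theorem Orb.ld_σ (o : L.Orb R) (hθ : S.Cov θ) (hr : IsPos r) (ha : a ∈ L.U S (L.κ r)) :
    L.ld S (R.ρ r) (τ.σ a) = τ.ε r * τ.ψ r (L.ld S r a) :=
  ld_map hθ hr ((R.pos r).2 hr) (o.inv r hr) (f := τ.σ) (g := (AddMonoidHom.mulLeft (τ.ε r : F)).comp (τ.ψ r : F →+ F)) τ.one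
    (fun _ h _ h' => τ.mul _ (S.gen_le_T _ h) _ (S.gen_le_T _ h'))
    (fun _ => τ.map_gen fun k hk => And.intro ((R.pos k).2 hk.1) (by rw [o.inv k hk.1]; exact hk.2)) (fun k hk hi t => by
      rw [τ.hxf, ld_x hθ ((R.pos r).2 hr) ((R.pos k).2 hk) (by rwa [o.inv r hr, o.inv k hk])]
      by_cases e : r = k <;> simp [e]) ha
theorem Orb.mem_succ (o : L.Orb R) (hθ : S.Cov θ) (hr : IsPos r) (ha : a ∈ L.U S (L.κ r)) (hf : a ∈ τ.Fix) (h0 : L.ld S r a = 0) :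
    a ∈ L.U S (L.κ r + 1) := by
  have k : ∀ r, IsPos r → a ∈ L.U S (L.κ r) → L.ld S r a = 0 → L.ld S (R.ρ r) a = 0 := fun r hr ha h0 => by
    have := o.ld_σ (τ := τ) hθ hr ha
    rwa [hf.2, h0, map_zero, mul_zero] at this
  refine Lay.mem_succ hθ ha fun s hs e => ?_
  rcases o.orb r s hr hs e with rfl | rfl | rfl
  exacts [h0, k r hr ha h0, k _ ((R.pos r).2 hr) (by rwa [o.inv r hr]) (k r hr ha h0)]
theorem Orb.congr (o : L.Orb R) (hθ : S.Cov θ) (hr : IsPos r) {b : Γ} (ha : a ∈ L.U S (L.κ r)) (hb : b ∈ L.U S (L.κ r)) (ha' : a ∈ τ.Fix)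
    (hb' : b ∈ τ.Fix) (e : L.ld S r a = L.ld S r b) : a⁻¹ * b ∈ L.U S (L.κ r + 1) := by
  have := ld_mul hθ hr ha (mul_mem (inv_mem ha) hb)
  rw [mul_inv_cancel_left, e, left_eq_add] at this
  exact o.mem_succ hθ hr (mul_mem (inv_mem ha) hb) (mul_mem (inv_mem ha') hb') this

variable {E : Type*} [Group E] {π : E →* Γ}

variable (L) in
def chn (h3 : S.R3) (hc : π.ker ≤ center E) : Chn E where
  Z := π.ker
  V i := (L.U S i).comap π
  T := π ⁻¹' S.H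
  cen := hc
  anti i := comap_mono (L.U_mono S i.le_succ)
  comm i a ha b hb := by
    simpa [commutatorElement_def, mem_comap] using comm (inv_mem (L.U_le S 0 ha)) (inv_mem hb)
  nrm i t ht b hb := by simpa [mem_comap, U] using conj_mem_of_normalizer (H_le_normalizer _ ht) hb
  tt t ht t' ht' := by
    rw [MonoidHom.mem_ker, map_commutatorElement, commutatorElement_eq_one_iff_mul_comm]; exact h3.comm ht ht'

variable (h3 : S.R3) (hc : π.ker ≤ center E) (o : L.Orb R) (hθ : S.Cov θ) (hf : π.range ≤ τ.Fix)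
include o hθ hf

theorem Orb.co (hr : IsPos r) : (L.chn h3 hc).Co (L.κ r) fun e => L.ld S r (π e) :=
  ⟨fun a ha b hb => by rw [map_mul, ld_mul hθ hr ha hb], fun a ha => ⟨o.mem_succ hθ hr ha (hf ⟨a, rfl⟩), ld_succ hθ hr⟩⟩
theorem Orb.fpf (hr : IsPos r) {t : E} (hχ : S.Wt (π t) χ) (h1 : χ r ≠ 1) : (L.chn h3 hc).Fpf (L.κ r) t := fun x hx e => by
  have := ld_succ hθ hr e
  rw [map_commutatorElement, ld_comm hθ hr hχ hx] at this
  exact o.mem_succ hθ hr hx (hf ⟨x, rfl⟩) ((mul_eq_zero.1 this).resolve_left (sub_ne_zero.2 h1))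
theorem Orb.trv (hr : IsPos r) {t : E} (hχ : S.Wt (π t) χ) (h1 : χ r = 1) : (L.chn h3 hc).Trv (L.κ r) t := fun x hx =>
  o.mem_succ hθ hr (by simpa [commutatorElement_def, U] using mul_mem (conj_wt hχ hx) (inv_mem hx)) (hf ⟨_, rfl⟩) (by
    rw [map_commutatorElement, ld_comm hθ hr hχ hx, h1, sub_self, zero_mul])

omit o hθ hf in
variable (S π) in
def TT (r s : Φ D) : Prop := ∃ h ∈ S.H ⊓ π.range, ∃ χ, S.Wt h χ ∧ χ r ≠ 1 ∧ χ s = 1
omit o hθ hf in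
variable (S π) in
def Full (r s : Φ D) : Prop := ∀ l : F, l ≠ 0 → ∃ h ∈ S.H ⊓ π.range, ∃ χ, S.Wt h χ ∧ χ r = l ∧ χ s = l
omit o hθ hf in
variable (L S π) in
/-- `A` represents the layer of `r` -/
def Rp (r : Φ D) (A : Set Γ) : Prop := ∀ a ∈ L.U S (L.κ r) ⊓ π.range, ∃ a' ∈ A, a' ∈ L.U S (L.κ r) ⊓ π.range ∧ L.ld S r a' = L.ld S r a
omit o hθ hf in
variable (L S π) in
def Cm (W : Subgroup E) (r s : Φ D) : Prop := ∃ A B, L.Rp S π r A ∧ L.Rp S π s B ∧ ∀ a b, π a ∈ A → π b ∈ B → ⁅a, b⁆ ∈ W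

theorem Orb.rp (hr : IsPos r) {A : Set Γ} (hA : L.Rp S π r A) : ∀ a ∈ (L.chn h3 hc).V (L.κ r), ∃ a' ∈ π ⁻¹' A,
    a' ∈ (L.chn h3 hc).V (L.κ r) ∧ a'⁻¹ * a ∈ (L.chn h3 hc).V (L.κ r + 1) := fun a ha => by
  obtain ⟨_, h1, ⟨h2, b, rfl⟩, h4⟩ := hA (π a) ⟨ha, a, rfl⟩
  exact ⟨b, h1, h2, ((o.co h3 hc hθ hf hr).eq h2 ha h4)⟩

omit o hθ hf in
variable (L S π) in
def OK (W : Subgroup E) (r s : Φ D) : Prop := TT S π r s ∨ TT S π s r ∨ Full S π r s ∨ L.Cm S π W r s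
omit o hθ hf in
theorem OK.mono {W W' : Subgroup E} (h : L.OK S π W r s) (e : W ≤ W') : L.OK S π W' r s :=
  h.imp_right (Or.imp_right (Or.imp_right fun ⟨A, B, k1, k2, k3⟩ => ⟨A, B, k1, k2, fun a b ha hb => e (k3 a b ha hb)⟩))

theorem Orb.step [Finite E] (hr : IsPos r) (hs : IsPos s) (hF : ∃ s : Finset F, 4 < s.card) {W : Subgroup E}
    (h : L.OK S π W r s) (hW : (L.chn h3 hc).Good (L.κ s + 1) W)
    (hp : (L.chn h3 hc).Pr W (L.κ r + 1) (L.κ s)) : (L.chn h3 hc).Pr W (L.κ r) (L.κ s) := by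
  rcases h with ⟨_, ⟨h1, t, rfl⟩, χ, h2, h4, h5⟩ | ⟨_, ⟨h1, t, rfl⟩, χ, h2, h4, h5⟩ | h | ⟨A, B, h1, h2, h4⟩
  · exact hW.ttl h1 (o.fpf h3 hc hθ hf hr h2 h4) (o.trv h3 hc hθ hf hs h2 h5) hp
  · exact hW.ttr h1 (o.trv h3 hc hθ hf hr h2 h5) (o.fpf h3 hc hθ hf hs h2 h4) hp
  · refine hW.coord hF (o.co h3 hc hθ hf hr) (o.co h3 hc hθ hf hs) (fun l hl => ?_) hp
    obtain ⟨_, ⟨h1, t, rfl⟩, χ, h2, h4, h5⟩ := h l hl
    exact ⟨t, h1, fun a ha => by simp only [map_mul, map_inv]; rw [ld_wt hθ hr h2 ha, h4],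
      fun a ha => by simp only [map_mul, map_inv]; rw [ld_wt hθ hs h2 ha, h5]⟩
  · exact hW.reps (o.rp h3 hc hθ hf hr h1) (o.rp h3 hc hθ hf hs h2) (fun a ha b hb => h4 a b ha hb) hp

omit o hθ hf in
theorem V_succ {i : ℕ} (h : ¬ ∃ r, IsPos r ∧ L.κ r = i) : (L.chn h3 hc).V i ≤ (L.chn h3 hc).V (i + 1) :=
  comap_mono (S.gen_mono fun r hr => ⟨hr.1, lt_of_le_of_ne hr.2 fun e => h ⟨r, hr.1, e.symm⟩⟩)

theorem Orb.pr [Finite E] (hs : IsPos s) (hF : ∃ s : Finset F, 4 < s.card) {W : Subgroup E}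
    (h : ∀ r, IsPos r → L.κ r < L.κ s ∨ r = s → L.OK S π W r s)
    (hW : (L.chn h3 hc).Good (L.κ s + 1) W) : (L.chn h3 hc).Pr W 0 (L.κ s) := hW.pr fun j hj hp => by
  rcases hj.eq_or_lt with rfl | hj
  · exact o.step h3 hc hθ hf hs hs hF (h s hs (Or.inr rfl)) hW hp
  by_cases e : ∃ r, IsPos r ∧ L.κ r = j
  · obtain ⟨r, hr, rfl⟩ := e
    exact o.step h3 hc hθ hf hr hs hF (h r hr (Or.inl hj)) hW hp
  · exact fun a ha => hp a (V_succ h3 hc e ha)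

omit o hθ hf in
theorem Z_le (i : ℕ) : (L.chn h3 hc).Z ≤ (L.chn h3 hc).V i := fun a ha => by
  change π a ∈ L.U S i
  rw [show π a = 1 from ha]; exact one_mem _

include h3 hc in
theorem Orb.comm_inf [Finite E] (hF : ∃ s : Finset F, 4 < s.card) (h1 : ∀ r, IsPos r → ∃ s, TT S π r s)
    (h2 : ∀ r s, IsPos r → IsPos s → L.κ r < L.κ s ∨ r = s → L.OK S π ⊥ r s) :
    ⁅S.U.comap π, S.U.comap π⁆ ⊓ π.ker = ⊥ := by
  obtain ⟨m, hm⟩ := L.exists_bot S
  rw [← L.U_zero S]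
  refine (L.chn h3 hc).comm_inf (m := m) (fun a ha => by simpa [chn, hm m le_rfl] using ha) (Z_le h3 hc) (fun i => ?_) fun i j hj W hW hp => ?_
  · by_cases e : ∃ r, IsPos r ∧ L.κ r = i
    · obtain ⟨r, hr, rfl⟩ := e
      obtain ⟨_, _, ⟨h4, t, rfl⟩, χ, h5, h6, -⟩ := h1 r hr
      exact ⟨t, h4, o.fpf h3 hc hθ hf hr h5 h6⟩
    · exact ⟨1, by simp [chn, one_mem], fun x hx _ => V_succ h3 hc e hx⟩
  · by_cases e : ∃ r, IsPos r ∧ L.κ r = i
    · obtain ⟨s, hs, rfl⟩ := e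
      exact fun a ha => o.pr h3 hc hθ hf hs hF (fun r hr hi => (h2 r s hr hs hi).mono bot_le) hW a ((L.chn h3 hc).le0 j ha)
    · exact fun a ha b hb => hW.right ((L.chn h3 hc).le0 j ha) (V_succ h3 hc e hb)

end Lay
end H12
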