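import Cfsg.Agent.H24.CExt

/-! Splitting of central extensions along a central series with operators: `Chn` (a chain `V i` above a central subgroup `Z`,
normalised by a set `T`), complements `Chn.Good`, the steps `Good.ttl`, `Good.ttr`, `Good.coord`, `Good.reps`, `Good.next`
and the conclusion `Chn.comm_inf`. -/

set_option autoImplicit false

namespace H12
open Subgroup
open scoped commutatorElement

variable {E : Type*} [Group E]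

structure Chn (E : Type*) [Group E] where
  Z : Subgroup E
  V : ℕ → Subgroup E
  T : Set E
  cen : Z ≤ center E
  anti : ∀ i, V (i + 1) ≤ V i
  comm : ∀ i, ∀ a ∈ V 0, ∀ b ∈ V i, ⁅a, b⁆ ∈ V (i + 1)
  nrm : ∀ i, ∀ t ∈ T, ∀ b ∈ V i, t * b * t⁻¹ ∈ V i
  tt : ∀ t ∈ T, ∀ t' ∈ T, ⁅t, t'⁆ ∈ Z

namespace Chn
variable (c : Chn E)

structure Good (i : ℕ) (W : Subgroup E) : Prop where
  le : W ≤ c.V i
  inf : ∀ w ∈ W, w ∈ c.Z → w = 1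
  sup : ∀ v ∈ c.V i, ∃ w ∈ W, ∃ z ∈ c.Z, v = w * z
  nV : ∀ g ∈ c.V 0, ∀ w ∈ W, g * w * g⁻¹ ∈ W
  nT : ∀ g ∈ c.T, ∀ w ∈ W, g * w * g⁻¹ ∈ W

def Pr (W : Subgroup E) (j i : ℕ) : Prop := ∀ a ∈ c.V j, ∀ b ∈ c.V i, ⁅a, b⁆ ∈ W
def Fpf (i : ℕ) (h : E) : Prop := ∀ x ∈ c.V i, ⁅h, x⁆ ∈ c.V (i + 1) → x ∈ c.V (i + 1)
def Trv (i : ℕ) (h : E) : Prop := ∀ x ∈ c.V i, ⁅h, x⁆ ∈ c.V (i + 1)

theorem mono {i j : ℕ} (h : i ≤ j) : c.V j ≤ c.V i := antitone_nat_of_succ_le c.anti h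
theorem le0 (i : ℕ) : c.V i ≤ c.V 0 := c.mono i.zero_le
theorem conj {i : ℕ} {a b : E} (ha : a ∈ c.V 0) (hb : b ∈ c.V i) : a * b * a⁻¹ ∈ c.V i := by
  simpa [commutatorElement_def] using mul_mem (c.anti i (c.comm i a ha b hb)) hb
theorem zc {z : E} (hz : z ∈ c.Z) (g : E) : z * g = g * z := (mem_center_iff.1 (c.cen hz) g).symm
theorem cz {z : E} (hz : z ∈ c.Z) (a b : E) : ⁅a, b * z⁆ = ⁅a, b⁆ := by
  rw [show ⁅a, b * z⁆ = a * b * (z * a⁻¹) * z⁻¹ * b⁻¹ by group, c.zc hz]; group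
theorem cz' {z : E} (hz : z ∈ c.Z) (a b : E) : ⁅a * z, b⁆ = ⁅a, b⁆ := by
  rw [← commutatorElement_inv, c.cz hz, commutatorElement_inv]

variable {c} {i j : ℕ} {W : Subgroup E}

theorem Fpf.surj [Finite E] {h : E} (hT : h ∈ c.T) (hf : c.Fpf i h) {v : E} (hv : v ∈ c.V i) :
    ∃ x ∈ c.V i, ⁅h, x⁆⁻¹ * v ∈ c.V (i + 1) := by
  have m : ∀ x ∈ c.V i, ⁅h, x⁆ ∈ c.V i := fun x hx => mul_mem (c.nrm i h hT x hx) (inv_mem hx)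
  have e : ∀ x y : E, ⁅h, x⁆⁻¹ * ⁅h, y⁆ = x * ⁅h, x⁻¹ * y⁆ * x⁻¹ := fun x y => by group
  let g : c.V i ⧸ (c.V (i + 1)).subgroupOf (c.V i) → c.V i ⧸ (c.V (i + 1)).subgroupOf (c.V i) :=
    Quotient.map' (fun x => ⟨_, m x.1 x.2⟩) fun x y hxy => by
      rw [QuotientGroup.leftRel_apply, mem_subgroupOf] at *
      change ⁅h, x.1⁆⁻¹ * ⁅h, y.1⁆ ∈ _
      rw [e]
      exact c.conj (c.le0 i x.2) (mul_mem (c.nrm _ h hT _ hxy) (inv_mem hxy))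
  have hg : Function.Injective g := by
    rintro ⟨x⟩ ⟨y⟩ hxy
    have h1 : ⁅h, x.1⁆⁻¹ * ⁅h, y.1⁆ ∈ c.V (i + 1) := mem_subgroupOf.1 ((QuotientGroup.eq (s := (c.V (i + 1)).subgroupOf (c.V i))
      (a := ⟨_, m x.1 x.2⟩) (b := ⟨_, m y.1 y.2⟩)).1 hxy)
    refine QuotientGroup.eq.2 (hf _ (x⁻¹ * y).2 ?_)
    rw [e] at h1
    simpa [mul_assoc] using c.conj (inv_mem (c.le0 i x.2)) h1
  obtain ⟨⟨x⟩, hx⟩ := Finite.surjective_of_injective hg (⟨v, hv⟩ : c.V i)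
  exact ⟨x, x.2, mem_subgroupOf.1 ((QuotientGroup.eq (s := (c.V (i + 1)).subgroupOf (c.V i)) (a := ⟨_, m x.1 x.2⟩) (b := ⟨v, hv⟩)).1 hx)⟩

theorem Good.start (h : c.Good (i + 1) W) : c.Pr W (i + 1) i := fun a ha b hb => by
  obtain ⟨w, hw, z, hz, rfl⟩ := h.sup a ha
  rw [c.cz' hz, show ⁅w, b⁆ = w * (b * w⁻¹ * b⁻¹) by group]
  exact mul_mem hw (h.nV b (c.le0 i hb) _ (inv_mem hw))

theorem Good.right (h : c.Good i W) {a b : E} (ha : a ∈ c.V 0) (hb : b ∈ c.V i) : ⁅a, b⁆ ∈ W := by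
  obtain ⟨w, hw, z, hz, rfl⟩ := h.sup b hb
  rw [c.cz hz]
  exact mul_mem (h.nV a ha _ hw) (inv_mem hw)

theorem Good.pr (h : c.Good (i + 1) W) (hs : ∀ j ≤ i, c.Pr W (j + 1) i → c.Pr W j i) : c.Pr W 0 i := by
  suffices ∀ k ≤ i + 1, c.Pr W (i + 1 - k) i by simpa using this _ le_rfl
  intro k hk
  induction k with
  | zero => exact h.start
  | succ k ih => exact hs _ (by omega) (by rw [show i + 1 - (k + 1) + 1 = i + 1 - k by omega]; exact ih (by omega))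

theorem Good.bil (h : c.Good (i + 1) W) : ∃ f : E → E → E, (∀ a ∈ c.V 0, ∀ b ∈ c.V i, f a b = 1 ↔ ⁅a, b⁆ ∈ W) ∧
    (∀ a ∈ c.V 0, ∀ a' ∈ c.V 0, ∀ b ∈ c.V i, f (a * a') b = f a b * f a' b) ∧
    (∀ a ∈ c.V 0, ∀ b ∈ c.V i, ∀ b' ∈ c.V i, f a (b * b') = f a b * f a b') ∧
    ∀ t ∈ c.T, ∀ a ∈ c.V 0, ∀ b ∈ c.V i, f (t * a * t⁻¹) (t * b * t⁻¹) = f a b := by
  classical
  choose! w hw z hz e using h.sup
  have u : ∀ v ∈ c.V (i + 1), ∀ w' ∈ W, ∀ z' ∈ c.Z, v = w' * z' → z v = z' := fun v hv w' hw' z' hz' e' => by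
    have := h.inf _ (mul_mem (inv_mem hw') (hw v hv)) (by
      rw [show w'⁻¹ * w v = z' * (z v)⁻¹ by rw [eq_mul_inv_iff_mul_eq, mul_assoc, ← e v hv, e']; group]
      exact mul_mem hz' (inv_mem (hz v hv)))
    rw [inv_mul_eq_one] at this
    exact mul_left_cancel ((e v hv).symm.trans (e'.trans (by rw [this])))
  have m : ∀ v ∈ c.V (i + 1), ∀ v' ∈ c.V (i + 1), z (v * v') = z v * z v' := fun v hv v' hv' =>
    u _ (mul_mem hv hv') _ (mul_mem (hw v hv) (hw v' hv')) _ (mul_mem (hz v hv) (hz v' hv')) (by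
      conv_lhs => rw [e v hv, e v' hv', mul_assoc, ← mul_assoc (z v), c.zc (hz v hv)]
      group)
  have k : ∀ g, (∀ w ∈ W, g * w * g⁻¹ ∈ W) → ∀ v ∈ c.V (i + 1), g * v * g⁻¹ ∈ c.V (i + 1) → z (g * v * g⁻¹) = z v :=
    fun g hg v hv hv' => u _ hv' _ (hg _ (hw v hv)) _ (hz v hv) (by
      conv_lhs => rw [e v hv, mul_assoc, mul_assoc, c.zc (hz v hv)]
      group)
  refine ⟨fun a b => z ⁅a, b⁆, fun a ha b hb => ⟨fun e1 => ?_, fun e1 => u _ (c.comm i a ha b hb) _ e1 1 (one_mem _) (by simp)⟩,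
    fun a ha a' ha' b hb => ?_, fun a ha b hb b' hb' => ?_, fun t ht a ha b hb => ?_⟩
  · rw [e _ (c.comm i a ha b hb), show z ⁅a, b⁆ = 1 from e1, mul_one]; exact hw _ (c.comm i a ha b hb)
  · have h1 := c.comm i a' ha' b hb
    simp only
    rw [show ⁅a * a', b⁆ = a * ⁅a', b⁆ * a⁻¹ * ⁅a, b⁆ by group, m _ (c.conj ha h1) _ (c.comm i a ha b hb), k a (h.nV a ha) _ h1 (c.conj ha h1),
      c.zc (hz _ h1)]
  · have h1 := c.comm i a ha b' hb'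
    have h2 := c.le0 i hb
    simp only
    rw [show ⁅a, b * b'⁆ = ⁅a, b⁆ * (b * ⁅a, b'⁆ * b⁻¹) by group, m _ (c.comm i a ha b hb) _ (c.conj h2 h1), k b (h.nV b h2) _ h1 (c.conj h2 h1)]
  · have h1 := c.comm i a ha b hb
    simp only
    rw [← conjugate_commutatorElement, k t (h.nT t ht) _ h1 (c.nrm _ t ht _ h1)]

theorem Good.congr (h : c.Good (i + 1) W) (hp : c.Pr W (j + 1) i) {a b a' b' : E} (ha : a' ∈ c.V j) (hb : b' ∈ c.V i)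
    (h1 : a'⁻¹ * a ∈ c.V (j + 1)) (h2 : b'⁻¹ * b ∈ c.V (i + 1)) (h3 : ⁅a', b'⁆ ∈ W) : ⁅a, b⁆ ∈ W := by
  have hb' : b ∈ c.V i := by simpa using mul_mem hb (c.anti i h2)
  rw [show ⁅a, b⁆ = a' * ⁅a'⁻¹ * a, b⁆ * a'⁻¹ * (⁅a', b'⁆ * (b' * ⁅a', b'⁻¹ * b⁆ * b'⁻¹)) by group]
  exact mul_mem (h.nV _ (c.le0 j ha) _ (hp _ h1 _ hb')) (mul_mem h3 (h.nV _ (c.le0 i hb) _ (h.right (c.le0 j ha) h2)))

theorem Good.reps (h : c.Good (i + 1) W) {A B : Set E} (hA : ∀ a ∈ c.V j, ∃ a' ∈ A, a' ∈ c.V j ∧ a'⁻¹ * a ∈ c.V (j + 1))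
    (hB : ∀ a ∈ c.V i, ∃ a' ∈ B, a' ∈ c.V i ∧ a'⁻¹ * a ∈ c.V (i + 1)) (hAB : ∀ a ∈ A, ∀ b ∈ B, ⁅a, b⁆ ∈ W)
    (hp : c.Pr W (j + 1) i) : c.Pr W j i := fun a ha b hb => by
  obtain ⟨a', h1, h2, h3⟩ := hA a ha
  obtain ⟨b', k1, k2, k3⟩ := hB b hb
  exact h.congr hp h2 k2 h3 k3 (hAB _ h1 _ k1)

theorem inv_of_mul {f : E → E} {A : Subgroup E} (h : ∀ a ∈ A, ∀ b ∈ A, f (a * b) = f a * f b) {a : E} (ha : a ∈ A) :
    f a * f a⁻¹ = 1 := by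
  have := h 1 (one_mem _) 1 (one_mem _)
  rw [← h a ha _ (inv_mem ha), mul_inv_cancel]
  simpa using this

theorem Good.ttl [Finite E] (h : c.Good (i + 1) W) {t : E} (ht : t ∈ c.T) (h1 : c.Fpf j t) (h2 : c.Trv i t)
    (hp : c.Pr W (j + 1) i) : c.Pr W j i := fun a ha b hb => by
  obtain ⟨f, f0, f1, f2, f3⟩ := h.bil
  obtain ⟨x, hx, e⟩ := h1.surj ht ha
  have hx0 := c.le0 j hx
  have m := c.nrm 0 t ht x hx0
  refine h.congr hp (mul_mem (c.nrm j t ht x hx) (inv_mem hx)) hb e (by simp) ((f0 _ (mul_mem m (inv_mem hx0)) _ hb).1 ?_)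
  have := f3 t ht x hx0 b hb
  rw [show t * b * t⁻¹ = ⁅t, b⁆ * b by group, f2 _ m _ (c.anti i (h2 b hb)) _ hb, (f0 _ m _ (c.anti i (h2 b hb))).2
    (h.right m (h2 b hb)), one_mul] at this
  rw [f1 _ m _ (inv_mem hx0) _ hb, this]
  exact inv_of_mul (f := fun a => f a b) (fun a ha a' ha' => f1 a ha a' ha' b hb) hx0

theorem Good.ttr [Finite E] (h : c.Good (i + 1) W) {t : E} (ht : t ∈ c.T) (h1 : c.Trv j t) (h2 : c.Fpf i t)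
    (hp : c.Pr W (j + 1) i) : c.Pr W j i := fun a ha b hb => by
  obtain ⟨f, f0, f1, f2, f3⟩ := h.bil
  obtain ⟨x, hx, e⟩ := h2.surj ht hb
  have h0 := c.le0 j ha
  have m := c.nrm i t ht x hx
  have k := c.le0 _ (h1 a ha)
  refine h.congr hp ha (mul_mem m (inv_mem hx)) (by simp) e ((f0 _ h0 _ (mul_mem m (inv_mem hx))).1 ?_)
  have := f3 t ht a h0 x hx
  rw [show t * a * t⁻¹ = ⁅t, a⁆ * a by group, f1 _ k _ h0 _ m, (f0 _ k _ m).2 (hp _ (h1 a ha) _ m), one_mul] at this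
  rw [f2 _ h0 _ m _ (inv_mem hx), this]
  exact inv_of_mul (f := f a) (f2 a h0) hx

/-- a coordinate on the layer `i` -/
structure Co {F : Type*} [Field F] (c : Chn E) (i : ℕ) (τ : E → F) : Prop where
  mul : ∀ a ∈ c.V i, ∀ b ∈ c.V i, τ (a * b) = τ a + τ b
  ker : ∀ a ∈ c.V i, τ a = 0 ↔ a ∈ c.V (i + 1)

variable {F : Type*} [Field F] {τ υ : E → F}

theorem Co.eq (h : c.Co i τ) {a b : E} (ha : a ∈ c.V i) (hb : b ∈ c.V i) (e : τ a = τ b) : a⁻¹ * b ∈ c.V (i + 1) := by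
  have := h.mul a ha _ (mul_mem (inv_mem ha) hb)
  rw [mul_inv_cancel_left, e, left_eq_add] at this
  exact (h.ker _ (mul_mem (inv_mem ha) hb)).1 this

theorem Co.surj (h : c.Co i τ) (hT : ∀ l : F, l ≠ 0 → ∃ t ∈ c.T, ∀ a ∈ c.V i, τ (t * a * t⁻¹) = l * τ a) {a : E} (ha : a ∈ c.V i)
    (h0 : τ a ≠ 0) (v : F) : ∃ x ∈ c.V i, τ x = v := by
  rcases eq_or_ne v 0 with rfl | hv
  · exact ⟨1, one_mem _, (h.ker _ (one_mem _)).2 (one_mem _)⟩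
  · obtain ⟨t, ht, e⟩ := hT (v / τ a) (div_ne_zero hv h0)
    exact ⟨_, c.nrm i t ht a ha, by rw [e a ha, div_mul_cancel₀ _ h0]⟩

theorem Good.coord (h : c.Good (i + 1) W) (hF : ∃ s : Finset F, 4 < s.card) (h1 : c.Co j τ) (h2 : c.Co i υ)
    (hT : ∀ l : F, l ≠ 0 → ∃ t ∈ c.T, (∀ a ∈ c.V j, τ (t * a * t⁻¹) = l * τ a) ∧ ∀ a ∈ c.V i, υ (t * a * t⁻¹) = l * υ a)
    (hp : c.Pr W (j + 1) i) : c.Pr W j i := fun a ha b hb => by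
  by_cases a0 : τ a = 0
  · exact hp _ ((h1.ker a ha).1 a0) _ hb
  by_cases b0 : υ b = 0
  · exact h.right (c.le0 j ha) ((h2.ker b hb).1 b0)
  obtain ⟨f, f0, f1, f2, f3⟩ := h.bil
  choose x hx ex using h1.surj (fun l hl => (hT l hl).imp fun _ h => ⟨h.1, h.2.1⟩) ha a0
  choose y hy ey using h2.surj (fun l hl => (hT l hl).imp fun _ h => ⟨h.1, h.2.2⟩) hb b0
  have k : ∀ a ∈ c.V j, ∀ b ∈ c.V i, f (x (τ a)) (y (υ b)) = f a b := fun a ha b hb => by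
    have m1 := h1.eq ha (hx _) (ex _).symm
    have m2 := h2.eq hb (hy _) (ey _).symm
    rw [← mul_inv_cancel_left a (x _), f1 _ (c.le0 j ha) _ (c.le0 _ m1) _ (hy _), (f0 _ (c.le0 _ m1) _ (hy _)).2 (hp _ m1 _ (hy _)),
      mul_one, ← mul_inv_cancel_left b (y _), f2 _ (c.le0 j ha) _ hb _ (c.anti i m2), (f0 _ (c.le0 j ha) _ (c.anti i m2)).2
        (h.right (c.le0 j ha) m2), mul_one]
  have k3 : ∀ l : F, l ≠ 0 → ∀ s u, f (x (l * s)) (y (l * u)) = f (x s) (y u) := fun l hl s u => by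
    obtain ⟨t, ht, e1, e2⟩ := hT l hl
    rw [← f3 t ht _ (c.le0 j (hx s)) _ (hy u), ← k _ (c.nrm j t ht _ (hx s)) _ (c.nrm i t ht _ (hy u)), e1 _ (hx s), e2 _ (hy u), ex, ey]
  obtain ⟨v, v0, v1, v2⟩ := H24.exists_v_of_four_lt hF
  rw [← f0 a (c.le0 j ha) b hb, ← k a ha b hb]
  refine H24.biadd_eq_one (f := fun s u => f (x s) (y u)) (fun s s' u => ?_) (fun s u u' => ?_) v0 v1 v2 (k3 v v0) (k3 _ v1) _ _
  · rw [← f1 _ (c.le0 j (hx s)) _ (c.le0 j (hx s')) _ (hy u), ← k _ (mul_mem (hx s) (hx s')) _ (hy u), h1.mul _ (hx s) _ (hx s'), ex, ex, ey]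
  · rw [← f2 _ (c.le0 j (hx s)) _ (hy u) _ (hy u'), ← k _ (hx s) _ (mul_mem (hy u) (hy u')), h2.mul _ (hy u) _ (hy u'), ex, ey, ey]

theorem Good.ext (h : c.Good (i + 1) W) (hp : c.Pr W 0 i) {A : Set E} (h1 : 1 ∈ A) (hA : ∀ a ∈ A, a ∈ c.V i)
    (hm : ∀ a ∈ A, ∀ b ∈ A, ∃ d ∈ A, d⁻¹ * (a * b⁻¹) ∈ W) (hi : ∀ a ∈ A, a ∈ c.V (i + 1) → a ∈ W) (hZ : c.Z ≤ c.V (i + 1))
    (hs : ∀ v ∈ c.V i, ∃ a ∈ A, a⁻¹ * v ∈ c.V (i + 1)) (hT : ∀ t ∈ c.T, ∀ a ∈ A, ∃ d ∈ A, d⁻¹ * (t * a * t⁻¹) ∈ W) :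
    ∃ W', c.Good i W' ∧ W ≤ W' ∧ ∀ a ∈ A, a ∈ W' := by
  have n : ∀ a ∈ A, ∀ w ∈ W, a * w * a⁻¹ ∈ W := fun a ha => h.nV a (c.le0 i (hA a ha))
  let W' : Subgroup E := Subgroup.ofDiv {v | ∃ a ∈ A, a⁻¹ * v ∈ W} ⟨1, 1, h1, by simp⟩ (by
    rintro x ⟨a, ha, e⟩ y ⟨b, hb, e'⟩
    obtain ⟨d, hd, e''⟩ := hm a ha b hb
    refine ⟨d, hd, ?_⟩
    rw [show d⁻¹ * (x * y⁻¹) = d⁻¹ * (a * b⁻¹) * (b * (a⁻¹ * x * (b⁻¹ * y)⁻¹) * b⁻¹) by group]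
    exact mul_mem e'' (n b hb _ (mul_mem e (inv_mem e'))))
  have l : W ≤ W' := fun w hw => ⟨1, h1, by simpa using hw⟩
  have m : ∀ a ∈ A, a ∈ W' := fun a ha => ⟨a, ha, by simp⟩
  have le : W' ≤ c.V i := by
    rintro x ⟨a, ha, e⟩
    simpa using mul_mem (hA a ha) (c.anti i (h.le e))
  refine ⟨W', ⟨le, ?_, fun v hv => ?_, fun g hg w hw => ?_, ?_⟩, l, m⟩
  · rintro x ⟨a, ha, e⟩ hz
    exact h.inf _ (by simpa using mul_mem (hi a ha (by simpa using mul_mem (hZ hz) (inv_mem (h.le e)))) e) hz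
  · obtain ⟨a, ha, e⟩ := hs v hv
    obtain ⟨w, hw, z, hz, e'⟩ := h.sup _ e
    exact ⟨_, mul_mem (m a ha) (l hw), z, hz, by rw [mul_assoc, ← e', mul_inv_cancel_left]⟩
  · simpa [commutatorElement_def] using mul_mem (l (hp g hg w (le hw))) hw
  · rintro t ht x ⟨a, ha, e⟩
    obtain ⟨d, hd, e'⟩ := hT t ht a ha
    refine ⟨d, hd, ?_⟩
    rw [show d⁻¹ * (t * x * t⁻¹) = d⁻¹ * (t * a * t⁻¹) * (t * (a⁻¹ * x) * t⁻¹) by group]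
    exact mul_mem e' (h.nT t ht _ e)

theorem Good.next [Finite E] (h : c.Good (i + 1) W) (hp : c.Pr W 0 i) (hZ : c.Z ≤ c.V (i + 1)) {t : E} (ht : t ∈ c.T) (hf : c.Fpf i t) :
    ∃ W', c.Good i W' ∧ W ≤ W' := by
  have m : ∀ x ∈ c.V i, ⁅t, x⁆ ∈ c.V i := fun x hx => mul_mem (c.nrm i t ht x hx) (inv_mem hx)
  obtain ⟨W', h1, h2, -⟩ := h.ext hp (A := {a | ∃ x ∈ c.V i, a = ⁅t, x⁆}) ⟨1, one_mem _, by simp⟩
    (by rintro _ ⟨x, hx, rfl⟩; exact m x hx) (by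
      rintro _ ⟨x, hx, rfl⟩ _ ⟨y, hy, rfl⟩
      refine ⟨_, ⟨y⁻¹ * x, mul_mem (inv_mem hy) hx, rfl⟩, ?_⟩
      have k := m _ (mul_mem (inv_mem hy) hx)
      rw [show ⁅t, y⁻¹ * x⁆⁻¹ * (⁅t, x⁆ * ⁅t, y⁆⁻¹) = ⁅t, y⁻¹ * x⁆⁻¹ * (⁅⁅t, y⁆ * y, ⁅t, y⁻¹ * x⁆⁆ * (⁅t, y⁻¹ * x⁆ * 1)) * 1 by group]
      simpa [mul_assoc] using h.nV _ (c.le0 i (inv_mem k)) _ (hp _ (c.le0 i (mul_mem (m y hy) hy)) _ k))
    (by
      rintro _ ⟨x, hx, rfl⟩ e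
      obtain ⟨w, hw, z, hz, rfl⟩ := h.sup x (hf x hx e)
      rw [c.cz hz]
      exact mul_mem (h.nT t ht w hw) (inv_mem hw)) hZ
    (fun v hv => let ⟨x, hx, e⟩ := hf.surj ht hv; ⟨_, ⟨x, hx, rfl⟩, e⟩) (by
      rintro s hs _ ⟨x, hx, rfl⟩
      refine ⟨_, ⟨_, c.nrm i s hs x hx, rfl⟩, ?_⟩
      rw [conjugate_commutatorElement, show s * t * s⁻¹ = ⁅s, t⁆ * t by group, c.zc (c.tt s hs t ht), c.cz' (c.tt s hs t ht), inv_mul_cancel]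
      exact one_mem _)
  exact ⟨W', h1, h2⟩

theorem good_bot {m : ℕ} (h : c.V m ≤ c.Z) : c.Good m ⊥ :=
  ⟨bot_le, fun _ h _ => h, fun v hv => ⟨1, one_mem _, v, h hv, by simp⟩, by simp, by simp⟩

theorem comm_inf [Finite E] {m : ℕ} (h : c.V m ≤ c.Z) (hZ : ∀ i, c.Z ≤ c.V i) (hf : ∀ i, ∃ t ∈ c.T, c.Fpf i t)
    (hs : ∀ i, ∀ j ≤ i, ∀ W, c.Good (i + 1) W → c.Pr W (j + 1) i → c.Pr W j i) : ⁅c.V 0, c.V 0⁆ ⊓ c.Z = ⊥ := by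
  have : ∀ k ≤ m, ∃ W, c.Good (m - k) W := fun k hk => by
    induction k with
    | zero => exact ⟨_, good_bot h⟩
    | succ k ih =>
      obtain ⟨W, hW⟩ := ih (by omega)
      rw [show m - k = m - (k + 1) + 1 by omega] at hW
      obtain ⟨t, ht, e⟩ := hf (m - (k + 1))
      exact (hW.next (hW.pr fun j hj => hs _ j hj W hW) (hZ _) ht e).imp fun _ h => h.1
  obtain ⟨W, hW⟩ := this m le_rfl
  rw [Nat.sub_self] at hW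
  exact eq_bot_iff.2 fun z hz => hW.inf z (commutator_le.2 (fun a ha b hb => hW.right ha hb) hz.1) hz.2

end Chn
end H12
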