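import Cfsg.Agent.H12.ML
import Cfsg.Agent.H12.Fld
import Cfsg.Agent.H24.AutBN
import Cfsg.Agent.H13.Stem

/-! Central extensions of twisted groups with kernel of order prime to `p`: canonical lifts (`PE`, `CX`, `Lf`), the rank one groups
`LO`, the splitting theorem `CX.ker_inf` and the criterion `schur_one` for a trivial Schur multiplier; rank one data of type `A₁`
(`R1O`, `OrbL.r1o`). -/

set_option autoImplicit false

namespace H12
open Cfsg.Lie H13 H24 StSys Tw Subgroup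
open scoped commutatorElement Pointwise

universe u
section grp
variable {E Γ : Type*} [Group E] [Group Γ] {p : ℕ} {π : E →* Γ}

def PE (p : ℕ) (e : E) : Prop := ∃ k, e ^ p ^ k = 1
theorem PE.one : PE p (1 : E) := ⟨0, by simp⟩
theorem PE.conj {e : E} (h : PE p e) (g : E) : PE p (g * e * g⁻¹) := h.imp fun k hk => by rw [conj_pow, hk]; simp
theorem PE.inv {e : E} (h : PE p e) : PE p e⁻¹ := h.imp fun k hk => by rw [inv_pow, hk, inv_one]
theorem pe_of_mem {A : Subgroup Γ} (hA : IsPGroup p A) {a : Γ} (ha : a ∈ A) : PE p a :=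
  (hA ⟨a, ha⟩).imp fun _ h => congrArg Subtype.val h

structure CX (π : E →* Γ) (p : ℕ) : Prop where
  cen : π.ker ≤ center E
  cop : ∃ m, p.Coprime m ∧ ∀ z, π z = 1 → z ^ m = 1

theorem CX.exists_lift (h : CX π p) {x : Γ} (hx : x ∈ π.range) (hp : PE p x) : ∃ e, π e = x ∧ PE p e := by
  obtain ⟨e, rfl⟩ := hx
  obtain ⟨k, hk⟩ := hp
  obtain ⟨m, h1, h2⟩ := h.cop
  obtain ⟨a, h3, h4⟩ := Nat.chineseRemainder (h1.pow_left k) 1 0
  obtain ⟨b, rfl⟩ := Nat.modEq_zero_iff_dvd.1 h4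
  refine ⟨e ^ (m * b), ?_, k, ?_⟩
  · rw [map_pow, pow_eq_pow_iff_modEq.2 (h3.of_dvd (orderOf_dvd_of_pow_eq_one hk)), pow_one]
  · rw [← pow_mul, mul_comm, pow_mul, pow_mul, h2 _ (by rw [map_pow, hk]), one_pow]
theorem CX.eq_one (h : CX π p) {z : E} (h1 : π z = 1) (h2 : PE p z) : z = 1 := by
  obtain ⟨k, hk⟩ := h2
  obtain ⟨m, h3, h4⟩ := h.cop
  exact orderOf_eq_one_iff.1 (Nat.eq_one_of_dvd_coprimes (h3.pow_left k) (orderOf_dvd_of_pow_eq_one hk) (orderOf_dvd_of_pow_eq_one (h4 z h1)))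
theorem CX.unique (h : CX π p) {a b : E} (ha : PE p a) (hb : PE p b) (e : π a = π b) : a = b := by
  obtain ⟨k, hk⟩ := ha
  obtain ⟨l, hl⟩ := hb
  have h1 : π (b⁻¹ * a) = 1 := by simp [e]
  have h2 : Commute b (b⁻¹ * a) := mem_center_iff.1 (h.cen h1) b
  refine (inv_mul_eq_one.1 (h.eq_one h1 ⟨k + l, ?_⟩)).symm
  have := h2.mul_pow (p ^ (k + l))
  rwa [mul_inv_cancel_left, pow_add, pow_mul, hk, one_pow, mul_comm (p ^ k), pow_mul b, hl, one_pow, one_mul, mul_comm, ← pow_add, eq_comm] at this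

variable (π p) in
def Lf (A : Subgroup Γ) : Subgroup E := closure {e | π e ∈ A ∧ PE p e}
theorem Lf_le (A : Subgroup Γ) : Lf p π A ≤ A.comap π := (closure_le _).2 fun _ h => h.1
theorem mem_Lf {A : Subgroup Γ} {e : E} (h : π e ∈ A) (h' : PE p e) : e ∈ Lf p π A := subset_closure ⟨h, h'⟩
theorem conj_Lf {A B : Subgroup Γ} {g e : E} (h : ∀ a ∈ A, π g * a * (π g)⁻¹ ∈ B) (he : e ∈ Lf p π A) : g * e * g⁻¹ ∈ Lf p π B :=
  conj_closure_mem (fun a ha => mem_Lf (by simpa using h _ ha.1) (ha.2.conj g)) he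
theorem CX.pe [Finite E] [Fact p.Prime] (h : CX π p) {A : Subgroup Γ} (hA : IsPGroup p A) {e : E} (he : e ∈ Lf p π A) : PE p e := by
  let f := (π.subgroupComap A).rangeRestrict
  have : Finite (π.subgroupComap A).range := Finite.of_surjective f (MonoidHom.rangeRestrict_surjective _)
  have := (hA.to_subgroup (π.subgroupComap A).range).isNilpotent
  have := Subgroup.isNilpotent_of_ker_le_center f fun x hx => mem_center_iff.2 fun y => Subtype.ext
    (mem_center_iff.1 (h.cen (congrArg (·.1.1) (MonoidHom.mem_ker.1 hx))) y)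
  obtain ⟨Q⟩ : Nonempty (Sylow p (A.comap π)) := inferInstance
  have hQ := normalizer_eq_top_iff.2 (Q.normal_of_normalizerCondition normalizerCondition_of_isNilpotent)
  refine pe_of_mem (Q.2.map (A.comap π).subtype) ((closure_le (Q.1.map (A.comap π).subtype)).2 (fun a ha => ?_) he)
  obtain ⟨h1, k, h2⟩ := ha
  refine ⟨⟨a, h1⟩, ?_, rfl⟩
  have := IsPGroup.inf_normalizer_sylow (P := zpowers (⟨a, h1⟩ : A.comap π)) (by
    obtain ⟨j, -, hj⟩ := (Nat.dvd_prime_pow Fact.out).1 (orderOf_dvd_of_pow_eq_one (x := (⟨a, h1⟩ : A.comap π)) (Subtype.ext h2))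
    exact IsPGroup.of_card (by rw [Nat.card_zpowers, hj])) Q
  exact (this.le ⟨mem_zpowers _, hQ.ge trivial⟩).2
end grp

variable {D : ChevalleyDatum} [G : Good D] {F : Type*} [Field F] {R : RSym D}

theorem pos_orb {w : W D} (hw : w ∈ R.W1) {i : I D} (hi : IsPos (w • sim i)) {r : Φ D} (hr : IsPos r) (hJ : InJ (R.orb i) r) :
    IsPos (w • r) := isPos_smul_of_sim hr fun k hk => by_contra fun h =>
  have h1 : k ∈ R.orb i := by_contra fun h => hk (hJ k h)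
  (RSym.inv_neg hw).orb_subset h (RSym.orb_eq_of_mem h1 ▸ RSym.mem_orb i) hi
theorem neg_orb {w : W D} (hw : w ∈ R.W1) {i : I D} (hi : ¬ IsPos (w • sim i)) {r : Φ D} (hr : IsPos r) (hJ : InJ (R.orb i) r) :
    ¬ IsPos (w • r) := not_isPos_smul_of_sim hr fun k hk => (RSym.inv_neg hw).orb_subset hi (by_contra fun h => hk (hJ k h))

variable (R) in
noncomputable def wq (l : List (I D)) : W D := (l.map fun i => w0J (R.orb i)).prod
theorem wq_mem (l : List (I D)) : wq R l ∈ R.W1 := list_prod_mem fun _ h => by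
  obtain ⟨i, -, rfl⟩ := List.mem_map.1 h; exact (RSym.inv_orb i).w0J_mem
theorem wq_del {r : Φ D} (hr : IsPos r) {l : List (I D)} (h : ¬ IsPos (wq R l • r)) :
    ∃ l1 j l2, l = l1 ++ j :: l2 ∧ IsPos (wq R l2 • r) ∧ ¬ IsPos ((w0J (R.orb j) * wq R l2) • r) := by
  induction l with
  | nil => exact (h (by simpa [wq] using hr)).elim
  | cons j l ih =>
    by_cases e : IsPos (wq R l • r)
    · exact ⟨[], j, l, rfl, e, h⟩
    · obtain ⟨l1, k, l2, rfl, h'⟩ := ih e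
      exact ⟨j :: l1, k, l2, rfl, h'⟩
theorem exists_wq {w : W D} (hw : w ∈ R.W1) : ∃ l, wq R l = w :=
  RSym.W1_induction (P := fun w => ∃ l, wq R l = w) ⟨[], rfl⟩ (by rintro _ - i - ⟨l, rfl⟩; exact ⟨l ++ [i], by simp [wq]⟩) hw

section split
variable {Γ : Type*} [Group Γ] {S : StSys D F Γ} {τ : Tw S R} {θ : Γ →* GL D.Idx F} {E : Type*} [Group E] {π : E →* Γ} {p : ℕ}

variable (S R p π) in
def LO (i : I D) : Subgroup E := Lf p π (UO S R i) ⊔ Lf p π (VO S R i)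
variable (S R p π) in
def HO (i : I D) : Subgroup E := LO R S π p i ⊓ S.H.comap π
variable (S R p π) in
def HH : Subgroup E := ⨆ i, HO R S π p i

theorem LO_le (i : I D) : LO R S π p i ≤ (S.gen {r | InJ (R.orb i) r}).comap π :=
  sup_le ((Lf_le _).trans (comap_mono (S.gen_mono fun _ h => h.2))) ((Lf_le _).trans (comap_mono (S.gen_mono fun _ h => h.2)))
theorem HH_le : HH R S π p ≤ S.H.comap π := iSup_le fun _ => inf_le_right
theorem HO_le (i : I D) : HO R S π p i ≤ HH R S π p := le_iSup (HO R S π p) i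
theorem conj_LO {g e : E} {w : W D} {k l : I D} (hg : S.Act (π g) w) (h : ∀ r, IsPos r → InJ (R.orb k) r → IsPos (w • r) ∧ InJ (R.orb l) (w • r))
    (he : e ∈ LO R S π p k) : g * e * g⁻¹ ∈ LO R S π p l :=
  (sup_le (fun _ ha => mem_sup_left (conj_Lf (fun _ => hg.conj_mem fun r hr => h r hr.1 hr.2) ha))
    (fun _ ha => mem_sup_right (conj_Lf (fun _ => hg.conj_mem fun r hr => by
      simpa [smul_ng, isPos_ng] using h (ng r) (isPos_ng.2 hr.1) (inJ_ng.2 hr.2)) ha)) :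
      LO R S π p k ≤ (LO R S π p l).comap (MulAut.conj g).toMonoidHom) he
theorem comm_HO {i : I D} {m h : E} {w : W D} (hm : m ∈ LO R S π p i) (hw : S.Rep (π m) w) (hh : π h ∈ S.H) : ⁅m, h⁆ ∈ HO R S π p i :=
  ⟨by simpa [commutatorElement_def, mul_assoc] using mul_mem hm (conj_LO (act_of_mem_H hh) (fun r h1 h2 => by simpa using ⟨h1, h2⟩) (inv_mem hm)),
    by simpa [commutatorElement_def] using mul_mem (hw.act.conj_mem_H hh) (inv_mem hh)⟩
theorem conj_HH {i : I D} {m h : E} {w : W D} (hm : m ∈ LO R S π p i) (hw : S.Rep (π m) w) (hh : h ∈ HH R S π p) : m * h * m⁻¹ ∈ HH R S π p := by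
  simpa [commutatorElement_def] using mul_mem (HO_le i (comm_HO hm hw (HH_le hh))) hh
theorem mul_HO {i : I D} {m n : E} (hm : m ∈ LO R S π p i) (hn : n ∈ LO R S π p i) (h1 : S.Rep (π m) (w0J (R.orb i)))
    (h2 : S.Rep (π n) (w0J (R.orb i))) : m * n ∈ HH R S π p :=
  HO_le i ⟨mul_mem hm hn, by simpa using (show S.Rep _ 1 by simpa using h1.mul h2).mem_H⟩

theorem HH_inf (h3 : S.R3) {T : Subgroup (I D → Fˣ)} (hT : ∀ c ∈ T, S.hl c = 1 → c = 1) (ha : ∀ i, ∀ z ∈ LO R S π p i, π z = 1 → z = 1)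
    (hc : ∀ i, ∀ z ∈ HO R S π p i, ∃ c ∈ T, (∀ j ∉ R.orb i, c j = 1) ∧ π z = S.hl c) {z : E} (hz : z ∈ HH R S π p) (h1 : π z = 1) : z = 1 := by
  classical
  have cm : ∀ i, ∀ a ∈ HO R S π p i, ∀ b, π b ∈ S.H → a * b = b * a := fun i a h b hb =>
    commutatorElement_eq_one_iff_mul_comm.1 (ha i _ (comm_HO h.1 (rep_of_mem_H h.2) hb).1 (by
      rw [map_commutatorElement, commutatorElement_eq_one_iff_mul_comm]; exact h3.comm h.2 hb))
  have key : ∀ s : Finset (I D), ∀ z ∈ ⨆ i ∈ s, HO R S π p i,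
      (∃ c ∈ T, (∀ j, (∀ i ∈ s, j ∉ R.orb i) → c j = 1) ∧ π z = S.hl c) ∧ (π z = 1 → z = 1) := fun s => by
    induction s using Finset.induction_on with
    | empty => intro z hz; obtain rfl : z = 1 := by simpa using hz
               exact ⟨⟨1, one_mem _, by simp, by rw [map_one, ← h3.hprod_apply, map_one]⟩, fun _ => rfl⟩
    | insert i s _ ih =>
      intro z hz
      rw [Finset.iSup_insert] at hz
      by_cases e : ∃ k ∈ s, R.orb i = R.orb k
      · obtain ⟨k, hk, e⟩ := e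
        have e' : HO R S π p i = HO R S π p k := by simp only [HO, LO, UO, VO, e]
        have := ih z ((sup_le (le_iSup₂_of_le k hk e'.le) le_rfl : _ ≤ ⨆ i ∈ s, HO R S π p i) hz)
        exact ⟨this.1.imp fun c h => ⟨h.1, fun j hj => h.2.1 j fun i hi => hj i (by simp [hi]), h.2.2⟩, this.2⟩
      have le : ⨆ i ∈ s, HO R S π p i ≤ S.H.comap π := iSup₂_le fun _ _ => inf_le_right
      obtain ⟨a, h4, b, h5, rfl⟩ : z ∈ (HO R S π p i : Set E) * ((⨆ i ∈ s, HO R S π p i : Subgroup E) : Set E) := by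
        rwa [← Subgroup.coe_mul_of_left_le_normalizer_right _ _ fun a h => mem_normalizer_of_conj
          (fun k hk => by rwa [cm i a h k (le hk), mul_inv_cancel_right]) fun k hk => by rwa [mul_assoc, ← cm i a h k (le hk), inv_mul_cancel_left]]
      obtain ⟨c, c1, c2, c3⟩ := hc i a h4
      obtain ⟨⟨d, d1, d2, d3⟩, d4⟩ := ih b h5
      have e1 : π (a * b) = S.hl (c * d) := by rw [map_mul, c3, d3]; exact (h3.hprod.map_mul c d).symm
      refine ⟨⟨c * d, mul_mem c1 d1, fun j hj => by simp [c2 j (hj i (by simp)), d2 j fun i hi => hj i (by simp [hi])], e1⟩, fun e2 => ?_⟩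
      have e3 := hT _ (mul_mem c1 d1) (e1 ▸ e2)
      obtain rfl : c = 1 := funext fun j => by
        by_cases hj : j ∈ R.orb i
        · simpa [d2 j fun k hk h => e ⟨k, hk, (RSym.orb_eq_of_mem hj).symm.trans (RSym.orb_eq_of_mem h)⟩] using congrFun e3 j
        · exact c2 j hj
      obtain rfl := ha i a h4.1 (by rw [c3, ← h3.hprod_apply, map_one])
      simpa using d4 (by simpa using e2)
  exact (key Finset.univ z (by simpa [HH] using hz)).2 h1

variable [Finite F] [Finite E] [Fact p.Prime] [CharP F p] (hx : CX π p) (hK : τ.Adm π.range) (hθ : S.Cov θ)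
include hx hK hθ

theorem CX.rank1 {i : I D} {v : E} (hv : v ∈ Lf p π (VO S R i)) (h1 : v ≠ 1) : ∃ a ∈ Lf p π (UO S R i), ∃ m ∈ LO R S π p i,
    ∃ b ∈ Lf p π (UO S R i), S.Rep (π m) (w0J (R.orb i)) ∧ v = a * m * b := by
  have h2 : π v ∈ VO S R i := Lf_le _ hv
  have hL : π v ∈ S.LJ (R.orb i) := mem_sup_left (S.gen_mono (fun _ h => h.2) h2)
  obtain ⟨w, hw, hc⟩ := mem_P.1 (UJ_sup_LJ (S := S) _ ▸ mem_sup_right hL)
  obtain rfl : w = w0J (R.orb i) := (RSym.eq_one_or_w0J (mem_W1 hθ (hK.le ⟨v, rfl⟩) hc) hw).resolve_left (by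
    rintro rfl
    exact h1 (hx.eq_one (hθ.eq_one_of_V_B (VO_le i h2) (cell_one.1 hc))
      (hx.pe ((hθ.isPGroup_gen p closed_not_isPos neg_fl).to_le (VO_le i)) hv)))
  obtain ⟨u, hu, n, -, hn, u', hu', e⟩ := hK.exists_unu hθ ⟨v, rfl⟩ hc
  have a4 : u ∈ S.Um _ := hθ.mem_Um_of_LJ hu.1 (by
    simpa [e] using mul_mem (mul_mem hL (inv_mem (mem_sup_left (S.gen_mono (fun _ h => (mem_inv_w0J.1 h).2) hu'.1))))
      (inv_mem (NJ_le_LJ _ (mem_NJ.2 ⟨_, hw, hn⟩))))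
  obtain ⟨a, rfl, ha⟩ := hx.exists_lift hu.2 (pe_of_mem (hθ.isPGroup_U p) hu.1)
  obtain ⟨b, rfl, hb⟩ := hx.exists_lift hu'.2 (pe_of_mem (hθ.isPGroup_U p) (S.Um_le_U _ hu'.1))
  have m1 := mem_Lf (A := UO S R i) (mem_Um_w0J (S := S) ▸ a4) ha
  have m2 := mem_Lf (A := UO S R i) (mem_Um_w0J (S := S) ▸ hu'.1) hb
  exact ⟨a, m1, a⁻¹ * v * b⁻¹, mul_mem (mul_mem (inv_mem (mem_sup_left m1)) (mem_sup_right hv)) (inv_mem (mem_sup_left m2)), b, m2,
    by simpa [e, mul_assoc] using hn, by group⟩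

theorem CX.exists_n (i : I D) : ∃ m ∈ LO R S π p i, S.Rep (π m) (w0J (R.orb i)) := by
  obtain ⟨v, h1, h2, h3⟩ := hK.neV i
  obtain ⟨a, rfl, ha⟩ := hx.exists_lift h1 (pe_of_mem (hθ.isPGroup_gen p closed_not_isPos neg_fl) (VO_le i h2))
  obtain ⟨-, -, m, h4, -, -, h5, -⟩ := hx.rank1 hK hθ (mem_Lf (A := VO S R i) h2 ha) (by rintro rfl; simp at h3)
  exact ⟨m, h4, h5⟩

theorem CX.decomp (i : I D) {n u : E} (hn : S.Rep (π n) (w0J (R.orb i))) (hu : u ∈ Lf p π S.U) :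
    ∃ a ∈ Lf p π S.U, ∃ b ∈ Lf p π (UO S R i), n * u = a * n * b := by
  obtain ⟨c, hc, b, hb, e⟩ := hK.exists_bnu hθ ⟨n * u, rfl⟩ (by simpa using hn.cell.mul_right (S.U_le_B (Lf_le _ hu))) hn ⟨n, rfl⟩
  obtain ⟨b, rfl, hb'⟩ := hx.exists_lift hb.2 (pe_of_mem (hθ.isPGroup_U p) (S.Um_le_U _ hb.1))
  have m := mul_mem hu (inv_mem (mem_Lf (A := S.U) (S.Um_le_U _ hb.1) hb'))
  refine ⟨n * (u * b⁻¹) * n⁻¹, mem_Lf ?_ ((hx.pe (hθ.isPGroup_U p) m).conj n), b, mem_Lf (A := UO S R i) (mem_Um_w0J (S := S) ▸ hb.1 :) hb', by group⟩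
  obtain ⟨x, h1, y, h2, e1⟩ := U_decomp (w0J (R.orb i)) (Lf_le _ m)
  have e2 : π n * (x * y) * (π n)⁻¹ = c := by rw [← e1, mul_inv_eq_iff_eq_mul, map_mul, map_inv, ← mul_assoc, ← map_mul, e]; group
  have := hθ.eq_one_of_V_B (hn.conj_Um h2) (by simpa [← e2, mul_assoc] using mul_mem (inv_mem (S.U_le_B (hn.conj_Up h1))) hc.1)
  rw [map_mul, map_mul, map_inv, e1, show y = 1 by simpa using this, mul_one]
  exact hn.conj_Up h1

theorem CX.ker_inf (hG : π.range ≤ τ.G1) (hH : ∀ z ∈ HH R S π p, π z = 1 → z = 1) {z : E} (h1 : π z = 1) (h2 : z ∈ commutator E) : z = 1 := by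
  choose n n1 n2 using hx.exists_n hK hθ
  let nw : List (I D) → E := fun l => (l.map n).prod
  have r1 : ∀ l, S.Rep (π (nw l)) (wq R l) := fun l => by
    induction l with
    | nil => simpa [nw, wq] using rep_of_mem_H (one_mem S.H)
    | cons i l ih => simpa [nw, wq] using (n2 i).mul ih
  have r2 : ∀ l, ∀ h ∈ HH R S π p, nw l * h * (nw l)⁻¹ ∈ HH R S π p := fun l => by
    induction l with
    | nil => simp [nw]
    | cons i l ih => exact fun h hh => by simpa [nw, mul_assoc] using conj_HH (n1 i) (n2 i) (ih h hh)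
  have r3 : ∀ k l, l.length = k → wq R l = 1 → nw l ∈ HH R S π p := fun k => by
    induction k using Nat.strong_induction_on with
    | _ k ih =>
    intro l hl e
    rcases l.eq_nil_or_concat with rfl | ⟨l, i, rfl⟩
    · simp [nw]
    have e1 : wq R l = w0J (R.orb i) := by
      rw [← w0J_inv]; exact eq_inv_of_mul_eq_one_left (by simpa [wq] using e)
    obtain ⟨l1, j, l2, rfl, p1, p2⟩ := wq_del (R := R) (isPos_sim i) (l := l) (by
      rw [e1, isPos_w0J (inJ_sim.2 (RSym.mem_orb i))]; exact not_not.2 (isPos_sim i))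
    have m1 := conj_LO (l := j) (r1 l2).act (fun r a1 a2 => mem_inv_w0J.1 (mem_inv.2 ⟨pos_orb (wq_mem l2) p1 a1 a2, by
      rw [← mul_smul]; exact neg_orb (mul_mem (RSym.inv_orb j).w0J_mem (wq_mem l2)) p2 a1 a2⟩)) (n1 i)
    have m2 : S.Rep (π (nw l2 * n i * (nw l2)⁻¹)) (wq R l2 * w0J (R.orb i) * (wq R l2)⁻¹) := by
      simpa using ((r1 l2).mul (n2 i)).mul (r1 l2).inv
    obtain ⟨w, hw, hc⟩ := mem_P.1 (UJ_sup_LJ (S := S) _ ▸ mem_sup_right (mem_sup_left (T := S.H) (mem_comap.1 (LO_le j m1))))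
    obtain rfl := hθ.cell_unique hc m2.cell
    rw [(RSym.eq_one_or_w0J (mul_mem (mul_mem (wq_mem l2) (RSym.inv_orb i).w0J_mem) (inv_mem (wq_mem l2))) hw).resolve_left
      (by simpa using w0J_ne_one (RSym.mem_orb i))] at m2
    have m3 := r2 l1 _ (mul_HO (n1 j) m1 (n2 j) m2)
    have e2 : nw ((l1 ++ j :: l2).concat i) = nw l1 * (n j * (nw l2 * n i * (nw l2)⁻¹)) * (nw l1)⁻¹ * nw (l1 ++ l2) := by simp [nw, mul_assoc]
    refine e2 ▸ mul_mem m3 (ih _ (by simp at hl ⊢; omega) _ rfl ?_)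
    have := r1 ((l1 ++ j :: l2).concat i)
    rw [e, e2, map_mul] at this
    simpa using hθ.rep_unique ((rep_of_mem_H (HH_le m3)).mul (r1 _)) this
  let P : E → Prop := fun e => ∃ u ∈ Lf p π S.U, ∃ h ∈ HH R S π p, ∃ l, ∃ u' ∈ Lf p π S.U, e = u * (h * nw l) * u'
  have cU : ∀ h, π h ∈ S.H → ∀ u ∈ Lf p π S.U, h * u * h⁻¹ ∈ Lf p π S.U := fun h hh u =>
    conj_Lf fun _ => conj_mem_of_normalizer (H_le_normalizer _ hh)
  have P1 : ∀ x ∈ Lf p π S.U, ∀ e, P e → P (x * e) := by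
    rintro x hx _ ⟨u, a1, h, a2, l, u', a3, rfl⟩
    exact ⟨_, mul_mem hx a1, h, a2, l, u', a3, by group⟩
  have P2 : ∀ x ∈ HH R S π p, ∀ e, P e → P (x * e) := by
    rintro x hx _ ⟨u, a1, h, a2, l, u', a3, rfl⟩
    exact ⟨_, cU x (HH_le hx) u a1, _, mul_mem hx a2, l, u', a3, by group⟩
  have P3 : ∀ i e, P e → P (n i * e) := by
    rintro i _ ⟨u, a1, h, a2, l, u', a3, rfl⟩
    obtain ⟨a, b1, b, b2, e⟩ := hx.decomp hK hθ i (n2 i) a1
    have k1 : S.Rep (π (h * nw l)⁻¹) (wq R l)⁻¹ := by simpa using ((rep_of_mem_H (HH_le a2)).mul (r1 l)).inv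
    have k2 : ∀ b', (h * nw l)⁻¹ * b' * (h * nw l)⁻¹⁻¹ ∈ Lf p π S.U → P (n i * b' * (h * nw l) * u') := fun b' hb =>
      ⟨1, one_mem _, _, conj_HH (n1 i) (n2 i) a2, i :: l, _, mul_mem hb a3, by simp [nw, mul_assoc]⟩
    rw [show n i * (u * (h * nw l) * u') = a * (n i * b * (h * nw l) * u') by rw [← mul_assoc, ← mul_assoc, e]; group]
    refine P1 a b1 _ ?_
    by_cases hp : IsPos ((wq R l)⁻¹ • sim i)
    · exact k2 b (conj_Lf (fun _ => conj_UO_U (inv_mem (wq_mem l)) hp k1) b2)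
    by_cases hb : b = 1
    · exact k2 b (by simp [hb])
    obtain ⟨c, c1, m, c2, d, c3, c4, e1⟩ := hx.rank1 hK hθ (i := i) (conj_Lf (g := n i) (fun _ => (n2 i).act.conj_mem fun r hr =>
      And.intro (fun h => (isPos_w0J hr.2).1 h hr.1) ((inJ_smul (w0J_mem _)).2 hr.2)) b2) (by simpa using hb)
    have k3 : S.Rep (π (n i * (h * nw l))⁻¹) ((wq R l)⁻¹ * w0J (R.orb i)) := by simpa using k1.mul (n2 i).inv
    refine ⟨c, closure_mono (fun _ h => And.intro (UO_le i h.1) h.2) c1, _, mul_mem (mul_HO c2 (n1 i) c4 (n2 i)) a2, l, _, mul_mem (conj_Lf (fun _ => k3.act.conj_mem fun r hr => ?_) c3) a3, ?_⟩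
    · have := neg_orb (inv_mem (wq_mem l)) hp (isPos_ng.2 fun h => (isPos_w0J hr.2).1 h hr.1) (inJ_ng.2 ((inJ_smul (w0J_mem _)).2 hr.2))
      rwa [smul_ng, isPos_ng, not_not, ← mul_smul] at this
    · rw [show n i * b = c * m * d * n i by rw [← e1]; group]; group
  let E₀ := closure ((Lf p π S.U : Set E) ∪ HH R S π p ∪ Set.range n)
  have P4 : ∀ e ∈ E₀, P e := fun e he => by
    induction he using closure_induction_left with
    | one => exact ⟨1, one_mem _, 1, one_mem _, [], 1, one_mem _, by simp [nw]⟩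
    | mul_left x hx y _ ih =>
      rcases hx with (hx | hx) | ⟨i, rfl⟩
      exacts [P1 x hx y ih, P2 x hx y ih, P3 i y ih]
    | inv_mul_cancel x hx y _ ih =>
      rcases hx with (hx | hx) | ⟨i, rfl⟩
      exacts [P1 _ (inv_mem hx) y ih, P2 _ (inv_mem hx) y ih,
        by simpa [mul_assoc] using P2 _ (inv_mem (mul_HO (n1 i) (n1 i) (n2 i) (n2 i))) _ (P3 i y ih)]
  have s1 : ∀ u ∈ S.U ⊓ τ.Fix, u ∈ E₀.map π := fun u hu => by
    obtain ⟨a, rfl, ha⟩ := hx.exists_lift (hK.U_le hθ hu) (pe_of_mem (hθ.isPGroup_U p) hu.1)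
    exact ⟨a, subset_closure (Or.inl (Or.inl (mem_Lf hu.1 ha))), rfl⟩
  have s2 : π.range ≤ E₀.map π := hG.trans (sup_le s1 fun v hv => by
    obtain ⟨l, hl⟩ := exists_wq (RSym.w0_mem (R := R))
    have m : π (nw l) ∈ E₀.map π := ⟨_, list_prod_mem fun _ h => by
      obtain ⟨i, -, rfl⟩ := List.mem_map.1 h; exact subset_closure (Or.inr ⟨i, rfl⟩), rfl⟩
    have f := hK.le ⟨nw l, rfl⟩
    simpa [mul_assoc] using mul_mem (mul_mem (inv_mem m) (s1 _ ⟨(r1 l).act.conj_mem (fun r hr => by rw [hl]; exact isPos_w0.2 hr) hv.1,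
      τ.Fix.mul_mem (mul_mem f hv.2) (inv_mem f)⟩)) m)
  have s3 : commutator E ≤ E₀ := commutator_le.2 fun a _ b _ => by
    obtain ⟨a', ha, e1⟩ := s2 ⟨a, rfl⟩
    obtain ⟨b', hb, e2⟩ := s2 ⟨b, rfl⟩
    rw [← comm_congr hx.cen e1 e2]
    exact mul_mem (mul_mem (mul_mem ha hb) (inv_mem ha)) (inv_mem hb)
  obtain ⟨u, a1, h, a2, l, u', a3, rfl⟩ := P4 z (s3 h2)
  have e1 : wq R l = 1 := hθ.cell_unique (g := 1) (by
    simpa [← h1] using ((((rep_of_mem_H (HH_le a2)).mul (r1 l)).cell.mul_left (S.U_le_B (Lf_le _ a1))).mul_right (S.U_le_B (Lf_le _ a3))))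
    (cell_one.2 (one_mem _))
  have m1 := mul_mem a2 (r3 _ l rfl e1)
  have m2 := mul_mem a1 (cU _ (HH_le m1) u' a3)
  obtain ⟨e2, e3⟩ := hθ.uh_unique (Lf_le _ m2) (one_mem _) (HH_le m1) (one_mem _) (by simpa [mul_assoc] using h1)
  have := hx.eq_one e2 (hx.pe (hθ.isPGroup_U p) m2)
  rw [hH _ m1 e3] at this ⊢
  simpa using this

end split

section r1
variable {Γ : Type*} [Group Γ] {S : StSys D F Γ} {θ : Γ →* GL D.Idx F} {E : Type*} [Group E] {π : E →* Γ} {p : ℕ}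
  {F₀ : Type*} [Field F₀] {K : Subgroup Γ} {T : Subgroup (I D → Fˣ)} {i : I D}

variable (S R K T i) in
/-- the rank one group at the node `i` is a quotient of `SL₂(F₀)` -/
structure R1O (A : R1 F₀ Γ) : Prop where
  x : ∀ t, A.x t ∈ UO S R i ⊓ K
  y : ∀ t, A.y t ∈ VO S R i ⊓ K
  sx : ∀ u ∈ UO S R i ⊓ K, ∃ t, u = A.x t
  n : ∀ t, S.Rep (A.n t) (w0J (R.orb i))
  h : ∀ t, ∃ c ∈ T, (∀ j ∉ R.orb i, c j = 1) ∧ A.h t = S.hl c ∧ (c = 1 → t = 1)

theorem R1O.lo [Finite F] [Finite F₀] [Finite E] [Fact p.Prime] [CharP F p] {A : R1 F₀ Γ} (h : R1O R S π.range T i A) (hx : CX π p)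
    (hθ : S.Cov θ) (hT : ∀ c ∈ T, S.hl c = 1 → c = 1) {z : E} (hz : z ∈ LO R S π p i) (h1 : π z ∈ S.H) :
    (∃ c ∈ T, (∀ j ∉ R.orb i, c j = 1) ∧ π z = S.hl c) ∧ (π z = 1 → z = 1) := by
  have pU := hθ.isPGroup_U p
  have pV := hθ.isPGroup_gen p closed_not_isPos neg_fl
  choose x x1 x2 using fun t => hx.exists_lift (h.x t).2 (pe_of_mem pU (UO_le i (h.x t).1))
  choose y y1 y2 using fun t => hx.exists_lift (h.y t).2 (pe_of_mem pV (VO_le i (h.y t).1))
  have x3 : ∀ t, x t ∈ Lf p π S.U := fun t => mem_Lf (x1 t ▸ UO_le i (h.x t).1) (x2 t)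
  have y3 : ∀ t, y t ∈ Lf p π S.V := fun t => mem_Lf (y1 t ▸ VO_le i (h.y t).1) (y2 t)
  let B : R1 F₀ E := ⟨x, y, fun t u => hx.unique (x2 _) (hx.pe pU (mul_mem (x3 t) (x3 u))) (by simp [x1, A.x_add]),
    fun t u => hx.unique (y2 _) (hx.pe pV (mul_mem (y3 t) (y3 u))) (by simp [y1, A.y_add]),
    fun t u => hx.unique ((x2 _).conj _) (y2 _) (by simpa [x1, y1] using A.nx t u)⟩
  have bn : ∀ t, π (B.n t) = A.n t := fun t => by simp [R1.n, B, x1, y1]
  have nK : A.n 1 ∈ π.range := ⟨_, bn 1⟩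
  have le : LO R S π p i ≤ B.T := sup_le ((closure_le _).2 fun a ha => by
      obtain ⟨t, e⟩ := h.sx _ ⟨ha.1, a, rfl⟩
      exact subset_closure (Or.inl ⟨t, hx.unique (x2 t) ha.2 (by rw [x1, e])⟩)) ((closure_le _).2 fun a ha => by
      obtain ⟨t, e⟩ := h.sx _ ⟨(h.n 1).act.conj_mem (fun r hr => And.intro ((isPos_w0J hr.2).2 hr.1) ((inJ_smul (w0J_mem _)).2 hr.2)) ha.1,
        π.range.mul_mem (mul_mem nK ⟨a, rfl⟩) (inv_mem nK)⟩
      rw [mul_inv_eq_iff_eq_mul, A.x_n, mul_right_inj] at e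
      exact subset_closure (Or.inr ⟨_, hx.unique (y2 _) ha.2 (by rw [y1, e])⟩))
  have xU : ∀ t, A.x t ∈ S.B := fun t => S.U_le_B (UO_le i (h.x t).1)
  rcases B.bruhat (le hz) with ⟨a, t, rfl⟩ | ⟨a, t, b, rfl⟩
  · obtain ⟨c, c1, c2, c3, c4⟩ := h.h t
    have e : π (B.h t) = S.hl c := by rw [← c3, R1.h, map_mul, bn, bn, R1.h]
    have e1 : B.x a = 1 := hx.eq_one (hθ.eq_one_of_U_H (Lf_le _ (x3 a)) (by simpa [e] using mul_mem h1 (inv_mem (S.hl_mem c)))) (x2 a)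
    rw [e1, one_mul, e]
    exact ⟨⟨c, c1, c2, rfl⟩, fun e2 => by rw [c4 (hT c c1 e2), R1.h_one]⟩
  · refine (w0J_ne_one (RSym.mem_orb (R := R) i) (hθ.cell_unique (((h.n t).cell.mul_left (xU a)).mul_right (xU b)) (cell_one.2 (S.H_le_B ?_)))).elim
    simpa [bn, B, x1] using h1

variable {τ : TwF S R} {O : List (I D)}

def orbR (h : Orth O) (S : StSys D F Γ) (f : I D → F₀ →+* F) : R1 F₀ Γ where
  x t := (O.map fun j => S.x (sim j) (f j t)).prod
  y t := (O.map fun j => S.x (ng (sim j)) (f j t)).prod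
  x_add t u := by simp only [map_add, add]; exact h.prod_mul S (fun _ => x_mem_A1 _ _ _) fun _ => x_mem_A1 _ _ _
  y_add t u := by simp only [map_add, add]; exact h.prod_mul S (fun _ => x_ng_mem_A1 _ _ _) fun _ => x_ng_mem_A1 _ _ _
  nx t u := by
    have a := fun j t => S.x_mem_A1 j t
    have b := fun j t => S.x_ng_mem_A1 j t
    rw [← h.prod_mul S (fun _ => a _ _) fun _ => b _ _, ← h.prod_mul S (fun _ => mul_mem (a _ _) (b _ _)) fun _ => a _ _,
      ← h.prod_inv S fun _ => mul_mem (mul_mem (a _ _) (b _ _)) (a _ _), ← h.prod_mul S (fun _ => mul_mem (mul_mem (a _ _) (b _ _)) (a _ _)) fun _ => a _ _,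
      ← h.prod_mul S (fun _ => mul_mem (mul_mem (mul_mem (a _ _) (b _ _)) (a _ _)) (a _ _)) fun _ => inv_mem (mul_mem (mul_mem (a _ _) (b _ _)) (a _ _))]
    congr 2; funext j
    simpa [stR1] using (stR1 S (sim j)).nx (Units.map (f j) t) (f j u)
theorem orbR_n (h : Orth O) (f : I D → F₀ →+* F) (t : F₀ˣ) : (orbR h S f).n t = (O.map fun j => S.n (sim j) (Units.map (f j) t)).prod := by
  simp only [R1.n, orbR, n_def]
  rw [h.prod_mul S (fun _ => mul_mem (S.x_mem_A1 _ _) (S.x_ng_mem_A1 _ _)) fun _ => S.x_mem_A1 _ _,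
    h.prod_mul S (fun _ => S.x_mem_A1 _ _) fun _ => S.x_ng_mem_A1 _ _]
  simp

theorem OrbL.r1o (h : OrbL R O) (hi : i ∈ O) (hθ : S.Cov θ) (h3 : S.R3) {f : I D → F₀ →+* F} (hf : ∀ t, τ.Cp O fun j => f j t)
    (hs : ∀ c, τ.Cp O c → ∃ t, ∀ j ∈ O, c j = f j t) : R1O R S τ.G1 τ.T1 i (orbR h.orth S f) := by
  classical
  have e := h.orb i hi
  have m1 : ∀ t, (orbR h.orth S f).x t ∈ S.Um (w0J {j | j ∈ O}) ⊓ τ.Fix := fun t => (TwF.mem_Um_fix hθ h.orth h.inv).2 ⟨_, hf t, rfl⟩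
  refine ⟨fun t => ⟨?_, mem_sup_left ⟨S.Um_le_U _ (m1 t).1, (m1 t).2⟩⟩, fun t => ⟨?_, mem_sup_right ⟨gen_mono _ (fun _ h => h.1) (TwF.xV_mem _),
    TwF.xV_fix h.orth h.inv (hf t)⟩⟩, fun u hu => ?_, fun t => ?_, fun t => ⟨fun j => if j ∈ O then Units.map (f j) t else 1, fun j => ?_,
      fun j hj => if_neg (by rwa [e] at hj), ?_, fun e1 => ?_⟩⟩
  · rw [UO, e, ← mem_Um_w0J]; exact (m1 t).1
  · rw [VO, e]; exact TwF.xV_mem _
  · rw [UO, e, ← mem_Um_w0J] at hu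
    obtain ⟨c, hc, rfl⟩ := (TwF.mem_Um_fix hθ h.orth h.inv).1 ⟨hu.1, G1_le_fix hu.2⟩
    obtain ⟨t, ht⟩ := hs c hc
    exact ⟨t, congrArg List.prod (List.map_congr_left fun j hj => by rw [ht j hj])⟩
  · rw [e, h.orth.w0J_eq, orbR_n]
    induction O with
    | nil => simp at hi
    | cons j O => exact (O.rec (motive := fun O => ∀ j, S.Rep ((j :: O).map fun j => S.n (sim j) (Units.map (f j) t)).prod (wp (j :: O)))
        (fun j => by simpa using rep_n_sim j _) (fun k O ih j => by simpa using (rep_n_sim j _).mul (ih k))) j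
  · have := h.inv j; simp only [Set.mem_setOf_eq] at this; simp only [this]
    split_ifs with hj
    · exact Units.ext (hf t j hj)
    · simp
  · have e1 : (O.map fun j => Pi.mulSingle j (Units.map (f j : F₀ →* F) t)).prod = fun k => if k ∈ O then Units.map (f k : F₀ →* F) t else 1 := funext fun k => by
      rw [Pi.list_prod_apply, List.map_map, List.prod_map_eq_pow_single k _ fun j hj _ => by simp [hj.symm]]
      split_ifs with e
      · simp [List.count_eq_one_of_mem h.orth.1 e]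
      · simp [List.count_eq_zero_of_not_mem e]
    rw [← e1, ← h3.hprod_apply, map_list_prod, List.map_map, R1.h, orbR_n, orbR_n, ← h.orth.prod_mul S (fun _ => S.n_mem_A1 _ _) fun _ => S.n_mem_A1 _ _]
    simp [Function.comp_def, R3.hprod_apply, hl_single, h_def]
  · have := congrFun e1 i
    rw [if_pos hi] at this
    exact Units.ext ((f i).injective (by simpa using congrArg Units.val this))
end r1

theorem schur_one {Γ : Type u} [Group Γ] {S : StSys D F Γ} {τ : Tw S R} {θ : Γ →* GL D.Idx F} [Finite F] [Finite τ.G1] (p : ℕ) [Fact p.Prime]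
    [CharP F p] (hK : τ.Adm τ.G1) (hθ : S.Cov θ)
    (h1 : ∀ (E : Type u) [Group E] [Finite E] (π : E →* Γ), π.range = τ.G1 → π.ker ≤ center E → ⁅S.U.comap π, S.U.comap π⁆ ⊓ π.ker = ⊥)
    (h2 : ∀ (E : Type u) [Group E] [Finite E] (π : E →* Γ), π.range = τ.G1 → CX π p → ∀ z ∈ HH R S π p, π z = 1 → z = 1) :
    Cfsg.HasCyclicSchurMultiplier τ.G1 1 := by
  refine H21.schur_trivial_of_forall_stem fun E _ _ σ hσ => eq_bot_iff.2 fun z hz => ?_
  have e : (τ.G1.subtype.comp σ).range = τ.G1 := by rw [MonoidHom.range_comp, MonoidHom.range_eq_top.2 hσ.1, ← MonoidHom.range_eq_map, range_subtype]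
  have k : (τ.G1.subtype.comp σ).ker = σ.ker := by rw [← MonoidHom.comap_ker, ker_subtype]; rfl
  obtain ⟨P, hP⟩ := exists_sylow hK hθ p
  have hx : CX (τ.G1.subtype.comp σ) p := ⟨k ▸ hσ.2.1, _, (Nat.Prime.coprime_iff_not_dvd Fact.out).2 P.not_dvd_index, fun z hz => by
    have h4 := H21.pow_index_mem_commutator (P.1.comap σ) (hσ.2.1 (k.le hz)) (hσ.2.2 (k.le hz))
    rw [index_comap_of_surjective _ hσ.1] at h4
    exact (h1 E _ e (k ▸ hσ.2.1)).le ⟨by rw [hP] at h4 ⊢; exact h4, pow_mem hz _⟩⟩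
  exact hx.ker_inf (e.symm ▸ hK) hθ e.le (h2 E _ e hx) (k.ge hz) (hσ.2.2 hz)

end H12
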