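import Cfsg.Agent.H12.MQ

/-! Table certificates for the Schur multipliers of twisted groups: layers (`LayT`), torus elements (`tz`, `Fam`, `TTT`, `FuT`),
fixed roots (`FixC`, `milnor`) and the criterion `schur_r1`. -/

set_option autoImplicit false

namespace H12
open Cfsg.Lie H13 H24 StSys Tw Subgroup
open scoped commutatorElement

universe u
theorem milnor {E Γ : Type*} [Group E] [Group Γ] {π : E →* Γ} (hc : π.ker ≤ center E) {a c : E}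
    (ha : π a ∈ ⁅centralizer {π c} ⊓ π.range, centralizer {π c} ⊓ π.range⁆) : ⁅a, c⁆ = 1 := by
  obtain ⟨b, hb, e⟩ := (commutator_le.2 (by
    rintro _ ⟨h1, x, rfl⟩ _ ⟨h2, y, rfl⟩
    refine ⟨⁅x, y⁆, mem_centralizer_singleton_iff.2 ?_, map_commutatorElement ..⟩
    rw [eq_comm, ← mul_inv_eq_iff_eq_mul, conjugate_commutatorElement]
    exact comm_congr hc (by simp [← mem_centralizer_singleton_iff.1 h1]) (by simp [← mem_centralizer_singleton_iff.1 h2])) :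
      _ ≤ (centralizer {c}).map π) ha
  rw [← comm_congr hc e rfl, commutatorElement_eq_one_iff_mul_comm]
  exact mem_centralizer_singleton_iff.1 hb

variable {D : ChevalleyDatum} [G : Good D] {F : Type*} [Field F] {g : GData} {κ : ℕ → ℕ}

def LayT (T : Tab) (g : GData) (κ : ℕ → ℕ) : Prop := ∀ r < T.n, T.n ≤ 2 * r → κ (g.ρ r) = κ r ∧ ∀ s < T.n, T.n ≤ 2 * s →
  (κ s = κ r → s = r ∨ s = g.ρ r ∨ s = g.ρ (g.ρ r)) ∧ (s = r ∨ ∀ c ∈ T.terms r s, c.2.1 % g.p = 0 ∨ κ r < κ c.1 ∧ κ s < κ c.1)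
noncomputable instance decLayT (T : Tab) (g : GData) (κ : ℕ → ℕ) : Decidable (LayT T g κ) := by unfold LayT; infer_instance
def LayT.lay (h : LayT (tab D) g κ) (hF : CharOK F g.p) : Lay D F :=
  ⟨fun r => κ r, fun r s hr hs e c hc => (((h r r.2 hr).2 s s.2 hs).2.resolve_left (fun h => e (Fin.ext h)) _ (mem_toΦ.1 hc)).imp_left
    fun h => by rw [← hF.cast_emod, h, Int.cast_zero]⟩
theorem LayT.orb (h : LayT (tab D) g κ) (hF : CharOK F g.p) {π lams : List ℕ} (hc : GChk (tab D) (tab D) g)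
    (k : GSim (tab D) (tab D) g π lams) : (h.lay hF).Orb (k.rsym hc) :=
  ⟨fun r hr => (h r r.2 hr).1, fun r s hr hs e => (((h r r.2 hr).2 s s.2 hs).1 e).imp Fin.ext (Or.imp Fin.ext Fin.ext)⟩

def tz (x y w : Fˣ) (k l m : Φ D) : I D → Fˣ := fun i => x ^ co k i * y ^ co l i * w ^ co m i
theorem wt_tz {Γ : Type*} [Group Γ] (S : StSys D F Γ) (x y w : Fˣ) (k l m : Φ D) :
    S.Wt (S.hl (tz x y w k l m)) fun r => (x ^ pr k r * y ^ pr l r * w ^ pr m r : Fˣ) := by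
  simpa [tz, mul_zpow, Finset.prod_mul_distrib, pr_eq_sum, zpow_sum', zpow_mul] using S.wt_hl (tz x y w k l m)

def TTT (T : Tab) (g : GData) (P : ℤ → ℤ → ℤ → Prop) (r s : ℕ) : Prop := ∃ k < T.n, g.lam k = 1 ∧ T.pr k s = 0 ∧ T.pr (g.ρ k) s = 0 ∧
  T.pr (g.ρ (g.ρ k)) s = 0 ∧ P (T.pr k r) (T.pr (g.ρ k) r) (T.pr (g.ρ (g.ρ k)) r)
def FuT (T : Tab) (g : GData) (P : ℤ → ℤ → ℤ → Prop) (r : ℕ) : Prop :=
  ∃ k < T.n, g.lam k = 1 ∧ P (T.pr k r) (T.pr (g.ρ k) r) (T.pr (g.ρ (g.ρ k)) r)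
def FixC (T : Tab) (g : GData) (r : ℕ) : Prop := g.ρ r = r ∧ g.ε r = 1 ∧ g.lam r = 1 ∧ ∃ a < T.n, T.terms a r = [] ∧ r ≠ T.ng a ∧
  ∃ b < T.n, T.terms b r = [] ∧ r ≠ T.ng b ∧ FixComm T g a b r
noncomputable instance decTTT (T : Tab) (g : GData) (P : ℤ → ℤ → ℤ → Prop) [∀ a b c, Decidable (P a b c)] (r s : ℕ) :
    Decidable (TTT T g P r s) := by unfold TTT; infer_instance
noncomputable instance decFuT (T : Tab) (g : GData) (P : ℤ → ℤ → ℤ → Prop) [∀ a b c, Decidable (P a b c)] (r : ℕ) :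
    Decidable (FuT T g P r) := by unfold FuT; infer_instance
noncomputable instance decFixC (T : Tab) (g : GData) (r : ℕ) : Decidable (FixC T g r) := by unfold FixC; infer_instance

section gf
variable {π₀ lams : List ℕ} {h : GChk (tab D) (tab D) g} {k : GSim (tab D) (tab D) g π₀ lams} {Γ : Type*} [Group Γ] {S : StSys D F Γ}
  {E : Type*} [Group E] {π : E →* Γ} {f1 f2 : Fˣ → Fˣ} {P : ℤ → ℤ → ℤ → Prop} {r s : Φ D}

variable (h S π f1 f2) in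
def Fam : Prop := ∀ k : Φ D, g.lam k = 1 → ∀ z, S.hl (tz z (f1 z) (f2 z) k (h.emb k) (h.emb (h.emb k))) ∈ π.range

theorem Fam.tt (hf : Fam h S π f1 f2) (hP : ∀ a b c, P a b c → ∃ z, z ^ a * f1 z ^ b * f2 z ^ c ≠ 1) (ht : TTT (tab D) g P r s) :
    Lay.TT S π r s := by
  obtain ⟨k, hk, h1, h2, h3, h4, h5⟩ := ht
  obtain ⟨z, hz⟩ := hP _ _ _ h5
  refine ⟨_, ⟨S.hl_mem _, hf ⟨k, hk⟩ h1 z⟩, _, wt_tz S _ _ _ _ _ _, fun e => hz (Units.ext (by simpa only [← pr_tab, GChk.emb_val, Units.val_one] using e)), ?_⟩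
  simp only [← pr_tab, GChk.emb_val, h2, h3, h4, zpow_zero, mul_one, Units.val_one]
theorem Fam.full (hf : Fam h S π f1 f2) (hP : ∀ a b c, P a b c → ∀ l, ∃ z, z ^ a * f1 z ^ b * f2 z ^ c = l) (ht : FuT (tab D) g P r) :
    Lay.Full S π r r := fun l hl => by
  obtain ⟨k, hk, h1, h5⟩ := ht
  obtain ⟨z, hz⟩ := hP _ _ _ h5 (Units.mk0 l hl)
  have : _ = l := congrArg Units.val hz
  exact ⟨_, ⟨S.hl_mem _, hf ⟨k, hk⟩ h1 z⟩, _, wt_tz S _ _ _ _ _ _, by simpa only [← pr_tab, GChk.emb_val] using this, by simpa only [← pr_tab, GChk.emb_val] using this⟩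

theorem FixC.cm {τ : TwF S (k.rsym h)} {φ : F →+* F} (hψ : ∀ r t, τ.ψ r t = φ t ^ g.lam r) (hε : ∀ r, (τ.ε r : F) = g.ε r)
    {L : Lay D F} (o : L.Orb (k.rsym h)) {θ : Γ →* GL D.Idx F} (hθ : S.Cov θ) (hG : π.range = τ.G1) (hc : π.ker ≤ center E) (hr : IsPos r)
    (hx : FixC (tab D) g r) : L.Cm S π ⊥ r r := by
  obtain ⟨r1, r2, r3, a, -, a1, a2, b, -, b1, b2, h1, h2, h3, h4, h5, c1, c2, c3, c4, c5, c6⟩ := hx
  have m : ∀ s : Φ D, g.ρ s = s → g.ε s = 1 → g.lam s = 1 → ∀ t, φ t = t → S.x s t ∈ π.range := fun s e1 e2 e3 t ht =>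
    hG ▸ TwF.x_mem_G1 (Fin.ext e1) (by simp [hε, hψ, e2, e3, ht])
  have rp : L.Rp S π r {x | ∃ t, φ t = t ∧ x = S.x r t} := fun x hx => by
    have f := G1_le_fix (hG.le hx.2)
    have := o.ld_σ (τ := τ) hθ hr hx.1
    rw [f.2, show (k.rsym h).ρ r = r from Fin.ext r1, hε, hψ, r2, r3, Int.cast_one, one_mul, pow_one] at this
    exact ⟨_, ⟨_, this.symm, rfl⟩, ⟨L.x_mem S hr le_rfl _, m r r1 r2 r3 _ this.symm⟩, Lay.ld_self hθ hr _⟩
  refine ⟨_, _, rp, rp, ?_⟩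
  rintro x y ⟨t, ht, e1⟩ ⟨u, -, e2⟩
  have c : ∀ s : Φ D, (tab D).terms s r = [] → (r : ℕ) ≠ (tab D).ng s → ∀ t, S.x s t ∈ centralizer {π y} := fun s e3 e4 t =>
    mem_centralizer_singleton_iff.2 (e2 ▸ (S.commute_of_emod (p := 0) (Or.inl rfl) (fun e => e4 (congrArg Fin.val e))
      (by rw [show D.commTerms s r = [] from e3]; simp) t u).eq)
  refine milnor hc ?_
  have := commutator_of_single S (a := ⟨a, h1⟩) (b := ⟨b, h2⟩) (k := r) (c := 1) (fun h => h3 (congrArg Fin.val h)) (fun h => h4 (congrArg Fin.val h))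
    (by rw [cterms, show D.commTerms _ _ = [((r : ℕ), 1, 1, 1)] from h5, toΦ_cons, toΦ_nil]) (-t) 1
  rw [e1, show S.x r t = _ by simpa using this.symm]
  exact commutator_mem_commutator ⟨c _ b1 b2 _, m _ c2 c4 c6 _ (map_one φ)⟩ ⟨c _ a1 a2 _, m _ c1 c3 c5 _ (by rw [map_neg, ht])⟩
end gf

theorem schur_r1 {R : RSym D} {Γ : Type u} [Group Γ] {S : StSys D F Γ} {τ : TwF S R} {θ : Γ →* GL D.Idx F} [Finite F] [Finite τ.G1] (p : ℕ)
    [Fact p.Prime] [CharP F p] (hK : τ.Adm τ.G1) (hθ : S.Cov θ) (h3 : S.R3) (hT : ∀ c ∈ τ.T1, S.hl c = 1 → c = 1)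
    (h1 : ∀ (E : Type u) [Group E] [Finite E] (π : E →* Γ), π.range = τ.G1 → π.ker ≤ center E → ⁅S.U.comap π, S.U.comap π⁆ ⊓ π.ker = ⊥)
    (h2 : ∀ i, ∃ (K : Subfield F) (A : R1 K Γ), R1O R S τ.G1 τ.T1 i A) : Cfsg.HasCyclicSchurMultiplier τ.G1 1 :=
  schur_one p hK hθ h1 fun _ _ _ π e hx _ => HH_inf h3 hT
    (fun i z hz e1 => let ⟨_, _, h⟩ := h2 i; ((e ▸ h :).lo hx hθ hT hz (e1 ▸ one_mem _)).2 e1)
    fun i z hz => let ⟨_, _, h⟩ := h2 i; ((e ▸ h :).lo hx hθ hT hz.1 hz.2).1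

theorem r1o_fix {R : RSym D} {Γ : Type*} [Group Γ] {S : StSys D F Γ} {τ : TwF S R} {θ : Γ →* GL D.Idx F} (hθ : S.Cov θ) (h3 : S.R3) {i : I D}
    (h : OrbL R [i]) (hi : R.π i = i) : ∃ (K : Subfield F) (A : R1 K Γ), R1O R S τ.G1 τ.T1 i A :=
  ⟨(τ.ψ (sim i)).eqLocusField (RingHom.id F), _, h.r1o (f := fun _ => Subfield.subtype _) (by simp) hθ h3
    (fun t => by simpa [TwF.Cp] using t.2.symm) fun c hc => ⟨⟨c i, by simpa [TwF.Cp, hi, eq_comm] using hc⟩, by simp⟩⟩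

omit G in
theorem exists_tor [Fintype F] {q m : ℕ} (hq : 3 ≤ q) (hm : 2 ≤ m) (hK : Fintype.card F = q ^ m) {a b c : ℤ} (h : 1 ≤ a ∧ a ≤ 2 ∧ |b| ≤ 1 ∧ |c| ≤ 1)
    (hc : m = 2 → c = 0) : ∃ z : Fˣ, z ^ a * (z ^ q) ^ b * (z ^ q ^ 2) ^ c ≠ 1 := by
  obtain ⟨z, hz⟩ := IsCyclic.exists_ofOrder_eq_natCard (α := Fˣ)
  refine ⟨z, fun e => ?_⟩
  rw [← zpow_natCast, ← zpow_natCast, ← zpow_mul, ← zpow_mul, ← zpow_add, ← zpow_add, ← orderOf_dvd_iff_zpow_eq_one, hz, Nat.card_units,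
    Nat.card_eq_fintype_card, hK, Nat.cast_sub (Nat.one_le_pow _ _ (by omega))] at e
  obtain ⟨h1, h2, h4, h5⟩ := h
  rw [abs_le] at h4 h5
  have q3 : (3 : ℤ) ≤ q := by exact_mod_cast hq
  push_cast at e
  have e0 : a + q * b + q ^ 2 * c ≠ 0 := fun e0 => by
    have := Int.le_of_dvd (by omega) (show (q : ℤ) ∣ a from ⟨-b - q * c, by linear_combination e0⟩)
    omega
  have := Int.le_of_dvd (abs_pos.2 e0) ((dvd_abs _ _).2 e)
  rcases hm.eq_or_lt with rfl | hm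
  · rw [hc rfl, le_abs] at this; rcases this with this | this <;> nlinarith
  · have := pow_le_pow_right₀ (show (1 : ℤ) ≤ q by omega) hm
    rw [le_abs] at *; rcases ‹_ ∨ _› with this | this <;> nlinarith

end H12
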