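import Cfsg.Agent.H12.Ref
import Cfsg.Agent.H12.Coll
import Mathlib.GroupTheory.SpecificGroups.Alternating.Simple

/-! Centralisers of torus elements on whose root system a twisted Frobenius map over `𝔽₂` is split (`FM.cent_split`), the recognition of a centraliser
as a direct product (`O5.cent_equiv`) and torus elements of order `5` in `²E₆(2)` (`O5.exists_wT`, `O5.tf_le`). -/

set_option autoImplicit false

namespace H12
open Cfsg.Lie StSys Subgroup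

theorem FM.cent_split {D : ChevalleyDatum} [Good D] [SC D] {k : Type*} [Field k] [CharP k 2] {G₀ : Type*} [Group G₀] (m : FM D k 2 G₀)
    {n y : D.SteinbergGroup k} {w : W D} (hn : (stS D k).Rep n w) {c : I D → kˣ}
    (hx : ∀ r ∈ Psi {c}, ∀ t, n * m.σ ((stS D k).x r t) * n⁻¹ = (stS D k).x r (t ^ 2)) (hy : y ∈ (stS D k).CA {c}) (hy' : n * m.σ y * n⁻¹ = y) :
    ∃ b ∈ m.TF w, ∃ l ∈ closure {g | ∃ r ∈ Psi {c}, g = (stS D k).x r 1}, y = (stS D k).hl b * l := by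
  classical
  set K := closure {g | ∃ r ∈ Psi {c}, g = (stS D k).x r 1}
  have t0 : ∀ r ∈ Psi {c}, (stS D k).x r 1 ∈ K := fun r hr => Subgroup.subset_closure ⟨r, hr, rfl⟩
  have t1 : ∀ g ∈ K, twE n m.σ g = g := fun g hg => (closure_le (MonoidHom.eqLocus (twE n m.σ) (MonoidHom.id _))).2 (by
    rintro _ ⟨r, hr, rfl⟩; exact (hx r hr 1).trans (by rw [one_pow]; rfl)) hg
  have t2 : ∀ (L : List (Φ D)) (a : Φ D → k), (∀ r ∈ L, r ∈ Psi {c}) → twE n m.σ ((stS D k).prod L a) = (stS D k).prod L fun r => a r ^ 2 := fun L a h => by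
    induction L with
    | nil => simp
    | cons r L ih => rw [prod_cons, map_mul, ih fun s hs => h s (by simp [hs]), twE_apply, hx r (h r (by simp)), prod_cons]
  have t3 : ∀ b, twE n m.σ ((stS D k).hl b) = (stS D k).hl (wT w (m.φ b)) := fun b => by rw [twE_apply, m.σ_hl, r3_st.rep_conj_hl hn]
  have t4 : ∀ (L : List (Φ D)) (a : Φ D → k), (∀ r ∈ L, r ∈ Psi {c}) → (∀ r ∈ L, a r = a r ^ 2) → (stS D k).prod L a ∈ K := fun L a h h' =>
    (stS D k).prod_mem fun r hr => by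
      rcases eq_zero_or_one_of_sq_eq_self (h' r hr).symm with e | e <;> rw [e]
      exacts [by simp, t0 r (h r hr)]
  obtain ⟨L, hL, hL'⟩ : ∃ L : List (Φ D), L.Nodup ∧ ∀ r, r ∈ L ↔ IsPos r ∧ r ∈ Psi {c} :=
    ⟨(Finset.univ.filter fun r => IsPos r ∧ r ∈ Psi {c}).toList, Finset.nodup_toList _, by simp⟩
  have hP : ∀ r ∈ L, r ∈ Psi {c} := fun r hr => ((hL' r).1 hr).2
  obtain ⟨v, hv, a, b, d, hd, rfl⟩ := cov_st.exists_el r3_st (hi_st k) hL hL' hy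
  obtain ⟨n', h1, h2⟩ : ∃ n' ∈ K, (stS D k).Rep n' v := (refS_of_conn (conn_units (m.lf.isOfFinOrder c))).ind (P := fun v => ∃ n' ∈ K, (stS D k).Rep n' v)
    ⟨1, one_mem _, rep_of_mem_H (one_mem _)⟩ (fun v _ r hr _ ⟨n', h1, h2⟩ => ⟨n' * (stS D k).n r 1, mul_mem h1 (by
      simpa [n_def, CharTwo.neg_eq] using mul_mem (mul_mem (t0 r hr) (t0 _ (ng_mem_Psi.2 hr))) (t0 r hr)), h2.mul (rep_n r 1)⟩) hv
  obtain ⟨b1, e⟩ := r3_st.exists_hl ((rep_el v b).mul_inv_mem h2)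
  rw [mul_inv_eq_iff_eq_mul] at e
  have e1 : twE n m.σ ((stS D k).el L v a b d) = (stS D k).el L v (fun r => a r ^ 2) (wT w (m.φ b1) * b1⁻¹ * b) fun r => d r ^ 2 := by
    rw [el, el, map_mul, map_mul, t2 L a hP, t2 L d hP, e, map_mul, t1 _ h1, t3, r3_st.hl_mul, r3_st.hl_mul, r3_st.hl_inv, mul_assoc _ ((stS D k).hl b), e]; group
  obtain ⟨k1, k2, k3⟩ := cov_st.el_inj r3_st (hi_st k) hL (fun r hr => ((hL' r).1 hr).1) (fun r _ => hd r) (fun r _ h => by simp [hd r h]) (hy'.symm.trans e1)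
  have k4 : wT w (m.φ b1) = b1 := mul_inv_eq_one.1 (left_eq_mul.1 (k2.trans (mul_comm _ _)))
  have k5 : (stS D k).hl b1 * (stS D k).prod L a * ((stS D k).hl b1)⁻¹ = (stS D k).prod L a := by
    rw [hl_conj_prod]
    refine (stS D k).prod_congr fun r hr => ?_
    have := congrArg (twE n m.σ) (hl_conj_x' (S := stS D k) b1 r 1)
    rw [map_mul, map_mul, map_inv, t3, k4, t1 _ (t0 r (hP r hr)), hl_conj_x', twE_apply, hx r (hP r hr), mul_one] at this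
    rw [(eq_zero_or_one_of_sq_eq_self (xR_inj (r := r) (by simpa [cov_st r] using congrArg (fun g => (r3_ad.lift g).1) this.symm))).resolve_left (Units.ne_zero _), one_mul]
  refine ⟨b1, k4, _, mul_mem (mul_mem (t4 L a hP k1) h1) (t4 L d hP k3), ?_⟩
  rw [el, e, ← mul_assoc, ← mul_assoc, ← mul_assoc, mul_inv_eq_iff_eq_mul.1 k5]

namespace O5
theorem cent_conj {G : Type*} [Group G] {x y : G} (h : IsConj x y) : Nonempty (centralizer {x} ≃* centralizer {y}) := by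
  obtain ⟨g, rfl⟩ := isConj_iff.1 h
  refine ⟨((MulAut.conj g).subgroupMap _).trans (MulEquiv.subgroupCongr (Subgroup.ext fun z => ?_))⟩
  refine mem_map_equiv.trans ?_
  rw [mem_centralizer_singleton_iff, mem_centralizer_singleton_iff, ← (MulAut.conj g).apply_eq_iff_eq]; simp [mul_assoc]
theorem cent_equiv {G X A : Type*} [Group G] [Group X] [Group A] [IsSimpleGroup A] (hA : center A = ⊥) {j : G →* X} (hj : Function.Injective j) {x : G}
    (hx : orderOf x = 5) {f : A →* X} (hf : f.range ≠ ⊥) (h : (centralizer {x}).map j = zpowers (j x) ⊔ f.range) :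
    Nonempty (centralizer {x} ≃* Multiplicative (ZMod 5) × A) := by
  have : Fact (Nat.Prime 5) := ⟨by norm_num⟩
  let ι := (zpowers (j x)).subtype.comp (mulEquivOfPrimeCardEq (G := Multiplicative (ZMod 5)) (p := 5) (by simp)
    ((Nat.card_zpowers _).trans ((orderOf_injective j hj x).trans hx))).toMonoidHom
  have h1 : ι.range = zpowers (j x) := by
    rw [MonoidHom.range_comp, MonoidHom.range_eq_top.2 (MulEquiv.surjective _), ← MonoidHom.range_eq_map, range_subtype]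
  have h2 : ∀ z ∈ zpowers (j x), ∀ a, Commute z (f a) := by
    rintro _ ⟨i, rfl⟩ a
    obtain ⟨y, hy, e⟩ := h.ge (mem_sup_right ⟨a, rfl⟩)
    exact e ▸ (Commute.map (mem_centralizer_singleton_iff.1 hy).symm j).zpow_left i
  have h3 : Function.Injective f := f.ker_eq_bot_iff.1 ((f.normal_ker.eq_bot_or_eq_top).resolve_right fun e => hf (by
    rw [eq_bot_iff]; rintro _ ⟨a, rfl⟩; exact e.ge (mem_top a)))
  have h4 := (MonoidHom.noncommCoprod_injective ι f fun a => h2 _ (h1.le ⟨a, rfl⟩)).2 ⟨(subtype_injective _).comp (MulEquiv.injective _), h3, by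
    rw [h1, disjoint_def]; rintro _ hz ⟨a, rfl⟩
    rw [show a = 1 from hA.le (mem_center_iff.2 fun b => h3 (by rw [map_mul, map_mul, h2 _ hz])), map_one]⟩
  exact ⟨((equivMapOfInjective _ j hj).trans (MulEquiv.subgroupCongr (by rw [h, MonoidHom.noncommCoprod_range, h1]))).trans (MonoidHom.ofInjective h4).symm⟩

def l0 : List ℕ := [3, 2, 1, 3, 4, 5, 0, 2, 3, 4, 2, 3, 0, 2, 1]
def a0 : List ℤ := [4, 3, 3, 0, 3, 4]
def wds : List (List ℕ) := [[4, 5, 3, 4, 1, 3, 2, 0], [2, 3, 0, 2, 1, 3, 4, 5], [3, 4, 5, 1, 3, 4, 2, 3, 0, 2, 1, 3, 4, 5, 3, 4, 1, 3, 2, 0]]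
def Mv (μ : List ℤ) : List ℤ := (List.range 6).map fun i => (runL caE6L l0 μ).getD ([5, 1, 4, 3, 2, 0].getD i i) 0
noncomputable def val (s : List ℤ) (r : ℕ) : ℤ := sumLt 6 fun j => auxE6.rc r j * s.getD j 0
noncomputable def cnt (s : List ℤ) (e : ℤ) : ℤ := sumLt 72 fun r => if val s r % 5 = e then 1 else 0
def Alc (T : Tab) (s : List ℤ) : Prop := cnt s 1 = cnt s 2 → (∀ j < 6, s.getD j 0 % 5 = 0) ∨
  ∃ l ∈ wds, (∀ i ∈ l, i < 6) ∧ ∀ j < 6, val s (runW T l (T.sim j)) % 5 = T.lf a0 (T.sim j) % 5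
noncomputable instance decAlc (T : Tab) (s : List ℤ) : Decidable (Alc T s) := by unfold Alc; infer_instance
theorem alc_spec : ∀ a < 6, ∀ b < 3, ∀ c < 3, ∀ d < 2, ∀ e < 3, ∀ f < 6, a + 2 * b + 2 * c + 3 * d + 2 * e + f ≤ 5 →
    Alc (tab chevE6) [(a : ℕ), (b : ℕ), (c : ℕ), (d : ℕ), (e : ℕ), (f : ℕ)] := by rw [tabE6_eq]; decide +kernel
theorem val_top (a b c d e f : ℤ) : val [a, b, c, d, e, f] 71 = a + 2 * b + 2 * c + 3 * d + 2 * e + f := by
  have : ∀ j < 6, auxE6.rc 71 j = [1, 2, 2, 3, 2, 1].getD j 0 := by decide +kernel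
  simp [val, sumLt_eq, Fin.sum_univ_six, this]
theorem tf_spec : (∀ r < 72, gE6.lam r = 1 ∧ ∀ i < 6, (tab chevE6).ca ([5, 1, 4, 3, 2, 0].getD i 0) (gE6.ρ r) = (tab chevE6).ca i r) ∧ (∀ j < 6, ∃ r < 72,
      runW (tab chevE6) l0 (gE6.ρ r) = (tab chevE6).sim j ∧ (tab chevE6).lf a0 r * 2 % 5 = (tab chevE6).lf a0 ((tab chevE6).sim j) % 5) ∧
    (∀ j < 6, ∃ ν ∈ ([[2, 0, -1, 0, 0, 0], [0, 1, -1, 1, -1, 0], [-1, 0, 0, 1, 0, 0], [0, 0, 0, 0, 0, 0], [0, 0, 0, 1, 0, -1], [0, 0, 0, 0, -1, 2]] : List (List ℤ)),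
      ν.length = 6 ∧ ∀ i < 6, (tab chevE6).ca i ((tab chevE6).sim j) = (tab chevE6).lf a0 ((tab chevE6).sim j) % 5 * (tab chevE6).ca i 39 + (2 * (Mv ν).getD i 0 - ν.getD i 0)) ∧
    (∀ i < 6, 5 * (tab chevE6).ca i 39 = 2 * (Mv [0, -1, 1, -2, 1, 0]).getD i 0 - [0, -1, 1, -2, 1, 0].getD i 0) ∧ (tab chevE6).lf a0 39 % 5 = 1 := by
  rw [tabE6_eq]; decide +kernel

variable {k : Type*} [Field k]
theorem eq_of_sim {c c' : I chevE6 → kˣ} (h : c ^ 5 = 1) (h' : c' ^ 5 = 1) (e : ∀ j, tch c (wt (sim j)) = tch c' (wt (sim j))) : c = c' := by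
  have h1 := smithE6.pow_eq_one (e := 3) (by decide) (c := c * c'⁻¹) (mem_ker_iff.2 fun j => by rw [mul_tch, inv_tch, e, mul_inv_cancel])
  rw [← mul_inv_eq_one, ← pow_one (c * c'⁻¹)]
  exact pow_gcd_eq_one.2 ⟨h1, show _ ^ 5 = 1 by rw [mul_pow, inv_pow, h, h', inv_one, mul_one]⟩
theorem twP_wt (r : Φ chevE6) : twP sim_gE6 (wt (chk_gE6.emb r)) = wt r := funext fun i => by
  rw [twP_apply, (show ∀ i < 6, [1, 1, 1, 1, 1, 1].getD i 1 = 1 by decide) i i.2, Nat.cast_one, one_mul]; exact (tf_spec.1 r r.2).2 i i.2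
/-- the standard element of order five -/
def c0 (ζ : kˣ) : I chevE6 → kˣ := fun i => ζ ^ lfun chevE6 a0 (Pi.single i 1)
theorem tch_c0 (ζ : kˣ) (r : Φ chevE6) : tch (c0 ζ) (wt r) = ζ ^ (tab chevE6).lf a0 r := by rw [← lfun_wt]; exact tch_zpow_lin _ _ _
variable {ζ : kˣ} (hζ : orderOf ζ = 5)
include hζ
theorem zpow_iff {a b : ℤ} : ζ ^ a = ζ ^ b ↔ a % 5 = b % 5 := by rw [zpow_eq_zpow_iff_modEq, hζ]; rfl
theorem lin_pow (v : Λ chevE6 →ₗ[ℤ] ℤ) : (fun i => ζ ^ v (Pi.single i 1) : I chevE6 → kˣ) ^ 5 = 1 := funext fun i => by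
  rw [Pi.pow_apply, ← zpow_natCast, ← zpow_mul, Pi.one_apply, ← zpow_zero ζ, zpow_iff hζ]; simp

variable [CharP k 2] {G₀ : Type*} [Group G₀] (m : FM chevE6 k 2 G₀) (e1 : m.q = 2) (e2 : m.P = twP sim_gE6)
include e1 e2
omit hζ in
theorem tch_φ (c : I chevE6 → kˣ) (r : Φ chevE6) : tch (m.φ c) (wt (chk_gE6.emb r)) = tch c (wt r) ^ 2 := by rw [m.tch_φ, e1, e2, twP_wt]
theorem c0_mem {l : List (I chevE6)} (hl : l.map Fin.val = l0) : c0 ζ ∈ m.TF (wp l)⁻¹ :=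
  m.mem_TF.2 <| eq_of_sim (by rw [← map_pow, ← map_pow, show c0 ζ ^ 5 = 1 from lin_pow hζ _, map_one, map_one]) (lin_pow hζ _) fun j => by
    obtain ⟨r, hr : r < chevE6.nroots, h1, h2⟩ := tf_spec.2.1 j j.2
    have : sim j = (wp l)⁻¹ • chk_gE6.emb ⟨r, hr⟩ := Fin.ext (by rw [← runW_eq, hl]; exact h1.symm)
    conv_lhs => rw [this, tch_wT_wt, tch_φ m e1 e2, tch_c0, ← zpow_natCast, ← zpow_mul]
    rw [tch_c0, zpow_iff hζ]; exact h2

variable (hζ' : ∀ a : kˣ, a ^ 5 = 1 → ∃ s : ℕ, ζ ^ s = a)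
include hζ'
theorem tf_le {l : List (I chevE6)} (hl : l.map Fin.val = l0) {b : I chevE6 → kˣ} (hb : b ∈ m.TF (wp l)⁻¹) :
    ∃ s : ℕ, b * (c0 ζ ^ s)⁻¹ ∈ (actM (CA chevE6)).ker := by
  have k1 : ∀ ν : List ℤ, ν.length = 6 → tch b ((2 : ℤ) • toΛ _ (Mv ν) - toΛ _ ν) = 1 := fun ν hν => by
    have : m.P (wL (wp l) (toΛ _ ν)) = toΛ _ (Mv ν) := funext fun i => by
      rw [← (toΛ_runL hAE6 hν l).2, e2, pl_tw sim_gE6 rfl, hl, (show ∀ i < 6, [1, 1, 1, 1, 1, 1].getD i 1 = 1 by decide) i i.2, Nat.cast_one, one_mul]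
      simp [toΛ, Mv, show i.1 < 6 from i.2]
    rw [tch_sub, tch_smul, ← m.mem_TF'.1 hb (toΛ _ ν), inv_inv, this, e1, mul_inv_eq_one]; exact zpow_natCast _ 2
  obtain ⟨-, -, s1, s2, s3⟩ := tf_spec
  obtain ⟨s, hs⟩ := hζ' (tch b (wt ⟨39, show 39 < chevE6.nroots by decide⟩)) (by
    rw [← k1 [0, -1, 1, -2, 1, 0] rfl, ← zpow_natCast, ← tch_smul]; exact congrArg _ (funext fun i => s2 i i.2))
  refine ⟨s, mem_ker_iff.2 fun j => ?_⟩
  obtain ⟨ν, -, h1, h2⟩ := s1 j j.2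
  rw [mul_tch, inv_tch, pow_tch, tch_c0, mul_inv_eq_one, show wt (sim j) = ((tab chevE6).lf a0 (sim j : Φ _) % 5) • wt ⟨39, show 39 < chevE6.nroots by decide⟩ +
    ((2 : ℤ) • toΛ _ (Mv ν) - toΛ _ ν) from funext fun i => h2 i i.2, tch_add, k1 ν h1, mul_one, tch_smul, ← hs, ← zpow_natCast, ← zpow_natCast, ← zpow_mul, ← zpow_mul,
    zpow_iff hζ, mul_comm, Int.mul_emod, Int.emod_emod, ← Int.mul_emod]
theorem exists_wT {c : I chevE6 → kˣ} (h5 : c ^ 5 = 1) (h1 : c ≠ 1) {v : W chevE6} (hc : c ∈ m.TF v) : ∃ u, wT u c = c0 ζ := by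
  classical
  choose s hs using fun i => hζ' (c i) (congrFun h5 i)
  obtain ⟨u, x, e, h4⟩ := exists_alcove (D := chevE6) (K := 5) (by decide) (hζ ▸ pow_orderOf_eq_one ζ) (Fintype.linearCombination ℤ fun i => (s i : ℤ))
  rw [show (fun i => ζ ^ Fintype.linearCombination ℤ (fun i => (s i : ℤ)) (Pi.single i 1)) = c from funext fun i => by simp [hs]] at e
  let N (c : I chevE6 → kˣ) (η : kˣ) : ℤ := ∑ r, if tch c (wt r) = η then 1 else 0
  have n1 : ∀ u c η, N (wT u c) η = N c η := fun u c η => (Equiv.sum_comp (MulAction.toPerm u) _).symm.trans (by simp only [MulAction.toPerm_apply, tch_wT_wt]; rfl)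
  have n2 : N c (ζ ^ 2) = N c ζ := by
    rw [← m.mem_TF.1 hc, n1, m.mem_TF.1 hc]
    refine (Equiv.sum_comp chk_gE6.perm _).symm.trans (Finset.sum_congr rfl fun r _ => if_congr ?_ rfl rfl)
    rw [GChk.perm_apply, tch_φ m e1 e2]
    exact ⟨fun h => Units.ext (by simpa [sq_eq_sq_iff_eq_or_eq_neg, CharTwo.neg_eq] using congrArg Units.val h), fun h => h ▸ rfl⟩
  let t (j : Fin 6) : ℕ := (x (wt (sim (D := chevE6) j))).toNat
  have t1 : ∀ j : Fin 6, ([(t 0 : ℤ), t 1, t 2, t 3, t 4, t 5] : List ℤ).getD j 0 = x (wt (sim (D := chevE6) j)) := fun j =>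
    .trans (by fin_cases j <;> rfl) (Int.toNat_of_nonneg (h4 _ (isPos_sim (D := chevE6) j)).1)
  have t2 : ∀ r : Φ chevE6, val [(t 0 : ℤ), t 1, t 2, t 3, t 4, t 5] r = x (wt r) := fun r => by
    rw [val, sumLt_eq, wt_eq_sum, map_sum]; exact Finset.sum_congr rfl fun j _ => by rw [t1 j, map_smul]; rfl
  have t3 : ∀ i : ℤ, i % 5 = i → cnt [(t 0 : ℤ), t 1, t 2, t 3, t 4, t 5] i = N c (ζ ^ i) := fun i hi => by
    rw [← n1 u, cnt, sumLt_eq, e]
    exact Finset.sum_congr rfl fun r _ => if_congr (by rw [tch_zpow_lin, zpow_iff hζ, hi, t2 r]) rfl rfl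
  have t4 := (val_top _ _ _ _ _ _).symm.trans_le ((t2 ⟨71, by decide⟩).trans_le (h4 _ (by decide)).2)
  rcases alc_spec (t 0) (by omega) (t 1) (by omega) (t 2) (by omega) (t 3) (by omega) (t 4) (by omega) (t 5) (by omega) (by omega)
    (by rw [t3 _ rfl, t3 _ rfl, zpow_one, ← n2]; rfl) with h | ⟨l, -, h2, h3⟩
  · refine (h1 ?_).elim
    rw [← wT_one c, ← inv_mul_cancel u, wT_mul, e, eq_of_sim (lin_pow hζ x) (one_pow 5) fun j => by
      rw [tch_zpow_lin, one_tch, ← zpow_zero ζ, zpow_iff hζ, ← t1 j]; exact h j j.2, map_one]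
  obtain ⟨l, rfl⟩ := exists_map_val (n := chevE6.rank) h2
  refine ⟨wp l * u, eq_of_sim (by rw [← map_pow, h5, map_one]) (lin_pow hζ _) fun j => ?_⟩
  rw [wT_mul, e, tch_wT, wL_wt, tch_zpow_lin, tch_c0, zpow_iff hζ, ← t2, ← runW_eq]; exact h3 j j.2

end O5
end H12
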