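import Cfsg.Agent.H12.Sec4

/-! Certificates for elements of order `11` and for involutions of `E₆` on the `27`-dimensional module. -/

set_option autoImplicit false

namespace H12.S6
open Cfsg.Lie StSys Loc E27 O5

def rwL : List (List ℤ) := [[-1, 0, 1, 0, 2, 1], [-4, -3, -5, -6, -4, -2], [-1, 0, 1, 3, 2, 1], [2, 3, 4, 3, 2, 1], [-1, 0, -2, -3, -4, -2], [2, 3, 4, 6, 2, 1], [2, 0, 1, 0, 2, 1], [-1, -3, -5, -6,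
  -4, -2], [2, 0, 1, 3, 2, 1], [-1, 0, -2, 0, -1, -2], [-1, 0, -2, 0, -1, 1], [-1, -3, -2, -3, -4, -2], [2, 3, 4, 6, 5, 1], [2, 3, 4, 6, 5, 4], [2, 0, 4, 3, 2, 1], [-1, 0,
  -2, -3, -1, -2], [-1, 0, -2, -3, -1, 1], [-1, -3, -2, -6, -4, -2], [2, 0, 1, 0, -1, 1], [-1, -3, -2, -3, -1, 1], [-1, 0, 1, 0, -1, 1], [2, 0, 1, 0, -1, -2], [-1, -3, -2,
  -3, -1, -2], [-1, 0, 1, 0, -1, -2], [2, 3, 1, 3, 2, 1], [-1, 0, -2, 0, 2, 1], [-1, 3, 1, 3, 2, 1]]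
def rω (a : I27) : List ℤ := rwL.getD (9 * a.1 + 3 * a.2.1 + a.2.2) []
theorem rω_spec : (∀ a, ∀ i < 6, 3 * om a i = sumLt 6 fun j => (rω a).getD j 0 * (tab chevE6).ca i ((tab chevE6).sim j)) ∧ (Finset.univ : Finset I27).val.map rω = rwL := by
  rw [tabE6_eq]; decide +kernel
def cn (s : List ℤ) (e : ℤ) : ℕ := (s.map fun a => if a = e then 0 else 1).sum
def A11 (s : List ℤ) : Prop := cn s 2 = cn s 1 → cn s 4 = cn s 2 → cn s 8 = cn s 4 → cn s 5 = cn s 8 → cn s 0 = 0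
instance decA11 (s : List ℤ) : Decidable (A11 s) := by unfold A11; infer_instance
theorem a11 : ∀ d < 4, ∀ b < 6, ∀ c < 6, ∀ e < 6, 2 * b + 2 * c + 3 * d + 2 * e ≤ 11 → ∀ a < 12, ∀ f < 12, a + 2 * b + 2 * c + 3 * d + 2 * e + f ≤ 11 →
    A11 (rwL.map fun v => dotL v [(a : ℕ), (b : ℕ), (c : ℕ), (d : ℕ), (e : ℕ), (f : ℕ)] % 11) := by decide +kernel
def ws2 : List (List ℕ) := [[], [1], [2], [4], [1, 2], [1, 3], [2, 0], [2, 3], [4, 3], [4, 5], [1, 2, 0], [1, 3, 4], [2, 0, 3], [2, 3, 4], [4, 3, 1], [4, 3, 2], [4, 3, 5], [1, 3, 4, 5], [2, 0, 3,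
  2], [2, 0, 3, 4], [2, 3, 4, 5], [4, 3, 1, 2], [4, 3, 1, 5], [4, 3, 2, 0], [4, 3, 2, 5], [4, 3, 5, 4], [2, 0, 3, 2, 4], [2, 0, 3, 4, 5], [4, 3, 1, 2, 0], [4, 3, 1, 2, 3],
  [4, 3, 1, 2, 5], [4, 3, 1, 5, 4], [4, 3, 2, 0, 5], [4, 3, 2, 5, 4], [2, 0, 3, 2, 4, 3], [2, 0, 3, 2, 4, 5], [4, 3, 1, 2, 0, 3], [4, 3, 1, 2, 0, 5], [4, 3, 1, 2, 3, 4],
  [4, 3, 1, 2, 3, 5], [4, 3, 1, 2, 5, 4], [4, 3, 1, 5, 4, 3], [4, 3, 2, 0, 5, 4], [4, 3, 2, 5, 4, 3], [2, 0, 3, 2, 4, 3, 1], [2, 0, 3, 2, 4, 3, 5], [4, 3, 1, 2, 0, 3, 2],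
  [4, 3, 1, 2, 0, 3, 4], [4, 3, 1, 2, 0, 3, 5], [4, 3, 1, 2, 0, 5, 4], [4, 3, 2, 0, 5, 4, 3], [2, 0, 3, 2, 4, 3, 1, 5], [2, 0, 3, 2, 4, 3, 5, 4], [4, 3, 1, 2, 0, 3, 2, 4],
  [4, 3, 1, 2, 0, 3, 2, 5], [4, 3, 2, 0, 5, 4, 3, 2], [2, 0, 3, 2, 4, 3, 1, 5, 4], [4, 3, 1, 2, 0, 3, 2, 4, 3], [2, 0, 3, 2, 4, 3, 1, 5, 4, 3], [4, 3, 1, 2, 0, 3, 2, 4, 3,
  1], [2, 0, 3, 2, 4, 3, 1, 5, 4, 3, 2], [2, 0, 3, 2, 4, 3, 1, 5, 4, 3, 2, 0]]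
def n1 : List ℤ := [0, 0, 0, 1, 0, 1]
def n2 : List ℤ := [0, 0, 0, 0, 0, 1]
theorem std_spec : ∀ a < 2, ∀ b < 2, ∀ c < 2, ∀ d < 2, ∀ e < 2, ∀ f < 2, a + b + c + d + e + f = 0 ∨ ∃ u ∈ ws2, (∀ i ∈ u, i < 6) ∧ ∃ n ∈ [n1, n2], ∀ j < 6,
    (tab chevE6).lf [(a : ℕ), (b : ℕ), (c : ℕ), (d : ℕ), (e : ℕ), (f : ℕ)] (runW (tab chevE6) u ((tab chevE6).sim j)) % (2 : ℕ) = (tab chevE6).lf n ((tab chevE6).sim j) % (2 : ℕ) := by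
  rw [tabE6_eq]; decide +kernel
def S10 : Finset I27 := {(0, 0, 1), (0, 1, 1), (0, 2, 1), (1, 0, 0), (1, 0, 1), (1, 2, 0), (1, 2, 1), (2, 2, 0), (2, 2, 1), (2, 2, 2)}
def S6 : Finset I27 := {(1, 0, 1), (1, 1, 1), (1, 2, 1), (2, 0, 0), (2, 0, 1), (2, 0, 2)}
def A6 : Fin 6 → I27 := ![(0, 0, 1), (0, 1, 1), (0, 2, 1), (1, 0, 0), (1, 0, 1), (1, 2, 0)]
def M6 : Fin 6 → Fin 6 → ℤ := ![![-4, 0, 0, 0, 0, 0], ![-4, 0, -4, 0, 4, 4], ![-4, 0, -4, 0, 0, 0], ![-6, -2, -6, 2, 4, 2], ![-4, -4, -4, 0, 4, 4], ![-2, -2, -2, -2, 4, 2]]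
noncomputable def lo (n : List ℤ) (a : I27) : ℤ := sumLt 6 fun i => om a i * n.getD i 0
set_option synthInstance.maxSize 2000 in
theorem inv_spec : (∀ r < 72, ((tab chevE6).lf n1 r % (2 : ℕ) = 0 → ∀ c ∈ mat r, (c.1 ∈ S10 ↔ c.2.1 ∈ S10)) ∧
      ((tab chevE6).lf n2 r % (2 : ℕ) = 0 → r = 36 ∨ r = 35 ∨ SpZ (spBr (mat r) (mat 36)) ∧ SpZ (spBr (mat r) (mat 35)))) ∧ (tab chevE6).ng 36 = 35 ∧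
    (∀ j, A6 j ∈ S10 ∧ ∀ i : Fin 6, ∑ t, M6 j t * om (A6 t) i = if i = j then 4 else 0) ∧ S10.card = 10 ∧ S6.card = 6 ∧ (∀ c ∈ mat 36, c.1 ∈ S6) ∧
    spC (mat 36) (1, 0, 1) (1, 0, 0) = 1 ∧ lo n2 (1, 0, 1) % (2 : ℕ) = 1 ∧ (∑ a, if lo n1 a % (2 : ℕ) = 0 then 0 else 1 : ℕ) = 16 ∧ (∑ a, if lo n2 a % (2 : ℕ) = 0 then 0 else 1 : ℕ) = 12 := by
  rw [tabE6_eq]; decide +kernel

end H12.S6
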