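import Cfsg.Agent.H12.TwG
/-! The root symmetries `R6, R4, RF, RG, RB` of the twisted types, their orbits and twisted Poincaré sums (`tpoinX`). -/

set_option autoImplicit false
set_option Elab.async false

namespace H12
open Cfsg.Lie H13

theorem RSym.dvd_len {D : ChevalleyDatum} [Good D] {R : RSym D} {k : ℕ} (h : ∀ i, k ∣ ℓ (w0J (R.orb i))) : ∀ w ∈ R.W1, k ∣ ℓ w :=
  fun _ hw => RSym.W1_induction (P := fun w => k ∣ ℓ w) (by simp) (fun w _ i hm ih => by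
    rw [hm.len_mul (w0J_mem _)]; exact dvd_add ih (h i)) hw
theorem RSym.poin_all {D : ChevalleyDatum} [Good D] (R : RSym D) {L : List ℕ} (h : ∀ j < D.rank, j ∈ L) (k q : ℕ) :
    R.poin Set.univ k q = R.poin {j : I D | j.1 ∈ L} k q := by
  congr 1; ext j; simp [h j j.2]
theorem RSym.poin_nil {D : ChevalleyDatum} [Good D] (R : RSym D) (k q : ℕ) : R.poin {j : I D | j.1 ∈ ([] : List ℕ)} k q = 1 := by
  simpa using R.poin_empty k q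

/-- root symmetry -/
noncomputable abbrev R6 : RSym chevE6 := sim_gE6.rsym chk_gE6
/-- layer -/ def lyR6_0_0 : List (List ℤ) := [[0, -1, 0, 1, 0, 0]]
/-- layer -/ def lyR6_0_1 : List (List ℤ) := [[0, 0, 1, -1, 1, 0]]
/-- layer -/ def lyR6_0_2 : List (List ℤ) := [[1, 0, -1, 0, 1, 0], [0, 0, 1, 0, -1, 1]]
/-- layer -/ def lyR6_0_3 : List (List ℤ) := [[-1, 0, 0, 0, 1, 0], [1, 0, -1, 1, -1, 1], [0, 0, 1, 0, 0, -1]]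
/-- layer -/ def lyR6_0_4 : List (List ℤ) := [[-1, 0, 0, 1, -1, 1], [1, 1, 0, -1, 0, 1], [1, 0, -1, 1, 0, -1]]
/-- layer -/ def lyR6_0_5 : List (List ℤ) := [[-1, 1, 1, -1, 0, 1], [-1, 0, 0, 1, 0, -1], [1, -1, 0, 0, 0, 1], [1, 1, 0, -1, 1, -1]]
/-- layer -/ def lyR6_0_6 : List (List ℤ) := [[-1, -1, 1, 0, 0, 1], [0, 1, -1, 0, 0, 1], [-1, 1, 1, -1, 1, -1], [1, -1, 0, 0, 1, -1], [1, 1, 0, 0, -1, 0]]
/-- layer -/ def lyR6_0_7 : List (List ℤ) := [[0, -1, -1, 1, 0, 1], [-1, -1, 1, 0, 1, -1], [0, 1, -1, 0, 1, -1], [-1, 1, 1, 0, -1, 0], [1, -1, 0, 1, -1, 0]]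
/-- layer -/ def lyR6_0_8 : List (List ℤ) := [[0, 0, 0, -1, 1, 1], [0, -1, -1, 1, 1, -1], [-1, -1, 1, 1, -1, 0], [0, 1, -1, 1, -1, 0], [1, 0, 1, -1, 0, 0]]
/-- layer -/ def lyR6_0_9 : List (List ℤ) := [[0, 0, 0, 0, -1, 2], [0, 0, 0, -1, 2, -1], [0, -1, -1, 2, -1, 0], [-1, 0, 2, -1, 0, 0], [0, 2, 0, -1, 0, 0], [2, 0, -1, 0, 0, 0]]
/-- layer -/ def lyR6_0_10 : List (List ℤ) := [[0, 0, 0, 0, 1, -2], [0, 0, 0, 1, -2, 1], [0, 1, 1, -2, 1, 0], [1, 0, -2, 1, 0, 0], [0, -2, 0, 1, 0, 0], [-2, 0, 1, 0, 0, 0]]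
/-- layer -/ def lyR6_0_11 : List (List ℤ) := [[0, 0, 0, 1, -1, -1], [0, 1, 1, -1, -1, 1], [0, -1, 1, -1, 1, 0], [1, 1, -1, -1, 1, 0], [-1, 0, -1, 1, 0, 0]]
/-- layer -/ def lyR6_0_12 : List (List ℤ) := [[0, 1, 1, -1, 0, -1], [0, -1, 1, 0, -1, 1], [1, 1, -1, 0, -1, 1], [1, -1, -1, 0, 1, 0], [-1, 1, 0, -1, 1, 0]]
/-- layer -/ def lyR6_0_13 : List (List ℤ) := [[0, -1, 1, 0, 0, -1], [1, 1, -1, 0, 0, -1], [1, -1, -1, 1, -1, 1], [-1, 1, 0, 0, -1, 1], [-1, -1, 0, 0, 1, 0]]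
/-- layer -/ def lyR6_0_14 : List (List ℤ) := [[1, -1, -1, 1, 0, -1], [-1, 1, 0, 0, 0, -1], [-1, -1, 0, 1, -1, 1], [1, 0, 0, -1, 0, 1]]
/-- layer -/ def lyR6_0_15 : List (List ℤ) := [[-1, -1, 0, 1, 0, -1], [1, 0, 0, -1, 1, -1], [-1, 0, 1, -1, 0, 1]]
/-- layer -/ def lyR6_0_16 : List (List ℤ) := [[-1, 0, 1, -1, 1, -1], [1, 0, 0, 0, -1, 0], [0, 0, -1, 0, 0, 1]]
/-- layer -/ def lyR6_0_17 : List (List ℤ) := [[0, 0, -1, 0, 1, -1], [-1, 0, 1, 0, -1, 0]]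
/-- layer -/ def lyR6_0_18 : List (List ℤ) := [[0, 0, -1, 1, -1, 0]]
/-- layer -/ def lyR6_0_19 : List (List ℤ) := [[0, 1, 0, -1, 0, 0]]
/-- layer -/ def lyR6_0_20 : List (List ℤ) := [[0, -1, 0, 0, 0, 0]]
theorem tpoinR6_0 (q : ℕ) : R6.poin {j | j.1 ∈ [0, 1, 2, 3, 4, 5]} 1 q = sumD 1 q [1, 1, 1, 0, 1, 1, 2, 1, 1, 1, 2, 2, 1, 1, 1, 2, 1, 1, 0, 1, 1, 1] * R6.poin {j | j.1 ∈ [0, 2, 3, 4, 5]} 1 q :=
  RSym.poin_step (ρ := gE6.ρ) (fun _ => rfl) (fun _ _ => one_dvd _) hAE6 (by decide) (by unfold RSym.Inv; decide +kernel) (μ := [0, 1, 0, 0, 0, 0])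
    (Ls := [lyR6_0_0, lyR6_0_1, lyR6_0_2, lyR6_0_3, lyR6_0_4, lyR6_0_5, lyR6_0_6, lyR6_0_7, lyR6_0_8, lyR6_0_9, lyR6_0_10, lyR6_0_11, lyR6_0_12, lyR6_0_13, lyR6_0_14, lyR6_0_15, lyR6_0_16, lyR6_0_17, lyR6_0_18, lyR6_0_19, lyR6_0_20]) (by decide) (by decide +kernel) (by rw [tabE6_eq]; decide +kernel) q
/-- layer -/ def lyR6_1_0 : List (List ℤ) := [[0, 1, 1, -1, 1, 0]]
/-- layer -/ def lyR6_1_1 : List (List ℤ) := [[1, 1, -1, 0, 1, 0], [0, 1, 1, 0, -1, 1]]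
/-- layer -/ def lyR6_1_2 : List (List ℤ) := [[-1, 1, 0, 0, 1, 0], [1, 1, -1, 1, -1, 1], [0, 1, 1, 0, 0, -1]]
/-- layer -/ def lyR6_1_3 : List (List ℤ) := [[-1, 1, 0, 1, -1, 1], [1, 2, 0, -1, 0, 1], [1, 1, -1, 1, 0, -1]]
/-- layer -/ def lyR6_1_4 : List (List ℤ) := [[-1, 2, 1, -1, 0, 1], [-1, 1, 0, 1, 0, -1], [1, 2, 0, -1, 1, -1]]
/-- layer -/ def lyR6_1_5 : List (List ℤ) := [[0, 2, -1, 0, 0, 1], [-1, 2, 1, -1, 1, -1], [1, 2, 0, 0, -1, 0]]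
/-- layer -/ def lyR6_1_6 : List (List ℤ) := [[0, 2, -1, 0, 1, -1], [-1, 2, 1, 0, -1, 0]]
/-- layer -/ def lyR6_1_7 : List (List ℤ) := [[0, 2, -1, 1, -1, 0]]
/-- layer -/ def lyR6_1_8 : List (List ℤ) := [[0, 3, 0, -1, 0, 0]]
theorem tpoinR6_1 (q : ℕ) : R6.poin {j | j.1 ∈ [0, 2, 3, 4, 5]} 1 q = sumD 1 q [1, 1, 0, 1, 1, 1, 1, 0, 1, 1] * R6.poin {j | j.1 ∈ [0, 2, 4, 5]} 1 q :=
  RSym.poin_step (ρ := gE6.ρ) (fun _ => rfl) (fun _ _ => one_dvd _) hAE6 (by decide) (by unfold RSym.Inv; decide +kernel) (μ := [0, 0, 0, 1, 0, 0])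
    (Ls := [lyR6_1_0, lyR6_1_1, lyR6_1_2, lyR6_1_3, lyR6_1_4, lyR6_1_5, lyR6_1_6, lyR6_1_7, lyR6_1_8]) (by decide) (by decide +kernel) (by rw [tabE6_eq]; decide +kernel) q
/-- layer -/ def lyR6_2_0 : List (List ℤ) := [[-1, 0, 1, 0, 0, 1], [1, 0, 0, 0, 1, -1]]
/-- layer -/ def lyR6_2_1 : List (List ℤ) := [[0, 0, -1, 1, 0, 1], [-1, 0, 1, 0, 1, -1], [1, 0, 0, 1, -1, 0]]
/-- layer -/ def lyR6_2_2 : List (List ℤ) := [[0, 0, -1, 1, 1, -1], [-1, 0, 1, 1, -1, 0]]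
/-- layer -/ def lyR6_2_3 : List (List ℤ) := [[0, 0, -1, 2, -1, 0]]
theorem tpoinR6_2 (q : ℕ) : R6.poin {j | j.1 ∈ [0, 2, 4, 5]} 1 q = sumD 1 q [1, 0, 1, 0, 1] * R6.poin {j | j.1 ∈ [2, 4]} 1 q :=
  RSym.poin_step (ρ := gE6.ρ) (fun _ => rfl) (fun _ _ => one_dvd _) hAE6 (by decide) (by unfold RSym.Inv; decide +kernel) (μ := [1, 0, 0, 0, 0, 1])
    (Ls := [lyR6_2_0, lyR6_2_1, lyR6_2_2, lyR6_2_3]) (by decide) (by decide +kernel) (by rw [tabE6_eq]; decide +kernel) q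
/-- layer -/ def lyR6_3_0 : List (List ℤ) := [[1, 0, -1, 1, 1, 0], [0, 0, 1, 1, -1, 1]]
/-- layer -/ def lyR6_3_1 : List (List ℤ) := [[1, 0, -1, 2, -1, 1]]
theorem tpoinR6_3 (q : ℕ) : R6.poin {j | j.1 ∈ [2, 4]} 1 q = sumD 1 q [1, 0, 1] * R6.poin {j | j.1 ∈ ([] : List ℕ)} 1 q :=
  RSym.poin_step (ρ := gE6.ρ) (fun _ => rfl) (fun _ _ => one_dvd _) hAE6 (by decide) (by unfold RSym.Inv; decide +kernel) (μ := [0, 0, 1, 0, 1, 0])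
    (Ls := [lyR6_3_0, lyR6_3_1]) (by decide) (by decide +kernel) (by rw [tabE6_eq]; decide +kernel) q
theorem tpoinR6 (q : ℕ) : R6.poin Set.univ 1 q = (1 * q ^ 0 + 1 * q ^ 1 + 1 * q ^ 2 + 1 * q ^ 4 + 1 * q ^ 5 + 2 * q ^ 6 + 1 * q ^ 7 + 1 * q ^ 8 + 1 * q ^ 9 + 2 * q ^ 10 + 2 * q ^ 11 + 1 * q ^ 12 + 1 * q ^ 13 + 1 * q ^ 14 + 2 * q ^ 15 + 1 * q ^ 16 + 1 * q ^ 17 + 1 * q ^ 19 + 1 * q ^ 20 + 1 * q ^ 21) * (1 * q ^ 0 + 1 * q ^ 1 + 1 * q ^ 3 + 1 * q ^ 4 + 1 * q ^ 5 + 1 * q ^ 6 + 1 * q ^ 8 + 1 * q ^ 9) * (1 * q ^ 0 + 1 * q ^ 2 + 1 * q ^ 4) * (1 * q ^ 0 + 1 * q ^ 2) := by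
  rw [RSym.poin_all _ (L := [0, 1, 2, 3, 4, 5]) (by decide), tpoinR6_0 , tpoinR6_1 , tpoinR6_2 , tpoinR6_3 , RSym.poin_nil]
  simp only [sumD, List.length_cons, List.length_nil, Finset.sum_range_succ, Finset.sum_range_zero, List.getD_cons_succ, List.getD_cons_zero, Nat.reduceAdd, Nat.reduceDiv]; ring
/-- root symmetry -/
noncomputable abbrev R4 : RSym chevD4 := sim_gD4a.rsym chk_gD4a
/-- layer -/ def lyR4_0_0 : List (List ℤ) := [[1, -1, 1, 1]]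
/-- layer -/ def lyR4_0_1 : List (List ℤ) := [[-1, 0, 1, 1], [1, 0, -1, 1], [1, 0, 1, -1]]
/-- layer -/ def lyR4_0_2 : List (List ℤ) := [[-1, 1, -1, 1], [-1, 1, 1, -1], [1, 1, -1, -1]]
/-- layer -/ def lyR4_0_3 : List (List ℤ) := [[0, -1, 0, 2], [-1, 2, -1, -1], [0, -1, 2, 0], [2, -1, 0, 0]]
/-- layer -/ def lyR4_0_4 : List (List ℤ) := [[0, 1, 0, -2], [1, -2, 1, 1], [0, 1, -2, 0], [-2, 1, 0, 0]]
/-- layer -/ def lyR4_0_5 : List (List ℤ) := [[1, -1, 1, -1], [-1, -1, 1, 1], [1, -1, -1, 1]]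
/-- layer -/ def lyR4_0_6 : List (List ℤ) := [[-1, 0, 1, -1], [1, 0, -1, -1], [-1, 0, -1, 1]]
/-- layer -/ def lyR4_0_7 : List (List ℤ) := [[-1, 1, -1, -1]]
/-- layer -/ def lyR4_0_8 : List (List ℤ) := [[0, -1, 0, 0]]
theorem tpoinR4_0 (q : ℕ) : R4.poin {j | j.1 ∈ [0, 1, 2, 3]} 1 q = sumD 1 q [1, 1, 0, 0, 1, 1, 0, 0, 1, 1] * R4.poin {j | j.1 ∈ [0, 2, 3]} 1 q :=
  RSym.poin_step (ρ := gD4a.ρ) (fun _ => rfl) (fun _ _ => one_dvd _) hAD4 (by decide) (by unfold RSym.Inv; decide +kernel) (μ := [0, 1, 0, 0])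
    (Ls := [lyR4_0_0, lyR4_0_1, lyR4_0_2, lyR4_0_3, lyR4_0_4, lyR4_0_5, lyR4_0_6, lyR4_0_7, lyR4_0_8]) (by decide) (by decide +kernel) (by rw [tabD4_eq]; decide +kernel) q
/-- layer -/ def lyR4_1_0 : List (List ℤ) := [[-1, 1, 1, 1], [1, 1, -1, 1], [1, 1, 1, -1]]
/-- layer -/ def lyR4_1_1 : List (List ℤ) := [[-1, 2, -1, 1], [-1, 2, 1, -1], [1, 2, -1, -1]]
/-- layer -/ def lyR4_1_2 : List (List ℤ) := [[-1, 3, -1, -1]]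
theorem tpoinR4_1 (q : ℕ) : R4.poin {j | j.1 ∈ [0, 2, 3]} 1 q = sumD 1 q [1, 0, 0, 1] * R4.poin {j | j.1 ∈ ([] : List ℕ)} 1 q :=
  RSym.poin_step (ρ := gD4a.ρ) (fun _ => rfl) (fun _ _ => one_dvd _) hAD4 (by decide) (by unfold RSym.Inv; decide +kernel) (μ := [1, 0, 1, 1])
    (Ls := [lyR4_1_0, lyR4_1_1, lyR4_1_2]) (by decide) (by decide +kernel) (by rw [tabD4_eq]; decide +kernel) q
theorem tpoinR4 (q : ℕ) : R4.poin Set.univ 1 q = (1 * q ^ 0 + 1 * q ^ 1 + 1 * q ^ 4 + 1 * q ^ 5 + 1 * q ^ 8 + 1 * q ^ 9) * (1 * q ^ 0 + 1 * q ^ 3) := by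
  rw [RSym.poin_all _ (L := [0, 1, 2, 3]) (by decide), tpoinR4_0 , tpoinR4_1 , RSym.poin_nil]
  simp only [sumD, List.length_cons, List.length_nil, Finset.sum_range_succ, Finset.sum_range_zero, List.getD_cons_succ, List.getD_cons_zero, Nat.reduceAdd, Nat.reduceDiv]; ring
/-- root symmetry -/
noncomputable abbrev RF : RSym chevF4 := sim_gF4.rsym chk_gF4
/-- layer -/ def lyRF_0_0 : List (List ℤ) := [[-1, 1, 0, 1], [1, 0, 1, -1]]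
/-- layer -/ def lyRF_0_1 : List (List ℤ) := [[0, -1, 1, 1], [-1, 1, 1, -1], [1, 2, -1, 0]]
/-- layer -/ def lyRF_0_2 : List (List ℤ) := [[0, 1, -1, 2], [0, -1, 2, -1], [-1, 3, -1, 0], [3, -2, 1, 0]]
/-- layer -/ def lyRF_0_3 : List (List ℤ) := [[1, -1, 0, 2], [0, 1, 1, -2], [0, 3, -2, 1], [2, -3, 2, 0], [-3, 1, 1, 0], [3, 0, -1, 1]]
/-- layer -/ def lyRF_0_4 : List (List ℤ) := [[-1, 0, 0, 2], [1, -1, 2, -2], [0, 3, -1, -1], [3, -3, 1, 1], [-2, -1, 2, 0], [2, 1, -2, 2], [-3, 3, -1, 1], [3, 0, 0, -1]]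
/-- layer -/ def lyRF_0_5 : List (List ℤ) := [[-1, 0, 2, -2], [1, 3, -2, 0], [3, -3, 2, -1], [-3, 0, 1, 1], [3, -1, -1, 2], [-2, 3, -2, 2], [2, 1, 0, -2], [0, -3, 2, 1], [-3, 3, 0, -1]]
/-- layer -/ def lyRF_0_6 : List (List ℤ) := [[-1, 4, -2, 0], [4, -3, 1, 0], [-3, 0, 2, -1], [3, 1, -2, 1], [-3, 2, -1, 2], [3, -1, 1, -2], [1, -3, 1, 2], [-2, 3, 0, -2], [0, 1, -2, 3], [0, -3, 3, -1]]
/-- layer -/ def lyRF_0_7 : List (List ℤ) := [[3, -4, 2, 0], [-4, 1, 1, 0], [4, -1, -1, 1], [-3, 4, -2, 1], [3, 1, -1, -1], [-1, -2, 1, 2], [-3, 2, 1, -2], [1, -1, -1, 3], [1, -3, 3, -2], [0, 1, 1, -3], [0, 3, -3, 2]]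
/-- layer -/ def lyRF_0_8 : List (List ℤ) := [[-3, -1, 2, 0], [3, 0, -2, 2], [-4, 3, -1, 1], [4, -1, 0, -1], [1, -4, 2, 1], [-3, 4, -1, -1], [-1, 0, -1, 3], [-1, -2, 3, -2], [1, -1, 2, -3], [1, 3, -3, 1], [0, 3, -1, -2], [3, -3, 0, 2]]
/-- layer -/ def lyRF_0_9 : List (List ℤ) := [[-3, 3, -2, 2], [3, 0, 0, -2], [-1, -3, 2, 1], [-4, 3, 0, -1], [1, 0, -2, 3], [1, -4, 3, -1], [-1, 0, 2, -3], [-1, 4, -3, 1], [1, 3, -2, -1], [4, -3, 0, 1], [3, -3, 2, -2], [-3, 0, 0, 2]]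
/-- layer -/ def lyRF_0_10 : List (List ℤ) := [[0, -3, 1, 2], [-3, 3, 0, -2], [-1, 1, -2, 3], [-1, -3, 3, -1], [1, 0, 1, -3], [1, 2, -3, 2], [-1, 4, -2, -1], [3, -4, 1, 1], [4, -3, 1, -1], [-4, 1, 0, 1], [-3, 0, 2, -2], [3, 1, -2, 0]]
/-- layer -/ def lyRF_0_11 : List (List ℤ) := [[0, -1, -1, 3], [0, -3, 3, -2], [-1, 1, 1, -3], [-1, 3, -3, 2], [1, 2, -1, -2], [3, -2, -1, 2], [3, -4, 2, -1], [-3, -1, 1, 1], [-4, 1, 1, -1], [4, -1, -1, 0], [-3, 4, -2, 0]]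
/-- layer -/ def lyRF_0_12 : List (List ℤ) := [[0, -1, 2, -3], [0, 3, -3, 1], [-1, 3, -1, -2], [2, -3, 0, 2], [3, -2, 1, -2], [-3, 1, -1, 2], [-3, -1, 2, -1], [3, 0, -2, 1], [-4, 3, -1, 0], [1, -4, 2, 0]]
/-- layer -/ def lyRF_0_13 : List (List ℤ) := [[0, 3, -2, -1], [3, -3, 0, 1], [2, -3, 2, -2], [-2, -1, 0, 2], [-3, 1, 1, -2], [3, 0, -1, -1], [-3, 3, -2, 1], [-1, -3, 2, 0], [1, 0, -2, 2]]
/-- layer -/ def lyRF_0_14 : List (List ℤ) := [[3, -3, 1, -1], [-3, 0, 0, 1], [-2, -1, 2, -2], [2, 1, -2, 0], [-3, 3, -1, -1], [0, -3, 1, 1], [-1, 1, -2, 2], [1, 0, 0, -2]]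
/-- layer -/ def lyRF_0_15 : List (List ℤ) := [[-3, 0, 1, -1], [3, -1, -1, 0], [-2, 3, -2, 0], [0, -3, 2, -1], [0, -1, -1, 2], [-1, 1, 0, -2]]
/-- layer -/ def lyRF_0_16 : List (List ℤ) := [[-3, 2, -1, 0], [1, -3, 1, 0], [0, 1, -2, 1], [0, -1, 1, -2]]
/-- layer -/ def lyRF_0_17 : List (List ℤ) := [[-1, -2, 1, 0], [1, -1, -1, 1], [0, 1, -1, -1]]
/-- layer -/ def lyRF_0_18 : List (List ℤ) := [[-1, 0, -1, 1], [1, -1, 0, -1]]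
/-- layer -/ def lyRF_0_19 : List (List ℤ) := [[-1, 0, 0, -1]]
theorem tpoinRF_0 (hk : ∀ w ∈ RF.W1, 2 ∣ ℓ w) (q : ℕ) : RF.poin {j | j.1 ∈ [0, 1, 2, 3]} 2 q = sumD 2 q [1, 0, 1, 0, 0, 0, 1, 0, 1, 0, 0, 0, 1, 0, 1, 0, 0, 0, 1, 0, 1] * RF.poin {j | j.1 ∈ [1, 2]} 2 q :=
  RSym.poin_step (ρ := gF4.ρ) (fun _ => rfl) hk hAF4 (by decide) (by unfold RSym.Inv; decide +kernel) (μ := [1, 0, 0, 1])
    (Ls := [lyRF_0_0, lyRF_0_1, lyRF_0_2, lyRF_0_3, lyRF_0_4, lyRF_0_5, lyRF_0_6, lyRF_0_7, lyRF_0_8, lyRF_0_9, lyRF_0_10, lyRF_0_11, lyRF_0_12, lyRF_0_13, lyRF_0_14, lyRF_0_15, lyRF_0_16, lyRF_0_17, lyRF_0_18, lyRF_0_19]) (by decide) (by decide +kernel) (by rw [tabF4_eq]; decide +kernel) q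
/-- layer -/ def lyRF_1_0 : List (List ℤ) := [[1, -1, 2, 0], [0, 3, -1, 1]]
/-- layer -/ def lyRF_1_1 : List (List ℤ) := [[1, 3, -2, 2], [3, -3, 2, 1]]
/-- layer -/ def lyRF_1_2 : List (List ℤ) := [[4, -3, 1, 2], [3, 1, -2, 3]]
/-- layer -/ def lyRF_1_3 : List (List ℤ) := [[4, -1, -1, 3]]
theorem tpoinRF_1 (hk : ∀ w ∈ RF.W1, 2 ∣ ℓ w) (q : ℕ) : RF.poin {j | j.1 ∈ [1, 2]} 2 q = sumD 2 q [1, 0, 0, 0, 1] * RF.poin {j | j.1 ∈ ([] : List ℕ)} 2 q :=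
  RSym.poin_step (ρ := gF4.ρ) (fun _ => rfl) hk hAF4 (by decide) (by unfold RSym.Inv; decide +kernel) (μ := [0, 1, 1, 0])
    (Ls := [lyRF_1_0, lyRF_1_1, lyRF_1_2, lyRF_1_3]) (by decide) (by decide +kernel) (by rw [tabF4_eq]; decide +kernel) q
theorem tpoinRF (hk : ∀ w ∈ RF.W1, 2 ∣ ℓ w) (q : ℕ) : RF.poin Set.univ 2 q = (1 * q ^ 0 + 1 * q ^ 1 + 1 * q ^ 3 + 1 * q ^ 4 + 1 * q ^ 6 + 1 * q ^ 7 + 1 * q ^ 9 + 1 * q ^ 10) * (1 * q ^ 0 + 1 * q ^ 2) := by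
  rw [RSym.poin_all _ (L := [0, 1, 2, 3]) (by decide), tpoinRF_0 hk, tpoinRF_1 hk, RSym.poin_nil]
  simp only [sumD, List.length_cons, List.length_nil, Finset.sum_range_succ, Finset.sum_range_zero, List.getD_cons_succ, List.getD_cons_zero, Nat.reduceAdd, Nat.reduceDiv]; ring
/-- root symmetry -/
noncomputable abbrev RG : RSym chevG2 := sim_gG2.rsym chk_gG2
/-- layer -/ def lyRG_0_0 : List (List ℤ) := [[-1, 2], [4, -1]]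
/-- layer -/ def lyRG_0_1 : List (List ℤ) := [[5, -2], [-4, 3]]
/-- layer -/ def lyRG_0_2 : List (List ℤ) := [[-5, 3], [5, -3]]
/-- layer -/ def lyRG_0_3 : List (List ℤ) := [[4, -3], [-5, 2]]
/-- layer -/ def lyRG_0_4 : List (List ℤ) := [[-4, 1], [1, -2]]
/-- layer -/ def lyRG_0_5 : List (List ℤ) := [[-1, -1]]
theorem tpoinRG_0 (hk : ∀ w ∈ RG.W1, 2 ∣ ℓ w) (q : ℕ) : RG.poin {j | j.1 ∈ [0, 1]} 2 q = sumD 2 q [1, 0, 0, 0, 0, 0, 1] * RG.poin {j | j.1 ∈ ([] : List ℕ)} 2 q :=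
  RSym.poin_step (ρ := gG2.ρ) (fun _ => rfl) hk hAG2 (by decide) (by unfold RSym.Inv; decide +kernel) (μ := [1, 1])
    (Ls := [lyRG_0_0, lyRG_0_1, lyRG_0_2, lyRG_0_3, lyRG_0_4, lyRG_0_5]) (by decide) (by decide +kernel) (by rw [tabG2_eq]; decide +kernel) q
theorem tpoinRG (hk : ∀ w ∈ RG.W1, 2 ∣ ℓ w) (q : ℕ) : RG.poin Set.univ 2 q = (1 * q ^ 0 + 1 * q ^ 3) := by
  rw [RSym.poin_all _ (L := [0, 1]) (by decide), tpoinRG_0 hk, RSym.poin_nil]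
  simp only [sumD, List.length_cons, List.length_nil, Finset.sum_range_succ, Finset.sum_range_zero, List.getD_cons_succ, List.getD_cons_zero, Nat.reduceAdd, Nat.reduceDiv]; ring
/-- root symmetry -/
noncomputable abbrev RB : RSym chevB2 := sim_gB2.rsym chk_gB2
/-- layer -/ def lyRB_0_0 : List (List ℤ) := [[-1, 2], [3, -1]]
/-- layer -/ def lyRB_0_1 : List (List ℤ) := [[3, -2], [-3, 2]]
/-- layer -/ def lyRB_0_2 : List (List ℤ) := [[-3, 1], [1, -2]]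
/-- layer -/ def lyRB_0_3 : List (List ℤ) := [[-1, -1]]
theorem tpoinRB_0 (hk : ∀ w ∈ RB.W1, 2 ∣ ℓ w) (q : ℕ) : RB.poin {j | j.1 ∈ [0, 1]} 2 q = sumD 2 q [1, 0, 0, 0, 1] * RB.poin {j | j.1 ∈ ([] : List ℕ)} 2 q :=
  RSym.poin_step (ρ := gB2.ρ) (fun _ => rfl) hk hAB2 (by decide) (by unfold RSym.Inv; decide +kernel) (μ := [1, 1])
    (Ls := [lyRB_0_0, lyRB_0_1, lyRB_0_2, lyRB_0_3]) (by decide) (by decide +kernel) (by rw [tabB2_eq]; decide +kernel) q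
theorem tpoinRB (hk : ∀ w ∈ RB.W1, 2 ∣ ℓ w) (q : ℕ) : RB.poin Set.univ 2 q = (1 * q ^ 0 + 1 * q ^ 2) := by
  rw [RSym.poin_all _ (L := [0, 1]) (by decide), tpoinRB_0 hk, RSym.poin_nil]
  simp only [sumD, List.length_cons, List.length_nil, Finset.sum_range_succ, Finset.sum_range_zero, List.getD_cons_succ, List.getD_cons_zero, Nat.reduceAdd, Nat.reduceDiv]; ring

end H12
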