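import Cfsg.Agent.H12.Rep
import Cfsg.Agent.H12.Perf
import Cfsg.Agent.H11.Syl3
import Cfsg.Agent.S1059
import Cfsg.Prelude.Def_G2

/-! The automorphism group of Zorn's split octonions: the representation `repZ` of `G₂`, the order (`card_zorn`), the subgroup `SO₄` (`zhom`)
and the Sylow `2`-subgroups (`ex_zorn`). -/

set_option autoImplicit false

namespace H12
open Cfsg.Lie Matrix Subgroup H11 StSys
open scoped MatrixGroups

theorem card_le_orbit {G X : Type*} [Group G] [MulAction G X] (K : Subgroup G) (x : X) {Y : Type*} [Finite Y] (f : X → Y)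
    (hf : ∀ g ∈ K, ∀ g' ∈ K, f (g • x) = f (g' • x) → g • x = g' • x) {A : Set Y} (hA : ∀ g ∈ K, f (g • x) ∈ A) :
    Nat.card K ≤ A.ncard * Nat.card ↥(K ⊓ MulAction.stabilizer G x) := by
  rw [← (MulAction.stabilizer K x).index_mul_card, MulAction.index_stabilizer]
  refine Nat.mul_le_mul (Set.ncard_le_ncard_of_injOn f ?_ ?_) (Nat.card_congr ?_).le
  · rintro _ ⟨g, rfl⟩; exact hA g g.2
  · rintro _ ⟨g, rfl⟩ _ ⟨g', rfl⟩; exact hf g g.2 g' g'.2
  · exact ⟨fun g => ⟨g.1, g.1.2, g.2⟩, fun g => ⟨⟨g, g.2.1⟩, g.2.2⟩, fun _ => rfl, fun _ => rfl⟩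
theorem ex_prod {A B : Type*} [Group A] [Group B] [Finite A] [Finite B] (hA : ∀ Q : Sylow 2 A, Ex 2 Q) (hB : ∀ Q : Sylow 2 B, Ex 2 Q) (P : Sylow 2 (A × B)) :
    Ex 2 P := by
  obtain ⟨Q⟩ : Nonempty (Sylow 2 A) := inferInstance
  obtain ⟨R⟩ : Nonempty (Sylow 2 B) := inferInstance
  obtain ⟨e⟩ := sylow_equiv (T := Q.1.prod R.1) (by
    rw [Nat.card_congr (prodEquiv _ _).toEquiv, Nat.card_prod, Nat.card_prod, card_syl, card_syl, padicValNat.mul Nat.card_pos.ne' Nat.card_pos.ne', pow_add]) P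
  refine Ex.of_equiv (ex_iff.2 fun x hx => mem_exN.2 ⟨hx, ?_⟩) e
  rw [commutator_prod_prod]
  exact ⟨(mem_exN.1 (ex_iff.1 (hA Q) hx.1)).2, (mem_exN.1 (ex_iff.1 (hB R) hx.2)).2⟩
theorem ex_ext_two {G : Type*} [Group G] [Finite G] {Ω : Subgroup G} {d : G} (hd : d ^ 2 = 1) (hn : d ∈ normalizer (Ω : Set G)) (h0 : d ∉ Ω)
    (hex : ∀ Q : Sylow 2 Ω, Ex 2 Q) (hc : padicValNat 2 (Nat.card G) ≤ padicValNat 2 (Nat.card Ω) + 1) (P : Sylow 2 G) : Ex 2 P := by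
  let N := normalizer (Ω : Set G)
  let d' : N := ⟨d, hn⟩
  obtain ⟨T, hT⟩ := (IsPGroup.of_card_dvd_pow (p := 2) (n := 1) (G := zpowers d') (by
    rw [Nat.card_zpowers]; exact orderOf_dvd_of_pow_eq_one (Subtype.ext hd))).exists_le_sylow
  have h1 : d' ∈ T.1 := hT (mem_zpowers _)
  obtain ⟨Q⟩ : Nonempty (Sylow 2 (Ω.subgroupOf N)) := inferInstance
  obtain ⟨e⟩ := sylow_inf_equiv (card_syl T) Q
  have e' := subgroupOfEquivOfLe (le_normalizer (H := Ω))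
  have h2 : T.1 ⊓ Ω.subgroupOf N < T.1 := inf_le_left.lt_of_ne fun h => h0 (h.ge h1).2
  have h3 : padicValNat 2 (Nat.card Ω) < padicValNat 2 (Nat.card N) := by
    have := card_le_of_le h2.le
    have k := mt (eq_of_le_of_card_ge h2.le) h2.ne
    rw [Nat.card_congr e.toEquiv, card_syl, card_syl, Nat.card_congr e'.toEquiv, not_le] at k
    exact (Nat.pow_lt_pow_iff_right one_lt_two).1 k
  have h4 := (padicValNat_dvd_iff_le Nat.card_pos.ne').1 (pow_padicValNat_dvd.trans (card_subgroup_dvd_card N) : 2 ^ _ ∣ _)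
  obtain ⟨e2⟩ := sylow_equiv (T := T.1.map N.subtype) (by rw [card_map_of_injective N.subtype_injective, card_syl]; congr 1; omega) P
  refine Ex.of_equiv (ex_of_gen (X := insert d' ↑(T.1 ⊓ Ω.subgroupOf N)) (fun x hx => ?_) ?_) ((T.1.equivMapOfInjective _ N.subtype_injective).trans e2)
  · by_contra h
    have k : T.1 ⊓ Ω.subgroupOf N < T.1 ⊓ closure (insert d' ↑(T.1 ⊓ Ω.subgroupOf N)) := (le_inf inf_le_left fun y hy => Subgroup.subset_closure (Set.mem_insert_of_mem _ hy)).lt_of_ne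
      fun h => h0 (h.ge ⟨h1, Subgroup.subset_closure (Set.mem_insert _ _)⟩).2
    have k' : T.1 ⊓ closure (insert d' ↑(T.1 ⊓ Ω.subgroupOf N)) < T.1 := inf_le_left.lt_of_ne fun k => h (k.ge hx).2
    obtain ⟨n, hn⟩ := (Nat.dvd_prime_pow Nat.prime_two).1 (card_syl T ▸ card_dvd_of_le k'.le)
    have a1 := mt (eq_of_le_of_card_ge k.le) k.ne
    have a2 := mt (eq_of_le_of_card_ge k'.le) k'.ne
    rw [hn.2, not_le] at a1 a2
    rw [Nat.card_congr e.toEquiv, card_syl, Nat.card_congr e'.toEquiv, Nat.pow_lt_pow_iff_right one_lt_two] at a1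
    rw [card_syl, Nat.pow_lt_pow_iff_right one_lt_two] at a2
    omega
  · rintro x (rfl | hx)
    · exact exN_of_pow h1 (Subtype.ext hd)
    · exact exN_mono inf_le_left (ex_iff.1 (Ex.of_equiv (ex_sylow_equiv e' hex Q) e.symm) hx)

variable {F : Type*} [Field F]

def e8 (r : ℕ) : Sp (Fin 8) := [[(2, 1, 1), (4, 5, -1)], [(3, 1, 1), (4, 6, -1)], [(0, 1, 1), (2, 6, 1), (3, 5, -1), (4, 0, -1), (4, 7, 1), (7, 1, -1)],
  [(0, 5, 1), (2, 0, -1), (2, 7, 1), (4, 3, -1), (6, 1, 1), (7, 5, -1)], [(0, 6, 1), (3, 0, -1), (3, 7, 1), (4, 2, 1), (5, 1, -1), (7, 6, -1)],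
  [(2, 3, -1), (6, 5, 1)], [(3, 2, -1), (5, 6, 1)], [(0, 3, -1), (1, 5, -1), (2, 4, 1), (6, 0, 1), (6, 7, -1), (7, 3, 1)],
  [(0, 2, -1), (1, 6, 1), (3, 4, -1), (5, 0, 1), (5, 7, -1), (7, 2, 1)], [(0, 4, -1), (1, 0, 1), (1, 7, -1), (5, 3, -1), (6, 2, 1), (7, 4, 1)],
  [(1, 3, 1), (6, 4, -1)], [(1, 2, 1), (5, 4, -1)]].getD r []
def e28 (r : ℕ) : Sp (Fin 8) := [[], [], [(4, 1, -1)], [(2, 5, -1)], [(3, 6, -1)], [], [], [(6, 3, -1)], [(5, 2, -1)], [(1, 4, -1)], [], []].getD r []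
def ω8 (a : Fin 8) (i : ℕ) : ℤ := ent [[0, 0], [1, 0], [1, -1], [-2, 1], [-1, 0], [-1, 1], [2, -1], [0, 0]] a i
theorem repZ : RepChk (tab chevG2) e8 e28 ω8 := by rw [tabG2_eq]; decide +kernel
theorem spM_mulVec {m : Type} [Fintype m] [DecidableEq m] (L : Sp m) (x : m → F) (a : m) :
    (spM F L *ᵥ x) a = (L.map fun c => if a = c.1 then c.2.2 * x c.2.1 else 0).sum := by
  induction L with
  | nil => simp
  | cons c L ih => simp [add_mulVec, ih, single_mulVec, Function.update_apply]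
theorem zorn_ext {x y : Fin 8 → F} : x = y ↔ x 0 = y 0 ∧ x 1 = y 1 ∧ x 2 = y 2 ∧ x 3 = y 3 ∧ x 4 = y 4 ∧ x 5 = y 5 ∧ x 6 = y 6 ∧ x 7 = y 7 := by
  simp [funext_iff, Fin.forall_fin_succ]
theorem zorn_app (x y : Fin 8 → F) : zornMul x y 0 = x 0 * y 0 + (x 1 * y 4 + x 2 * y 5 + x 3 * y 6) ∧
    zornMul x y 1 = x 0 * y 1 + y 7 * x 1 - (x 5 * y 6 - x 6 * y 5) ∧ zornMul x y 2 = x 0 * y 2 + y 7 * x 2 - (x 6 * y 4 - x 4 * y 6) ∧
    zornMul x y 3 = x 0 * y 3 + y 7 * x 3 - (x 4 * y 5 - x 5 * y 4) ∧ zornMul x y 4 = y 0 * x 4 + x 7 * y 4 + (x 2 * y 3 - x 3 * y 2) ∧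
    zornMul x y 5 = y 0 * x 5 + x 7 * y 5 + (x 3 * y 1 - x 1 * y 3) ∧ zornMul x y 6 = y 0 * x 6 + x 7 * y 6 + (x 1 * y 2 - x 2 * y 1) ∧
    zornMul x y 7 = x 4 * y 1 + x 5 * y 2 + x 6 * y 3 + x 7 * y 7 := ⟨rfl, rfl, rfl, rfl, rfl, rfl, rfl, rfl⟩
theorem repZ_le : (repZ.sys F).T ≤ G2 F := by
  have : ∀ r : Φ chevG2, r.1 ∈ [4, 5, 6, 7] → ∀ t, (repZ.sys F).x r t ∈ G2 F := fun r hr t x y => by
    change repX e8 e28 F r t *ᵥ _ = zornMul (repX e8 e28 F r t *ᵥ _) (repX e8 e28 F r t *ᵥ _)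
    generalize r.1 = r at hr
    simp only [zorn_ext, zorn_app, repX, add_mulVec, smul_mulVec, one_mulVec, Pi.add_apply, Pi.smul_apply, spM_mulVec, smul_eq_mul]
    fin_cases hr <;> simp [e8, e28, zorn_app] <;> and_intros <;> ring
  exact T_le_of_sim (fun i => this _ (by revert i; decide +kernel)) fun i => this _ (by revert i; decide +kernel)
theorem zorn_mul {g : GL (Fin 8) F} (h : g ∈ G2 F) (x y : Fin 8 → F) : g • zornMul x y = zornMul (g • x) (g • y) := h x y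
theorem zorn_sq {x : Fin 8 → F} (h : zornMul x x = 0) : x 7 = -x 0 ∧ x 0 ^ 2 + x 1 * x 4 + x 2 * x 5 + x 3 * x 6 = 0 := by
  simp only [zorn_ext, zorn_app, Pi.zero_apply] at h
  grind
theorem card_zorn_le [Finite F] : Nat.card (G2 F) ≤ (Nat.card F ^ 6 - 1) * (((Nat.card F ^ 2 - 1) * Nat.card F ^ 3) * Nat.card F ^ 3) := by
  classical
  let b : Fin 8 → Fin 8 → F := fun i => Pi.single i 1
  have b0 : ∀ (g : GL (Fin 8) F) i, g • b i ≠ 0 := fun g i => by rw [Ne, smul_eq_zero_iff_eq]; simp [b]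
  have s1 : ∀ g ∈ G2 F, ∀ i ∈ [1, 2, 3], (g • b i) 7 = -(g • b i) 0 ∧ _ := fun g hg i hi => zorn_sq (by
    rw [← zorn_mul hg, smul_eq_zero_iff_eq]; fin_cases hi <;> simp [b, zorn_ext, zorn_app])
  have s2 : ∀ g ∈ G2 F, ∀ i ∈ [1, 2], ∀ j ∈ [2, 3], g • b i = b i → (g • b j) (i + 3) = 0 := fun g hg i hi j hj e => by
    have : zornMul (g • b i) (g • b j) + zornMul (g • b j) (g • b i) = 0 := by
      rw [← zorn_mul hg, ← zorn_mul hg, ← smul_add, smul_eq_zero_iff_eq]; fin_cases hi <;> fin_cases hj <;> simp [b, zorn_ext, zorn_app]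
    rw [e] at this
    fin_cases hi <;> simpa [b, zorn_app] using congrFun this 0
  have m1 : zornMul (b 1) (b 2) = b 6 ∧ zornMul (b 2) (b 3) = b 4 ∧ zornMul (b 3) (b 1) = b 5 ∧ zornMul (b 1) (b 4) = b 0 ∧ zornMul (b 4) (b 1) = b 7 ∧
      zornMul (b 0) (b 1) = b 1 := by simp [b, zorn_ext, zorn_app]
  have h1 := card_le_orbit (G2 F) (b 1) (fun x => ((x 1, x 2, x 3), if x 1 ≠ 0 then (x 0, x 5, x 6) else if x 2 ≠ 0 then (x 0, x 4, x 6) else
      if x 3 ≠ 0 then (x 0, x 4, x 5) else (x 4, x 5, x 6))) (fun g hg g' hg' e => by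
      obtain ⟨a1, a2⟩ := s1 g hg 1 (by simp)
      obtain ⟨a3, a4⟩ := s1 g' hg' 1 (by simp)
      generalize g • b 1 = x, g' • b 1 = y at *
      clear s1 s2 m1 b0; rw [zorn_ext]; grind) (A := {0}ᶜ) fun g hg e => b0 g 1 (by
      obtain ⟨a1, a2⟩ := s1 g hg 1 (by simp)
      generalize g • b 1 = x at *
      simp only [Set.mem_singleton_iff, Prod.mk_eq_zero] at e
      obtain ⟨⟨e1, e2, e3⟩, e⟩ := e
      clear s1 s2 m1 b0; simp_all [zorn_ext])
  have s3 : ∀ g ∈ G2 F ⊓ MulAction.stabilizer _ (b 1), ((g • b 2) 2, (g • b 2) 3) ≠ 0 := fun g hg e => b0 g 6 (by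
    obtain ⟨a1, a2⟩ := s1 g hg.1 2 (by simp)
    have a3 := s2 g hg.1 1 (by simp) 2 (by simp) hg.2
    rw [← m1.1, zorn_mul hg.1, hg.2]
    generalize g • b 2 = x at *
    rw [Prod.mk_eq_zero] at e
    clear s1 s2 m1 b0 h1; simp_all [b, zorn_ext, zorn_app])
  have h2 := card_le_orbit (G2 F ⊓ MulAction.stabilizer _ (b 1)) (b 2) (fun x => ((x 2, x 3), x 1, x 0, if x 2 ≠ 0 then x 6 else x 5)) (fun g hg g' hg' e => by
      obtain ⟨a1, a2⟩ := s1 g hg.1 2 (by simp)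
      obtain ⟨a3, a4⟩ := s1 g' hg'.1 2 (by simp)
      have a5 := s2 g hg.1 1 (by simp) 2 (by simp) hg.2
      have a6 := s2 g' hg'.1 1 (by simp) 2 (by simp) hg'.2
      have a7 := s3 g hg
      generalize g • b 2 = x, g' • b 2 = y at *
      clear s1 s2 s3 m1 b0 h1; rw [zorn_ext]; simp at a5 a6 a7; grind) (A := {0}ᶜ ×ˢ Set.univ) fun g hg => ⟨s3 g hg, trivial⟩
  have s4 : ∀ g ∈ (G2 F ⊓ MulAction.stabilizer _ (b 1)) ⊓ MulAction.stabilizer _ (b 2), (g • b 3) 3 = 1 := fun g hg => by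
    have := congrFun (congrArg (g • ·) m1.2.2.2.2.2) 1
    rw [← m1.2.2.2.1, ← m1.2.1] at this
    simpa [zorn_mul hg.1.1, show g • b 1 = b 1 from hg.1.2, show g • b 2 = b 2 from hg.2, b, zorn_app] using this
  have h3 := card_le_orbit ((G2 F ⊓ MulAction.stabilizer _ (b 1)) ⊓ MulAction.stabilizer _ (b 2)) (b 3) (fun x => (x 0, x 1, x 2)) (fun g hg g' hg' e => by
      obtain ⟨a1, a2⟩ := s1 g hg.1.1 3 (by simp)
      obtain ⟨a3, a4⟩ := s1 g' hg'.1.1 3 (by simp)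
      have a5 := s2 g hg.1.1 1 (by simp) 3 (by simp) hg.1.2
      have a6 := s2 g' hg'.1.1 1 (by simp) 3 (by simp) hg'.1.2
      have a7 := s2 g hg.1.1 2 (by simp) 3 (by simp) hg.2
      have a8 := s2 g' hg'.1.1 2 (by simp) 3 (by simp) hg'.2
      have a9 := s4 g hg
      have a0 := s4 g' hg'
      generalize g • b 3 = x, g' • b 3 = y at *
      clear s1 s2 s3 s4 m1 b0 h1 h2; rw [zorn_ext]; simp at a5 a6 a7 a8; grind) (A := Set.univ) fun g hg => trivial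
  rw [show _ ⊓ MulAction.stabilizer _ (b 3) = ⊥ from eq_bot_iff.2 fun g (h : ((g ∈ G2 F ∧ g • b 1 = b 1) ∧ g • b 2 = b 2) ∧ g • b 3 = b 3) => by
    obtain ⟨⟨⟨hg, a1⟩, a2⟩, a3⟩ := h
    have a4 : g • b 4 = b 4 := by rw [← m1.2.1, zorn_mul hg, a2, a3]
    refine Units.ext (ext_of_mulVec_single fun i => show g • b i = 1 *ᵥ b i from ?_)
    rw [one_mulVec]
    fin_cases i
    exacts [m1.2.2.2.1 ▸ by rw [zorn_mul hg, a1, a4], a1, a2, a3, a4, m1.2.2.1 ▸ by rw [zorn_mul hg, a3, a1], m1.1 ▸ by rw [zorn_mul hg, a1, a2],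
      m1.2.2.2.2.1 ▸ by rw [zorn_mul hg, a4, a1]], card_bot, mul_one, Set.ncard_univ] at h3
  rw [Set.ncard_prod, Set.ncard_univ, Set.ncard_compl, Set.ncard_singleton] at h2
  rw [Set.ncard_compl, Set.ncard_singleton] at h1
  simp only [Nat.card_prod] at h1 h2 h3
  refine h1.trans (Nat.mul_le_mul (by ring_nf; rfl) (h2.trans (Nat.mul_le_mul (by ring_nf; rfl) (h3.trans (by ring_nf; rfl)))))
theorem card_zorn [Fintype F] (h : ∃ a : F, a ≠ 0 ∧ a ≠ 1) : Nat.card (G2 F) = Fintype.card F ^ 6 * (Fintype.card F ^ 2 - 1) * (Fintype.card F ^ 6 - 1) := by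
  refine le_antisymm (card_zorn_le.trans (by rw [Nat.card_eq_fintype_card]; ring_nf; rfl)) ?_
  have hT : ((repZ.sys F).restrict _ (x_mem_T _)).T = ⊤ := (restrict_gen _ _ _ _).trans (subgroupOf_self _)
  have : Nontrivial (repZ.sys F).T := ⟨⟨⟨_, x_mem_T _ ⟨6, by decide⟩ 1⟩, 1, fun e => by
    simpa [repX, e8, e28, spM] using congrArg (fun g : (repZ.sys F).T => g.1.1 5 6) e⟩⟩
  obtain ⟨e, -⟩ := exists_iso_quot _ hT (simple_of_mem (by simp) fun _ => h).1 (perfect_of_mem (by simp) (fun _ => h) _)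
  rw [← Cfsg.Agent.S1059.result rfl, Nat.card_congr e.toEquiv]
  exact (Nat.card_le_card_of_surjective _ (QuotientGroup.mk'_surjective _)).trans (card_le_of_le repZ_le)

def zmat (g h : Matrix (Fin 2) (Fin 2) F) : Matrix (Fin 8) (Fin 8) F :=
  !![g 0 0 * g 1 1, -(g 0 0 * g 1 0), 0, 0, g 0 1 * g 1 1, 0, 0, -(g 0 1 * g 1 0);
    -(g 0 0 * g 0 1), g 0 0 * g 0 0, 0, 0, -(g 0 1 * g 0 1), 0, 0, g 0 0 * g 0 1;
    0, 0, g 1 1 * h 0 0, g 1 1 * h 0 1, 0, g 1 0 * h 0 1, -(g 1 0 * h 0 0), 0;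
    0, 0, g 1 1 * h 1 0, g 1 1 * h 1 1, 0, g 1 0 * h 1 1, -(g 1 0 * h 1 0), 0;
    g 1 0 * g 1 1, -(g 1 0 * g 1 0), 0, 0, g 1 1 * g 1 1, 0, 0, -(g 1 0 * g 1 1);
    0, 0, g 0 1 * h 1 0, g 0 1 * h 1 1, 0, g 0 0 * h 1 1, -(g 0 0 * h 1 0), 0;
    0, 0, -(g 0 1 * h 0 0), -(g 0 1 * h 0 1), 0, -(g 0 0 * h 0 1), g 0 0 * h 0 0, 0;
    -(g 0 1 * g 1 0), g 0 0 * g 1 0, 0, 0, -(g 0 1 * g 1 1), 0, 0, g 0 0 * g 1 1]
theorem zmat_mul (g h g' h' : Matrix (Fin 2) (Fin 2) F) : zmat (g * g') (h * h') = zmat g h * zmat g' h' := by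
  ext i j; fin_cases i <;> fin_cases j <;> simp [zmat, mul_apply, Fin.sum_univ_succ] <;> ring
theorem zmat_aut {g h : Matrix (Fin 2) (Fin 2) F} (e : g.det = h.det) (x y : Fin 8 → F) :
    g.det • zmat g h *ᵥ zornMul x y = zornMul (zmat g h *ᵥ x) (zmat g h *ᵥ y) := by
  rw [det_fin_two, det_fin_two] at e
  ext i; fin_cases i <;> simp [zmat, zornMul, dot3, cross3, mulVec, dotProduct, Fin.sum_univ_succ, det_fin_two] <;> grind
theorem zmat_smul (c : F) : zmat (c • (1 : Matrix _ _ F)) (c • 1) = (c * c) • 1 := by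
  ext i j; fin_cases i <;> fin_cases j <;> simp [zmat]
/-- the action of `GL₂ × GL₂` -/
noncomputable def zhom : GL (Fin 2) F × GL (Fin 2) F →* GL (Fin 8) F := MonoidHom.toHomUnits
  { toFun := fun g => g.1.1.det⁻¹ • zmat g.1.1 g.2.1
    map_one' := by simpa using zmat_smul (1 : F)
    map_mul' := fun a b => by simp [zmat_mul, smul_smul, mul_comm] }
theorem coe_zhom (g : GL (Fin 2) F × GL (Fin 2) F) : (zhom g).1 = g.1.1.det⁻¹ • zmat g.1.1 g.2.1 := rfl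
theorem zhom_mem {g : GL (Fin 2) F × GL (Fin 2) F} (h : g.1.1.det = g.2.1.det) : zhom g ∈ G2 F := fun x y => by
  have k : ∀ (c : F) (x y : Fin 8 → F), zornMul (c • x) (c • y) = (c * c) • zornMul x y := fun c x y => by
    simp only [zorn_ext, zorn_app, Pi.smul_apply, smul_eq_mul]; refine ⟨?_, ?_, ?_, ?_, ?_, ?_, ?_, ?_⟩ <;> ring
  simp only [Units.coeHom_apply, coe_zhom, smul_mulVec, k, ← zmat_aut h, smul_smul]
  rw [inv_mul_cancel_right₀ g.1.det_ne_zero]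
theorem ex_zorn [Fintype F] (hF : Odd (Fintype.card F)) (P : Sylow 2 (G2 F)) : Ex 2 P := by
  have q1 := Nat.odd_iff.1 hF
  have q2 := Fintype.one_lt_card (α := F)
  have h2 := two_ne_zero_iff_odd.2 hF
  let ρ : SL(2, F) × SL(2, F) →* G2 F := (zhom.comp (SpecialLinearGroup.toGL.prodMap SpecialLinearGroup.toGL)).codRestrict _ fun g => zhom_mem (by simp)
  obtain ⟨δ, hδ⟩ := FiniteField.exists_nonsquare (F := F) fun e => by have := FiniteField.even_card_iff_char_two.1 e; omega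
  have δ0 : δ ≠ 0 := by rintro rfl; exact hδ ⟨0, by simp⟩
  let c : GL (Fin 2) F := GeneralLinearGroup.mkOfDetNeZero !![0, 1; -δ, 0] (by simpa)
  have k : ∀ g : SL(2, F), ∃ g' : SL(2, F), SpecialLinearGroup.toGL g' = c * SpecialLinearGroup.toGL g * c⁻¹ := fun g =>
    H10.range_toGL.ge ((MonoidHom.normal_ker _).conj_mem _ (H10.range_toGL.le ⟨g, rfl⟩) c)
  have c1 : padicValNat 2 (Nat.card SL(2, F)) = padicValNat 2 (Fintype.card F ^ 2 - 1) := by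
    rw [H10.card_SL2, mul_assoc, ← pow_one (Fintype.card F), val_odd_mul q1 (Nat.mul_pos (by simp; omega) (by simp)).ne', pow_one, mul_comm,
      ← Nat.sq_sub_sq, one_pow]
  have c2 : Nat.card ρ.ker ∣ 2 ^ 1 := (card_dvd_of_le (show ρ.ker ≤ zpowers (-1, -1) from fun g hg => by
    have e := congrArg (fun g : G2 F => g.1.1) hg
    have e1 := g.1.det_coe
    simp only [ρ, ← Matrix.ext_iff, Fin.forall_fin_succ] at e
    simp [coe_zhom, zmat] at e
    rw [det_fin_two] at e1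
    rcases mul_self_eq_one_iff.1 e.2.1.2.1 with h | h
    · exact (show 1 = g from by ext i j <;> fin_cases i <;> fin_cases j <;> simp <;> grind) ▸ one_mem _
    · exact (show (-1, -1) = g from by ext i j <;> fin_cases i <;> fin_cases j <;> simp <;> grind) ▸ mem_zpowers _)).trans
      (by rw [Nat.card_zpowers]; exact orderOf_dvd_of_pow_eq_one (by simp))
  refine ex_ext_two (Ω := ρ.range) (d := ⟨zhom (c, c), zhom_mem rfl⟩) (Subtype.ext (Units.ext ?_)) (mem_normalizer_fintype ?_) ?_ (fun Q => ?_) ?_ P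
  · have : (c ^ 2).1 = (-δ) • 1 := by ext i j; fin_cases i <;> fin_cases j <;> simp [c, sq, mul_apply]
    change (zhom (c, c) ^ 2).1 = 1
    rw [← map_pow, coe_zhom, Prod.pow_fst, Prod.pow_snd, this, zmat_smul]
    simp [smul_smul, sq, δ0, -neg_smul, mul_mul_mul_comm δ⁻¹ δ⁻¹ δ δ]
  · rintro _ ⟨g, rfl⟩
    obtain ⟨a, ha⟩ := k g.1
    obtain ⟨b, hb⟩ := k g.2
    exact ⟨(a, b), Subtype.ext (by simp [ρ, ← map_inv, ← map_mul, ha, hb]; rfl)⟩
  · rintro ⟨g, e⟩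
    have := congrArg (fun g : G2 F => g.1.1 1 4) e
    simp [ρ, coe_zhom, zmat, c] at this
    exact hδ ⟨(g.1 0 1)⁻¹, by rw [← mul_inv, this, inv_inv]⟩
  · obtain ⟨R, rfl⟩ := Sylow.mapSurjective_surjective ρ.rangeRestrict_surjective 2 Q
    exact (ex_prod (ex_sl_two (by simpa)) (ex_sl_two (by simpa)) R).of_surj _ (ρ.rangeRestrict.subgroupMap_surjective _)
  · have e := congrArg (padicValNat 2) (card_eq_card_quotient_mul_card_subgroup ρ.ker)
    rw [Nat.card_congr (QuotientGroup.quotientKerEquivRange ρ).toEquiv, padicValNat.mul Nat.card_pos.ne' Nat.card_pos.ne', Nat.card_prod,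
      padicValNat.mul Nat.card_pos.ne' Nat.card_pos.ne', c1] at e
    have e' := (padicValNat_dvd_iff_le (by simp)).1 (pow_padicValNat_dvd.trans c2 : 2 ^ _ ∣ _)
    have a1 : 0 < Fintype.card F ^ 2 - 1 := Nat.sub_pos_of_lt (Nat.one_lt_pow (by simp) q2)
    have a2 : 0 < Fintype.card F ^ 6 - 1 := Nat.sub_pos_of_lt (Nat.one_lt_pow (by simp) q2)
    rw [card_zorn ⟨-1, by simp, fun e => h2 (by linear_combination -e)⟩, mul_assoc, val_odd_mul q1 (by positivity), padicValNat.mul a1.ne' a2.ne',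
      val_pow_sub q1 q2 2, padicValNat.eq_zero_of_not_dvd (n := 2 + 1) (by decide)]
    rw [padicValNat.prime_pow] at e'; omega

end H12
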